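import Groth.Agent.Sga4B.SmoothNormal
import Groth.Agent.Ega1.GenPts
import Groth.Agent.Sga3C.LocConn
import Mathlib.RingTheory.Spectrum.Prime.Topology
import Mathlib.RingTheory.DiscreteValuationRing.Basic
import Mathlib.RingTheory.LocalRing.ResidueField.Basic
import Mathlib.AlgebraicGeometry.Morphisms.Smooth

/-!
# Connected components of the special fibre
-/

set_option autoImplicit false
universe u

open CategoryTheory AlgebraicGeometry Limits TopologicalSpace

namespace K486.CompTop

/-- A connected smooth scheme over a field is integral. -/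
theorem isIntegral_of_connected {k : Type u} [Field k] {X : Scheme.{u}} (f : X ⟶ Spec (CommRingCat.of k))
    [Smooth f] [ConnectedSpace X] : IsIntegral X := by
  have h1 : IsLocallyNoetherian X := LocallyOfFiniteType.isLocallyNoetherian f
  rw [Groth.Agent.Ega1.GenPts.isIntegral_iff]
  exact ⟨inferInstance, fun x => (Groth.Agent.Sga4B.SmoothNormal.isNormalScheme_of_smooth f x).1⟩

theorem locallyConnected (B : Type u) [CommRing B] [IsNoetherianRing B] : LocallyConnectedSpace (PrimeSpectrum B) := by
  refine Groth.Agent.Sga3C.LocConn.locallyConnectedSpace_of_locally_noetherian _ fun x =>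
    ⟨Set.univ, isOpen_univ, trivial, ?_⟩
  infer_instance

/-- The connected component of a point of the spectrum of a smooth algebra over a field. -/
theorem exists_idem {k : Type u} [Field k] {B : Type u} [CommRing B] [IsNoetherianRing B]
    (s : Spec (CommRingCat.of B) ⟶ Spec (CommRingCat.of k)) [Smooth s] (z₀ : PrimeSpectrum B) :
    ∃ e : B, IsIdempotentElem e ∧ (∀ z, z ∈ connectedComponent z₀ ↔ e ∉ z.asIdeal) ∧
      IsDomain (Localization.Away e) := by
  have := locallyConnected B
  obtain ⟨e, he, hU⟩ := PrimeSpectrum.exists_idempotent_basicOpen_eq_of_isClopen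
    (isClopen_connectedComponent (x := z₀))
  refine ⟨e, he, fun z => by rw [hU]; rfl, ?_⟩
  let φ := PrimeSpectrum.comap (algebraMap B (Localization.Away e))
  have hφ := PrimeSpectrum.localization_away_isOpenEmbedding (Localization.Away e) e
  have hr : Set.range φ = connectedComponent z₀ := by
    rw [hU]
    exact PrimeSpectrum.localization_away_comap_range (Localization.Away e) e
  have hpre : _root_.IsPreconnected (Set.univ : Set (PrimeSpectrum (Localization.Away e))) := by
    rw [← hφ.toIsInducing.isPreconnected_image, Set.image_univ]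
    change _root_.IsPreconnected (Set.range φ)
    rw [hr]
    exact isPreconnected_connectedComponent
  have hne : Nonempty (PrimeSpectrum (Localization.Away e)) := by
    obtain ⟨y, -⟩ := (hr ▸ mem_connectedComponent : z₀ ∈ Set.range φ)
    exact ⟨y⟩
  have hconn : ConnectedSpace (Spec (CommRingCat.of (Localization.Away e))) := by
    have : ConnectedSpace (PrimeSpectrum (Localization.Away e)) :=
      { isPreconnected_univ := hpre, toNonempty := hne }
    exact this
  have himm : IsOpenImmersion (Spec.map (CommRingCat.ofHom (algebraMap B (Localization.Away e)))) :=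
    IsOpenImmersion.of_isLocalization e
  have hint := isIntegral_of_connected (Spec.map (CommRingCat.ofHom (algebraMap B (Localization.Away e))) ≫ s)
  exact (affine_isIntegral_iff _).1 hint

section prime

variable {R : Type u} [CommRing R] {π : R} {A : Type u} [CommRing A] [Algebra R A]

theorem prime_of (hreg : ∀ a : A, algebraMap R A π * a = 0 → a = 0) (f : A)
    (hdom : IsDomain (Localization.Away (Ideal.Quotient.mk (Ideal.span {algebraMap R A π}) f))) :
    Prime (algebraMap R (Localization.Away f) π) := by
  let I := Ideal.span {algebraMap R A π}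
  let C := Localization.Away f
  let D := Localization.Away (Ideal.Quotient.mk I f)
  let q : C →+* D := IsLocalization.Away.lift (S := C) f
    (g := (algebraMap (A ⧸ I) D).comp (Ideal.Quotient.mk I))
    (show IsUnit (algebraMap (A ⧸ I) D (Ideal.Quotient.mk I f)) from IsLocalization.Away.algebraMap_isUnit _)
  have hq : ∀ a : A, q (algebraMap A C a) = algebraMap (A ⧸ I) D (Ideal.Quotient.mk I a) := fun a =>
    IsLocalization.Away.lift_eq f _ a
  have hπq : q (algebraMap R C π) = 0 := by
    rw [IsScalarTower.algebraMap_apply R A C, hq, Ideal.Quotient.eq_zero_iff_mem.2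
      (Ideal.mem_span_singleton_self _), map_zero]
  have hfu : IsUnit (algebraMap A C f) := IsLocalization.Away.algebraMap_isUnit f
  have key : ∀ c : C, q c = 0 → algebraMap R C π ∣ c := by
    intro c hc
    obtain ⟨n, a, h⟩ := IsLocalization.Away.surj f c
    have h1 : algebraMap (A ⧸ I) D (Ideal.Quotient.mk I a) = 0 := by
      rw [← hq, ← h, map_mul, hc, zero_mul]
    rw [IsLocalization.map_eq_zero_iff (Submonoid.powers (Ideal.Quotient.mk I f))] at h1
    obtain ⟨⟨_, m, rfl⟩, hm⟩ := h1
    have h2 : f ^ m * a ∈ I := by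
      rw [← Ideal.Quotient.eq_zero_iff_mem, map_mul, map_pow]; exact hm
    rw [Ideal.mem_span_singleton] at h2
    obtain ⟨a', ha'⟩ := h2
    have h3 : algebraMap R C π ∣ algebraMap A C f ^ m * (c * algebraMap A C f ^ n) := by
      rw [h, ← map_pow, ← map_mul, ha', map_mul, ← IsScalarTower.algebraMap_apply]
      exact dvd_mul_right _ _
    have h4 : algebraMap A C f ^ m * (c * algebraMap A C f ^ n) = algebraMap A C f ^ (m + n) * c := by ring
    rw [h4] at h3
    exact ((hfu.pow (m + n)).dvd_mul_left).1 h3
  have hC : Nontrivial C := q.domain_nontrivial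
  refine ⟨?_, ?_, ?_⟩
  · intro h0
    rw [IsScalarTower.algebraMap_apply R A C, IsLocalization.map_eq_zero_iff (Submonoid.powers f)] at h0
    obtain ⟨⟨_, m, rfl⟩, hm⟩ := h0
    have h1 : f ^ m = 0 := hreg _ (by rw [mul_comm]; exact hm)
    have h2 := hfu.pow m
    rw [← map_pow, h1, map_zero] at h2
    exact not_isUnit_zero h2
  · intro hu
    have := hu.map q
    rw [hπq] at this
    exact not_isUnit_zero this
  · intro a b hab
    obtain ⟨d, hd⟩ := hab
    have h1 : q a * q b = 0 := by rw [← map_mul, hd, map_mul, hπq, zero_mul]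
    exact (mul_eq_zero.1 h1).imp (key a) (key b)

end prime

section fibre

variable {R : Type u} [CommRing R] [IsLocalRing R] {π : R} (hπ : IsLocalRing.maximalIdeal R = Ideal.span {π})
  {A : Type u} [CommRing A] [Algebra R A]

/-- `R/m → A/π` -/
noncomputable def kap (hπ : IsLocalRing.maximalIdeal R = Ideal.span {π}) :
    IsLocalRing.ResidueField R →+* A ⧸ Ideal.span {algebraMap R A π} :=
  Ideal.Quotient.lift (IsLocalRing.maximalIdeal R)
    ((Ideal.Quotient.mk (Ideal.span {algebraMap R A π})).comp (algebraMap R A)) (by
      intro r hr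
      rw [hπ, Ideal.mem_span_singleton] at hr
      obtain ⟨s, rfl⟩ := hr
      change Ideal.Quotient.mk _ (algebraMap R A (π * s)) = 0
      rw [map_mul, Ideal.Quotient.eq_zero_iff_mem]
      exact Ideal.mul_mem_right _ _ (Ideal.mem_span_singleton_self _))

lemma kap_residue (r : R) : kap (A := A) hπ (IsLocalRing.residue R r) =
    Ideal.Quotient.mk _ (algebraMap R A r) := rfl

theorem isPushout : IsPushout (CommRingCat.ofHom (algebraMap R A))
    (CommRingCat.ofHom (algebraMap R (IsLocalRing.ResidueField R)))
    (CommRingCat.ofHom (Ideal.Quotient.mk (Ideal.span {algebraMap R A π})))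
    (CommRingCat.ofHom (kap (A := A) hπ)) := by
  have h0 : algebraMap R (IsLocalRing.ResidueField R) π = 0 := by
    change IsLocalRing.residue R π = 0
    rw [IsLocalRing.residue_eq_zero_iff, hπ]
    exact Ideal.mem_span_singleton_self π
  refine ⟨⟨?_⟩, ⟨PushoutCocone.IsColimit.mk _
    (fun t => CommRingCat.ofHom (Ideal.Quotient.lift _ t.inl.hom (fun a ha => ?_))) ?_ ?_ ?_⟩⟩
  · ext r; rfl
  · rw [Ideal.mem_span_singleton] at ha
    obtain ⟨s, rfl⟩ := ha
    rw [map_mul]
    have h1 : t.inl.hom (algebraMap R A π) = t.inr.hom (algebraMap R (IsLocalRing.ResidueField R) π) :=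
      congrArg (fun k => CommRingCat.Hom.hom k π) t.condition
    rw [h1, h0, map_zero, zero_mul]
  · intro t
    ext a
    rfl
  · intro t
    ext r
    obtain ⟨r, rfl⟩ := IsLocalRing.residue_surjective r
    exact congrArg (fun k => CommRingCat.Hom.hom k r) t.condition
  · intro t m h1 h2
    ext a
    exact congrArg (fun k => CommRingCat.Hom.hom k a) h1

theorem isPullback : IsPullback
    (Spec.map (CommRingCat.ofHom (Ideal.Quotient.mk (Ideal.span {algebraMap R A π}))))
    (Spec.map (CommRingCat.ofHom (kap (A := A) hπ)))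
    (Spec.map (CommRingCat.ofHom (algebraMap R A)))
    (Spec.map (CommRingCat.ofHom (algebraMap R (IsLocalRing.ResidueField R)))) :=
  isPullback_SpecMap_of_isPushout _ _ _ _ (isPushout hπ)

include hπ in
/-- **The identity component of the special fibre.** -/
theorem exists_comp [IsNoetherianRing A] (hA : Smooth (Spec.map (CommRingCat.ofHom (algebraMap R A))))
    (hreg : ∀ a : A, algebraMap R A π * a = 0 → a = 0)
    (z₀ : PrimeSpectrum (A ⧸ Ideal.span {algebraMap R A π})) :
    ∃ f : A, (∃ a, f * f - f = algebraMap R A π * a) ∧ Prime (algebraMap R (Localization.Away f) π) ∧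
      ∀ z, z ∈ connectedComponent z₀ ↔ Ideal.Quotient.mk (Ideal.span {algebraMap R A π}) f ∉ z.asIdeal := by
  have h1 : Smooth (Spec.map (CommRingCat.ofHom (kap (A := A) hπ))) :=
    MorphismProperty.of_isPullback (P := @Smooth) (isPullback hπ) hA
  obtain ⟨e, he, hc, hd⟩ := exists_idem (Spec.map (CommRingCat.ofHom (kap (A := A) hπ))) z₀
  obtain ⟨f, rfl⟩ := Ideal.Quotient.mk_surjective e
  refine ⟨f, ?_, prime_of hreg f hd, hc⟩
  have h2 : Ideal.Quotient.mk (Ideal.span {algebraMap R A π}) (f * f - f) = 0 := by
    rw [map_sub, map_mul, he.eq, sub_self]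
  rw [Ideal.Quotient.eq_zero_iff_mem, Ideal.mem_span_singleton] at h2
  exact h2

end fibre

end K486.CompTop
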