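import Groth.Agent.Ega2.DVRDominate
import Groth.Agent.Sga4h.ChartDVR
import Groth.Agent.Hensel.Exist

/-!
# Strictly henselian discrete valuation rings dominating a Noetherian local domain
-/

set_option autoImplicit false
universe u

open IsLocalRing

namespace K486.DomDvr

/-- A Noetherian local domain which is not a field is dominated by a strictly henselian discrete
valuation ring. -/
theorem exists_strict_dvr (R : Type u) [CommRing R] [IsDomain R] [IsLocalRing R] [IsNoetherianRing R]
    (h : ¬ IsField R) :
    ∃ (V : Type u) (_ : CommRing V) (_ : IsDomain V) (_ : IsDiscreteValuationRing V)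
      (_ : HenselianLocalRing V) (_ : IsSepClosed (ResidueField V)) (φ : R →+* V),
      IsLocalHom φ ∧ Function.Injective φ := by
  let K := FractionRing R
  have hinj : Function.Injective (algebraMap R K) := IsFractionRing.injective _ _
  have hmax : maximalIdeal R ≠ ⊥ := fun hb => h (isField_iff_maximalIdeal_eq.2 hb)
  obtain ⟨V, hV, hAV, hVm⟩ := Groth.Agent.Ega2.DVRDominate.exists_dvr_of_isLocalRing
    (A := R) (K := K) hinj hmax ∅ (by
      rw [Finset.coe_empty, Set.union_empty, eq_top_iff]
      intro z _
      obtain ⟨a, b, hb, rfl⟩ := IsFractionRing.div_surjective (A := R) z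
      exact div_mem (Subfield.subset_closure ⟨a, rfl⟩) (Subfield.subset_closure ⟨b, rfl⟩))
  let τ : R →+* V := (algebraMap R K).codRestrict V.toSubring hAV
  have hτ : ∀ a, ((τ a : V) : K) = algebraMap R K a := fun _ => rfl
  have hτinj : Function.Injective τ := fun a b hab => hinj (by rw [← hτ, ← hτ, hab])
  have hlocal : IsLocalHom τ := by
    refine ⟨fun a ha => ?_⟩
    by_contra hcon
    have h1 : a ∈ maximalIdeal R := hcon
    have h2 := (hVm a).2 h1
    rw [ValuationSubring.mem_nonunits_iff_exists_mem_maximalIdeal] at h2
    obtain ⟨h3, h4⟩ := h2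
    exact h4 ha
  obtain ⟨W, _, _, _, _, hW, -⟩ := Groth.Agent.Hensel.Exist.exists_isStrictHenselization V
  have h1 : IsDomain W := Groth.Agent.Sga4h.ChartDVR.isDomain_of_isStrictHenselization V W
  have h2 : IsDiscreteValuationRing W :=
    Groth.Agent.Sga4h.ChartDVR.isDiscreteValuationRing_of_isStrictHenselization V W
  have h4 : HenselianLocalRing W := Hensel.IsStrictHenselization.henselian V
  have h5 : IsSepClosure (ResidueField V) (ResidueField W) :=
    Hensel.IsStrictHenselization.isSepClosure
  refine ⟨W, inferInstance, h1, h2, h4, h5.sep_closed, (algebraMap V W).comp τ,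
    inferInstance, ?_⟩
  exact (Groth.Agent.Sga4h.ChartDVR.injective_algebraMap V W).comp hτinj

end K486.DomDvr
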