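import Mathlib.Algebra.Module.Basic
import Mathlib.Algebra.Group.Subgroup.Basic
import Mathlib.Algebra.Ring.Int.Units

/-!
# Level two for a group from level two for a subgroup, with an invariant pairing
-/

set_option autoImplicit false

namespace K486.PairAbs

/-- Let `G` act on `M` with a non-degenerate `G`-invariant pairing, and let `H` be a subset of `G`
stable under inversion, with the same fixed vectors as `G` and acting on `M` unipotently of level
two.  Then `G` acts unipotently of level two. -/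
theorem level_two {M : Type*} [AddCommGroup M] {G : Type*} [Group G] (ρ : G → M → M)
    (hadd : ∀ g x y, ρ g (x + y) = ρ g x + ρ g y)
    (hinv : ∀ g x, ρ g⁻¹ (ρ g x) = x) (hinv' : ∀ g x, ρ g (ρ g⁻¹ x) = x)
    (H : Set G) (hH : ∀ h ∈ H, h⁻¹ ∈ H)
    (hlev : ∀ h ∈ H, ∀ h' ∈ H, ∀ x, ρ h (ρ h' x - x) = ρ h' x - x)
    (hfix : ∀ x, (∀ h ∈ H, ρ h x = x) → ∀ g, ρ g x = x)
    {ι : Type*} {C : Type*} [CommGroup C] (E : ι → M → M → C)
    (hl : ∀ n x y z, E n (x + y) z = E n x z * E n y z)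
    (hr : ∀ n x y z, E n x (y + z) = E n x y * E n x z)
    (hE : ∀ n g x y, E n (ρ g x) (ρ g y) = E n x y)
    (hnd : ∀ x, (∀ n y, E n y x = 1) → x = 0) (g g' : G) (x : M) :
    ρ g (ρ g' x - x) = ρ g' x - x := by
  have hl' : ∀ n x y z, E n (x - y) z = E n x z / E n y z := fun n x y z => by
    rw [eq_div_iff_mul_eq', ← hl]; first | rw [sub_add_cancel] | rw [add_sub_cancel]
  have hr' : ∀ n x y z, E n x (y - z) = E n x y / E n x z := fun n x y z => by
    rw [eq_div_iff_mul_eq', ← hr]; first | rw [sub_add_cancel] | rw [add_sub_cancel]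
  have hsub : ∀ g x y, ρ g (x - y) = ρ g x - ρ g y := fun g x y => by
    rw [eq_sub_iff_add_eq, ← hadd, sub_add_cancel]
  -- adjunction
  have hadj : ∀ n g x y, E n x (ρ g y) = E n (ρ g⁻¹ x) y := fun n g x y => by
    rw [← hE n g (ρ g⁻¹ x) y, hinv']
  have h1 : ∀ h ∈ H, ∀ x, ∀ g, ρ g (ρ h x - x) = ρ h x - x := fun h hh x =>
    hfix _ fun h' hh' => hlev h' hh' h hh x
  refine hfix _ (fun h hh => ?_) g
  rw [← sub_eq_zero]
  refine hnd _ fun n y => ?_
  set w := ρ g' x - x with hw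
  rw [hr', hadj, ← hl']
  have h2 := h1 h⁻¹ (hH h hh) y
  set u := ρ h⁻¹ y - y with hu
  rw [hw, hr', hadj, ← hl', h2, sub_self]
  have h3 := hl n 0 0 x
  rw [add_zero] at h3
  exact left_eq_mul.mp h3

end K486.PairAbs
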