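import Groth.Agent.Sga7.H729.Dict
import Groth.Agent.Sga7.H751.PowEtale
import Groth.Agent.EtpbcB.StrHensEquiv

/-!
# Torsion points over separably closed fields
-/

set_option autoImplicit false
universe u

open CategoryTheory CategoryTheory.Limits AlgebraicGeometry MonObj
open MonoidalCategory CartesianMonoidalCategory
open Groth.Agent.Sga7.H729.Dict Groth.Agent.Sga67.TorsionLift

namespace K486.TorsSep

theorem isStrictlyHenselian (Ω : Type u) [Field Ω] [IsSepClosed Ω] :
    EtCoh.IsStrictlyHenselianLocalRing Ω := by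
  have e : Ω ≃+* IsLocalRing.ResidueField Ω :=
    RingEquiv.ofBijective (IsLocalRing.residue Ω)
      ⟨(IsLocalRing.residue Ω).injective, IsLocalRing.residue_surjective⟩
  exact ⟨inferInstance, Groth.Agent.EtpbcB.StrHensEquiv.isSepClosed_of_ringEquiv e⟩

/-- Torsion points with values in an extension of a separably closed field are defined over it. -/
theorem exists_of_torsion (K Ω Ωa : Type u) [Field K] [Field Ω] [Field Ωa] [Algebra K Ω] [Algebra Ω Ωa]
    [Algebra K Ωa] [IsScalarTower K Ω Ωa] [IsSepClosed Ω] (A : Over (Spec (CommRingCat.of K))) [GrpObj A]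
    [IsCommMonObj A] [LocallyOfFiniteType A.hom] (n : ℕ) (hn : (n : K) ≠ 0) (z : sp K Ωa ⟶ A)
    (hz : z ^ n = 1) : ∃ w : sp K Ω ⟶ A, w ^ n = 1 ∧ spMap (IsScalarTower.toAlgHom K Ω Ωa) ≫ w = z := by
  let f : Spec (CommRingCat.of Ω) ⟶ Spec (CommRingCat.of K) := Spec.map (CommRingCat.ofHom (algebraMap K Ω))
  let G := Red.bc f A
  have i1 : Flat G.hom := inferInstance
  have i2 : LocallyOfFinitePresentation G.hom := by
    have : LocallyOfFiniteType G.hom := inferInstanceAs (LocallyOfFiniteType (pullback.snd A.hom f))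
    infer_instance
  have het : Etale (𝟙 G ^ n).left := by
    apply Groth.Agent.Sga7.H751.PowEtale.etale_pow
    intro p h0
    have hu : IsUnit (n : Ω) := by
      rw [isUnit_iff_ne_zero]
      intro h1
      exact hn ((algebraMap K Ω).injective (by rw [map_natCast, h1, map_zero]))
    let ρ : Ω →+* (Spec (CommRingCat.of Ω)).residueField p :=
      (((Spec (CommRingCat.of Ω)).evaluation ⊤ p trivial).hom).comp
        (Scheme.ΓSpecIso (CommRingCat.of Ω)).inv.hom
    have h3 := hu.map ρ
    rw [map_natCast, h0] at h3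
    exact not_isUnit_zero h3
  have hw : Spec.map (CommRingCat.ofHom (algebraMap K Ωa)) =
      Spec.map (CommRingCat.ofHom (algebraMap Ω Ωa)) ≫ f := by
    change _ = Spec.map _ ≫ Spec.map _
    rw [← Spec.map_comp, ← CommRingCat.ofHom_comp, ← IsScalarTower.algebraMap_eq]
  let t : (Over.map f).obj (sp Ω Ωa) ⟶ sp K Ωa := Over.homMk (𝟙 _) (by
    change 𝟙 _ ≫ Spec.map (CommRingCat.ofHom (algebraMap K Ωa)) =
      Spec.map (CommRingCat.ofHom (algebraMap Ω Ωa)) ≫ f
    rw [Category.id_comp, hw])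
  let z' : sp Ω Ωa ⟶ G := (bcPts f A _).symm (compHom t A z)
  have hz' : z' ^ n = 1 := by
    rw [← map_pow, ← map_pow, hz, map_one, map_one]
  have hl : IsLocalHom (algebraMap Ω Ωa) := inferInstance
  obtain ⟨a, ha1, ha2⟩ := Groth.Agent.Sga7.H729.TorsionSec.exists_sec_of_pow_eq_one
    (G := G) (n := n) (isStrictlyHenselian Ω) (T := Ωa) z' hz'
  let t' : sp K Ω ⟶ (Over.map f).obj (𝟙_ (Over (Spec (CommRingCat.of Ω)))) := Over.homMk (𝟙 _) (by
    change 𝟙 _ ≫ 𝟙 _ ≫ f = f
    simp)
  refine ⟨compHom t' A (bcPts f A _ a), ?_, ?_⟩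
  · rw [← map_pow, ← map_pow, ha1, map_one, map_one]
  · have h1 : bcPts f A _ (toUnit _ ≫ a) = compHom t A z := by
      rw [ha2]
      exact MulEquiv.apply_symm_apply _ _
    have h2 : (bcPts f A (sp Ω Ωa) (toUnit _ ≫ a)).left = 𝟙 _ ≫ z.left := congrArg (fun q => q.left) h1
    rw [bcPts_left, Category.id_comp] at h2
    ext1
    rw [← h2]
    change _ ≫ 𝟙 _ ≫ (bcPts f A (𝟙_ _) a).left = _
    rw [bcPts_left, Category.id_comp]
    have h3 : toUnit (sp Ω Ωa) = Over.homMk (Spec.map (CommRingCat.ofHom (algebraMap Ω Ωa)))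
        (Category.comp_id _) := toUnit_unique _ _
    rw [h3]
    exact (Category.assoc _ _ _).symm

end K486.TorsSep
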