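import Groth.Agent.AbVar.K515.TateForm
import Groth.Agent.Grpsch.MulFin
import Groth.Agent.Neron.K486.TorsSep
import Groth.Agent.Neron.K486.PairAbs
import Groth.Agent.Sga7.H481.LevelTwoPts

/-!
# Level two for the Galois group of an abelian variety, from level two for a subset

The Riemann form of a symmetric ample sheaf and `PairAbs.level_two`.
-/

set_option autoImplicit false
universe u

open CategoryTheory CategoryTheory.Limits MonoidalCategory CartesianMonoidalCategory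
  AlgebraicGeometry MonObj
open Groth.Agent.Sga67.TorsionLift
open Groth.Agent.Grpsch.PicGrp Groth.Agent.Grpsch.Cube
open K515.Bc K515.TateE K515.TateForm
open AbDual

noncomputable section

namespace K486.PairLT

variable {K : Type u} [Field K] {Ω : Type u} [Field Ω] [Algebra K Ω]
  {A : Over (Spec (CommRingCat.of K))} [GrpObj A] [IsCommMonObj A] {l : ℕ}

/-- The Galois action on the Tate module. -/
def act (σ : Ω ≃ₐ[K] Ω) (x : TateMod A l (SGA7.pt Ω)) : TateMod A l (SGA7.pt Ω) :=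
  ⟨fun n => Additive.ofMul (SGA7.galAct σ (c n x)),
    ⟨fun n => by
      apply Additive.toMul.injective
      change SGA7.galAct σ (c n x) ^ (l ^ n) = 1
      rw [← K515.TateE.galAct_pow, c_pow]
      exact MonObj.comp_one (M := A) (SGA7.specAut σ),
     fun n => by
      apply Additive.toMul.injective
      change SGA7.galAct σ (c (n + 1) x) ^ l = SGA7.galAct σ (c n x)
      rw [← K515.TateE.galAct_pow, c_succ]⟩⟩

lemma c_act (σ : Ω ≃ₐ[K] Ω) (x : TateMod A l (SGA7.pt Ω)) (n : ℕ) :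
    c n (act σ x) = SGA7.galAct σ (c n x) := rfl

lemma ext_c {x y : TateMod A l (SGA7.pt Ω)} (h : ∀ n, c n x = c n y) : x = y :=
  TateMod.ext fun n => Additive.toMul.injective (h n)

lemma act_add (σ : Ω ≃ₐ[K] Ω) (x y : TateMod A l (SGA7.pt Ω)) :
    act σ (x + y) = act σ x + act σ y := ext_c fun n => by
  rw [c_act, c_add, c_add, c_act, c_act]
  exact MonObj.comp_mul (SGA7.specAut σ) (c n x) (c n y)

lemma act_inv (σ : Ω ≃ₐ[K] Ω) (x : TateMod A l (SGA7.pt Ω)) : act σ⁻¹ (act σ x) = x :=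
  ext_c fun _ => K515.TateE.galAct_inv σ _

lemma act_inv' (σ : Ω ≃ₐ[K] Ω) (x : TateMod A l (SGA7.pt Ω)) : act σ (act σ⁻¹ x) = x := by
  have := act_inv σ⁻¹ x
  rwa [inv_inv] at this

lemma c_sub (n : ℕ) (x y : TateMod A l (SGA7.pt Ω)) : c n (x - y) = c n x * (c n y)⁻¹ := by
  rw [eq_mul_inv_iff_mul_eq, ← c_add, sub_add_cancel]

lemma c_act_sub (σ : Ω ≃ₐ[K] Ω) (x : TateMod A l (SGA7.pt Ω)) (n : ℕ) :
    c n (act σ x - x) = SGA7.dev σ (c n x) := by
  rw [c_sub, c_act]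
  rfl

section Up

variable (Ωa : Type u) [Field Ωa] [Algebra K Ωa] [Algebra Ω Ωa] [IsScalarTower K Ω Ωa]

/-- The map on points induced by `Ω → Ωa`. -/
def e : SGA7.pt (K := K) Ωa ⟶ SGA7.pt (K := K) Ω := spMap (IsScalarTower.toAlgHom K Ω Ωa)

/-- The map on Tate modules induced by `Ω → Ωa`. -/
def up (x : TateMod A l (SGA7.pt (K := K) Ω)) : TateMod A l (SGA7.pt (K := K) Ωa) :=
  ⟨fun n => Additive.ofMul (e Ωa ≫ c n x),
    ⟨fun n => by
      apply Additive.toMul.injective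
      change (e Ωa ≫ c n x) ^ (l ^ n) = 1
      rw [← MonObj.comp_pow, c_pow, MonObj.comp_one],
     fun n => by
      apply Additive.toMul.injective
      change (e Ωa ≫ c (n + 1) x) ^ l = e Ωa ≫ c n x
      rw [← MonObj.comp_pow, c_succ]⟩⟩

lemma c_up (x : TateMod A l (SGA7.pt (K := K) Ω)) (n : ℕ) : c n (up Ωa x) = e Ωa ≫ c n x := rfl

lemma up_add (x y : TateMod A l (SGA7.pt (K := K) Ω)) : up Ωa (x + y) = up Ωa x + up Ωa y :=
  ext_c fun n => by
    rw [c_up, c_add, c_add, c_up, c_up]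
    exact MonObj.comp_mul _ _ _

lemma epi_e : Epi (e (K := K) (Ω := Ω) Ωa).left := by
  have h3 : Flat (Spec.map (CommRingCat.ofHom (algebraMap Ω Ωa))) := by
    rw [HasRingHomProperty.Spec_iff (P := @Flat)]
    exact RingHom.flat_algebraMap_iff.2 inferInstance
  have h4 : Surjective (Spec.map (CommRingCat.ofHom (algebraMap Ω Ωa))) :=
    ⟨fun x => ⟨IsLocalRing.closedPoint Ωa, Subsingleton.elim (α := PrimeSpectrum Ω) _ _⟩⟩
  have h5 : Epi (Spec.map (CommRingCat.ofHom (algebraMap Ω Ωa))) := Flat.epi_of_flat_of_surjective _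
  exact h5

lemma up_injective : Function.Injective (up (A := A) (l := l) (K := K) (Ω := Ω) Ωa) := by
  intro x y h
  refine ext_c fun n => ?_
  have h1 : e Ωa ≫ c n x = e Ωa ≫ c n y := congrArg (fun z => c n z) h
  have := epi_e (K := K) (Ω := Ω) Ωa
  ext1
  rw [← cancel_epi (e (K := K) (Ω := Ω) Ωa).left]
  exact congrArg (fun q => q.left) h1

/-- An extension of a Galois automorphism to an algebraic closure. -/
def ext [IsAlgClosure Ω Ωa] (σ : Ω ≃ₐ[K] Ω) : Ωa ≃ₐ[K] Ωa :=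
  AlgEquiv.ofRingEquiv (f := IsAlgClosure.equivOfEquiv Ωa Ωa (σ : Ω ≃+* Ω)) (fun x => by
    rw [IsScalarTower.algebraMap_apply K Ω Ωa, IsAlgClosure.equivOfEquiv_algebraMap]
    change algebraMap Ω Ωa (σ (algebraMap K Ω x)) = _
    rw [σ.commutes])

lemma ext_algebraMap [IsAlgClosure Ω Ωa] (σ : Ω ≃ₐ[K] Ω) (x : Ω) :
    ext Ωa σ (algebraMap Ω Ωa x) = algebraMap Ω Ωa (σ x) :=
  IsAlgClosure.equivOfEquiv_algebraMap Ωa Ωa (σ : Ω ≃+* Ω) x

lemma specAut_ext [IsAlgClosure Ω Ωa] (σ : Ω ≃ₐ[K] Ω) :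
    SGA7.specAut (ext Ωa σ) ≫ e (K := K) (Ω := Ω) Ωa = e Ωa ≫ SGA7.specAut σ := by
  ext1
  change Spec.map (CommRingCat.ofHom ((ext Ωa σ : Ωa ≃ₐ[K] Ωa) : Ωa →+* Ωa)) ≫
    Spec.map (CommRingCat.ofHom (algebraMap Ω Ωa)) =
    Spec.map (CommRingCat.ofHom (algebraMap Ω Ωa)) ≫ Spec.map (CommRingCat.ofHom ((σ : Ω ≃ₐ[K] Ω) : Ω →+* Ω))
  rw [← Spec.map_comp, ← Spec.map_comp, ← CommRingCat.ofHom_comp, ← CommRingCat.ofHom_comp]
  congr 2
  exact RingHom.ext fun x => ext_algebraMap Ωa σ x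

end Up

/-- **Level two for the whole Galois group.** -/
theorem level_two [IsSepClosed Ω] [IsProper A.hom] [GeometricallyIntegral A.hom] (hl : l.Prime)
    (hlK : (l : K) ≠ 0) (hμ : ∀ n, ∃ ζ : K, IsPrimitiveRoot ζ (l ^ n)) (H : Set (Ω ≃ₐ[K] Ω))
    (hH : ∀ h ∈ H, h⁻¹ ∈ H)
    (hlev : ∀ h ∈ H, ∀ h' ∈ H, ∀ (ν : ℕ) (x : SGA7.Pts Ω A), x ^ (l ^ ν) = 1 →
      SGA7.dev h (SGA7.dev h' x) = 1)
    (hfix : ∀ x : ℕ → SGA7.Pts Ω A, (∀ j, x j ^ (l ^ j) = 1) → (∀ j, x (j + 1) ^ l = x j) →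
      (∀ h ∈ H, ∀ j, SGA7.galAct h (x j) = x j) → ∀ (g : Ω ≃ₐ[K] Ω) (j), SGA7.galAct g (x j) = x j)
    (g g' : Ω ≃ₐ[K] Ω) (ν : ℕ) (x : SGA7.Pts Ω A) (hx : x ^ (l ^ ν) = 1) :
    SGA7.dev g (SGA7.dev g' x) = 1 := by
  have hlf : Fact l.Prime := ⟨hl⟩
  let Ωa := AlgebraicClosure Ω
  obtain ⟨M, hM, hsym⟩ := Groth.Agent.Grpsch.MulFin.exists_symm_ample A
  let E' : ℕ → TateMod A l (SGA7.pt (K := K) Ω) → TateMod A l (SGA7.pt (K := K) Ω) → Ωaˣ :=
    fun n x y => E (mk M hM.1) n (up Ωa x) (up Ωa y)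
  have key := PairAbs.level_two (M := TateMod A l (SGA7.pt (K := K) Ω)) act act_add act_inv act_inv' H hH
    (fun h hh h' hh' z => ?_) (fun z hz => ?_) E' (fun n x y z => ?_) (fun n x y z => ?_)
    (fun n σ x y => ?_) (fun z hz => ?_)
  · obtain ⟨z, hz⟩ := K519.Tate.exists_apply_eq (l := l) (A := A) (T := SGA7.pt Ω)
      (fun y => Groth.Agent.Sga7.H734.Divis.exists_pow_eq A l hlK y) ν x hx
    have h1 : c ν z = x := congrArg Additive.toMul hz
    have h2 := congrArg (c ν) (key g g' z)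
    rw [c_act_sub, c_act, c_act_sub, h1] at h2
    exact (Groth.Agent.Sga7.H481.LevelTwoPts.dev_eq_one_iff g _).2 h2
  · refine ext_c fun n => ?_
    rw [c_act, c_act_sub]
    exact (Groth.Agent.Sga7.H481.LevelTwoPts.dev_eq_one_iff h _).1 (hlev h hh h' hh' n _ (c_pow n z))
  · intro σ
    refine ext_c fun n => ?_
    exact hfix (fun j => c j z) (fun j => c_pow j z) (fun j => c_succ j z)
      (fun h hh j => congrArg (c j) (hz h hh)) σ n
  · change E (mk M hM.1) n (up Ωa (x + y)) (up Ωa z) = _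
    rw [up_add]
    exact E_add_left
  · change E (mk M hM.1) n (up Ωa x) (up Ωa (y + z)) = _
    rw [up_add]
    exact E_add_right
  · have h1 : E (mk M hM.1) n (up Ωa (act σ x)) (up Ωa (act σ y)) =
        Units.map ((ext Ωa σ : Ωa →+* Ωa) : Ωa →* Ωa) (E (mk M hM.1) n (up Ωa x) (up Ωa y)) := by
      refine E_gal (ext Ωa σ) (fun m => ?_) (fun m => ?_)
      · rw [c_up, c_act, c_up, SGA7.galAct, SGA7.galAct, ← Category.assoc, ← Category.assoc, specAut_ext]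
      · rw [c_up, c_act, c_up, SGA7.galAct, SGA7.galAct, ← Category.assoc, ← Category.assoc, specAut_ext]
    refine h1.trans (Units.ext ?_)
    have h2 : (E (mk M hM.1) n (up Ωa x) (up Ωa y) : Ωa) ^ (l ^ n) = 1 := by
      rw [← Units.val_pow_eq_pow_val, E_pow, Units.val_one]
    obtain ⟨ζ, hζ⟩ := hμ n
    have h3 := hζ.map_of_injective (algebraMap K Ωa).injective
    have : NeZero (l ^ n) := ⟨pow_ne_zero _ hl.ne_zero⟩
    obtain ⟨i, -, hi⟩ := h3.eq_pow_of_pow_eq_one h2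
    change ext Ωa σ (E (mk M hM.1) n (up Ωa x) (up Ωa y) : Ωa) = _
    rw [← hi, map_pow, AlgEquiv.commutes]
  · refine up_injective Ωa ?_
    have h0 : up Ωa (0 : TateMod A l (SGA7.pt (K := K) Ω)) = 0 := by
      have h3 := up_add Ωa (0 : TateMod A l (SGA7.pt (K := K) Ω)) 0
      rw [add_zero] at h3
      exact left_eq_add.mp h3
    rw [h0]
    refine eq_zero_of_E hlK M hM hsym fun n y => ?_
    obtain ⟨w, hw1, hw2⟩ := K486.TorsSep.exists_of_torsion K Ω Ωa A (l ^ n) (by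
      rw [Nat.cast_pow]; exact pow_ne_zero n hlK) (c n y) (c_pow n y)
    obtain ⟨t, ht⟩ := K519.Tate.exists_apply_eq (l := l) (A := A) (T := SGA7.pt Ω)
      (fun y => Groth.Agent.Sga7.H734.Divis.exists_pow_eq A l hlK y) n w hw1
    have h1 : c n t = w := congrArg Additive.toMul ht
    have h2 := hz n t
    change eN Ωa (mk M hM.1) (l ^ n) (c n (up Ωa t)) (c n (up Ωa z)) = 1 at h2
    rw [c_up, h1] at h2
    change eN Ωa (mk M hM.1) (l ^ n) (c n y) (c n (up Ωa z)) = 1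
    rw [← hw2]
    exact h2

end K486.PairLT
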