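import Groth.Agent.Neron.K486.GalPts
import Groth.Agent.Neron.K486.DomDvr
import Groth.Agent.Neron.K486.PairLT
import Groth.Agent.Sga7.H244.LevelTwoMain
import Groth.Agent.Sga7.H274.ValExt
import Groth.Agent.Sga4h.WildPro
import Groth.Agent.S4050
import Groth.Agent.S4061

/-!
# Level two over a strictly henselian Noetherian local domain
-/

set_option autoImplicit false
universe u

open CategoryTheory CategoryTheory.Limits AlgebraicGeometry MonObj
open MonoidalCategory CartesianMonoidalCategory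
open Groth.Agent.Sga7.H729.Dict Groth.Agent.Sga67.TorsionLift
open K486.TatePts K486.GalPts

namespace K486.LevelMain

/-- Level two over a strictly henselian discrete valuation ring. -/
theorem levelTwo_dvr (V F Φ : Type u) [CommRing V] [IsDomain V] [IsDiscreteValuationRing V]
    [HenselianLocalRing V] [IsSepClosed (IsLocalRing.ResidueField V)] [Field F] [Algebra V F]
    [IsFractionRing V F] [Field Φ] [Algebra F Φ] [IsSepClosure F Φ]
    (G : Over (Spec (CommRingCat.of V))) [GrpObj G] [Smooth G.hom] [IsSeparated G.hom]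
    [QuasiCompact G.hom] (hG : SGA7.FibresUnipotentRankZero G)
    [IsProper ((SGA7.genFib V F).obj G).hom] [GeometricallyIntegral ((SGA7.genFib V F).obj G).hom]
    (ℓ : ℕ) (hℓ : ℓ.Prime) (hℓp : (ℓ : IsLocalRing.ResidueField V) ≠ 0)
    (σ τ : Φ ≃ₐ[F] Φ) (ν : ℕ) (x : SGA7.Pts Φ ((SGA7.genFib V F).obj G)) (hx : x ^ (ℓ ^ ν) = 1) :
    SGA7.dev σ (SGA7.dev τ x) = 1 := by
  obtain ⟨W, hW⟩ := Groth.Agent.Sga7.H274.ValExt.exists_liesOver F V Φ
  have hss : SGA7.HasSemistableReduction V F ((SGA7.genFib V F).obj G) :=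
    ⟨G, inferInstance, Iso.refl _, inferInstanceAs (IsMonHom (𝟙 _)), inferInstance, inferInstance,
      inferInstance, hG⟩
  have h1 := Groth.Agent.Sga7.H244.LevelTwoMain.levelTwo_of_semistable
    (fun G H _ _ _ _ _ _ _ _ _ u _ s t hts hs hiso =>
      Groth.Agent.S4061.result G H u s t hts hs hiso)
    (fun R K Ω _ _ _ _ _ _ _ _ _ W hW ℓ hℓ hℓp A _ _ _ =>
      Groth.Agent.S4050.result R K Ω W hW ℓ hℓ hℓp A) V F Φ W hW ℓ hℓ hℓp ((SGA7.genFib V F).obj G) hss
  have hV : EtCoh.IsStrictlyHenselianLocalRing V := ⟨inferInstance, inferInstance⟩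
  let _ : Algebra V Φ := ((algebraMap F Φ).comp (algebraMap V F)).toAlgebra
  have : IsScalarTower V F Φ := IsScalarTower.of_algebraMap_eq fun _ => rfl
  exact h1 ν σ τ (Groth.Agent.Sga7.H481.SHField.isInertia V F Φ hV hW σ)
    (Groth.Agent.Sga7.H481.SHField.isInertia V F Φ hV hW τ) x hx

/-- Level two over a local ring dominated by a strictly henselian discrete valuation ring. -/
theorem levelTwo_of_dvr (R K Ω V F Φ : Type u) [CommRing R] [IsDomain R]
    [HenselianLocalRing R] [IsSepClosed (IsLocalRing.ResidueField R)] [Field K] [Algebra R K]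
    [IsFractionRing R K] [Field Ω] [Algebra K Ω] [IsSepClosure K Ω] [Algebra R Ω] [IsScalarTower R K Ω]
    [CommRing V] [IsDomain V] [IsDiscreteValuationRing V]
    [HenselianLocalRing V] [IsSepClosed (IsLocalRing.ResidueField V)] [Field F] [Algebra V F]
    [IsFractionRing V F] [Field Φ] [Algebra F Φ] [IsSepClosure F Φ]
    [Algebra R V] [IsLocalHom (algebraMap R V)] [Algebra R F] [IsScalarTower R V F]
    [Algebra K F] [IsScalarTower R K F] [Algebra K Φ] [IsScalarTower K F Φ] [Algebra Ω Φ]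
    [IsScalarTower K Ω Φ] [Algebra R Φ] [IsScalarTower R F Φ] [IsScalarTower R Ω Φ]
    [Algebra V Φ] [IsScalarTower V F Φ] [IsScalarTower R V Φ]
    (𝒜 : Over (Spec (CommRingCat.of R))) [GrpObj 𝒜] [IsCommMonObj 𝒜]
    [Smooth 𝒜.hom] [IsSeparated 𝒜.hom] [QuasiCompact 𝒜.hom]
    (hsab : SGA7.FibresUnipotentRankZero 𝒜)
    [hp : IsProper ((SGA7.genFib R K).obj 𝒜).hom] [hgi : GeometricallyIntegral ((SGA7.genFib R K).obj 𝒜).hom]
    (ℓ : ℕ) (hℓ : ℓ.Prime) (hℓp : (ℓ : IsLocalRing.ResidueField R) ≠ 0)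
    (ν : ℕ) (σ τ : Ω ≃ₐ[K] Ω)
    (x : SGA7.Pts Ω (Red.bc (Spec.map (CommRingCat.ofHom (algebraMap R K))) 𝒜))
    (hx : x ^ (ℓ ^ ν) = 1) : SGA7.dev σ (SGA7.dev τ x) = 1 := by
  have hgalK : IsGalois K Ω := IsSepClosure.isGalois
  have hgalF : IsGalois F Φ := IsSepClosure.isGalois
  have hsc : IsSepClosed Ω := IsSepClosure.sep_closed K
  have hR : EtCoh.IsStrictlyHenselianLocalRing R := ⟨inferInstance, inferInstance⟩
  have hinj : Function.Injective (algebraMap R K) := IsFractionRing.injective R K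
  -- the fibre over `F`
  let fK : Spec (CommRingCat.of K) ⟶ Spec (CommRingCat.of R) := Spec.map (CommRingCat.ofHom (algebraMap R K))
  let fV : Spec (CommRingCat.of V) ⟶ Spec (CommRingCat.of R) := Spec.map (CommRingCat.ofHom (algebraMap R V))
  let fF : Spec (CommRingCat.of F) ⟶ Spec (CommRingCat.of V) := Spec.map (CommRingCat.ofHom (algebraMap V F))
  let g : Spec (CommRingCat.of F) ⟶ Spec (CommRingCat.of K) := Spec.map (CommRingCat.ofHom (algebraMap K F))
  have hwK : Spec.map (CommRingCat.ofHom (algebraMap R F)) = g ≫ fK := by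
    change _ = Spec.map _ ≫ Spec.map _
    rw [← Spec.map_comp, ← CommRingCat.ofHom_comp, ← IsScalarTower.algebraMap_eq]
  have hwV : Spec.map (CommRingCat.ofHom (algebraMap R F)) = fF ≫ fV := by
    change _ = Spec.map _ ≫ Spec.map _
    rw [← Spec.map_comp, ← CommRingCat.ofHom_comp, ← IsScalarTower.algebraMap_eq]
  have hsq0 := IsPullback.of_hasPullback 𝒜.hom (Spec.map (CommRingCat.ofHom (algebraMap R F)))
  have hsq1 : IsPullback (pullback.fst (pullback.snd 𝒜.hom fK) g ≫ pullback.fst 𝒜.hom fK)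
      (pullback.snd (pullback.snd 𝒜.hom fK) g) 𝒜.hom (g ≫ fK) :=
    (IsPullback.of_hasPullback (pullback.snd 𝒜.hom fK) g).paste_horiz (IsPullback.of_hasPullback 𝒜.hom fK)
  have hsq2 : IsPullback (pullback.fst (pullback.snd 𝒜.hom fV) fF ≫ pullback.fst 𝒜.hom fV)
      (pullback.snd (pullback.snd 𝒜.hom fV) fF) 𝒜.hom (fF ≫ fV) :=
    (IsPullback.of_hasPullback (pullback.snd 𝒜.hom fV) fF).paste_horiz (IsPullback.of_hasPullback 𝒜.hom fV)
  rw [← hwK] at hsq1
  rw [← hwV] at hsq2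
  have hp1 : IsProper (pullback.snd 𝒜.hom fK) := hp
  have hg1 : GeometricallyIntegral (pullback.snd 𝒜.hom fK) := hgi
  have hp0 : IsProper (pullback.snd 𝒜.hom (Spec.map (CommRingCat.ofHom (algebraMap R F)))) := by
    rw [← hsq0.isoIsPullback_hom_snd _ _ hsq1]
    infer_instance
  have hg0 : GeometricallyIntegral (pullback.snd 𝒜.hom (Spec.map (CommRingCat.ofHom (algebraMap R F)))) := by
    rw [← hsq0.isoIsPullback_hom_snd _ _ hsq1]
    exact (MorphismProperty.cancel_left_of_respectsIso @GeometricallyIntegral _ _).2 inferInstance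
  let G : Over (Spec (CommRingCat.of V)) := Red.bc fV 𝒜
  have hG : SGA7.FibresUnipotentRankZero G :=
    Groth.Agent.Sga7.H738.RankZeroBc.fibresUnipotentRankZero_bc Groth.Agent.Sga7.H738.S4057Comm.l2 fV 𝒜 hsab
  have i1 : Smooth G.hom := inferInstanceAs (Smooth (pullback.snd 𝒜.hom fV))
  have i2 : IsSeparated G.hom := inferInstanceAs (IsSeparated (pullback.snd 𝒜.hom fV))
  have i3 : QuasiCompact G.hom := inferInstanceAs (QuasiCompact (pullback.snd 𝒜.hom fV))
  have hpG : IsProper ((SGA7.genFib V F).obj G).hom := by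
    change IsProper (pullback.snd (pullback.snd 𝒜.hom fV) fF)
    rw [← hsq2.isoIsPullback_hom_snd _ _ hsq0]
    infer_instance
  have hgG : GeometricallyIntegral ((SGA7.genFib V F).obj G).hom := by
    change GeometricallyIntegral (pullback.snd (pullback.snd 𝒜.hom fV) fF)
    rw [← hsq2.isoIsPullback_hom_snd _ _ hsq0]
    exact (MorphismProperty.cancel_left_of_respectsIso @GeometricallyIntegral _ _).2 hg0
  -- `ℓ`
  have hℓV : (ℓ : IsLocalRing.ResidueField V) ≠ 0 := by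
    intro h0
    apply hℓp
    apply (IsLocalRing.ResidueField.map (algebraMap R V)).injective
    rw [map_natCast, map_zero]
    exact h0
  have hℓu : IsUnit (ℓ : R) := by
    by_contra hcon
    apply hℓp
    rw [← map_natCast (IsLocalRing.residue R)]
    exact (IsLocalRing.residue_eq_zero_iff _).2 hcon
  have hℓK : (ℓ : K) ≠ 0 := by
    have h0 := hℓu.map (algebraMap R K)
    rw [map_natCast] at h0
    exact h0.ne_zero
  -- the groups
  let rs : (Φ ≃ₐ[F] Φ) → (Ω ≃ₐ[K] Ω) := fun h => (h.restrictScalars K).restrictNormal Ω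
  have hrs : ∀ (h : Φ ≃ₐ[F] Φ) (z : Ω), algebraMap Ω Φ (rs h z) = h (algebraMap Ω Φ z) := fun h z =>
    AlgEquiv.restrictNormal_commutes (h.restrictScalars K) Ω z
  let φ : Ω →ₐ[R] Φ := IsScalarTower.toAlgHom R Ω Φ
  have hφ : ∀ h : Φ ≃ₐ[F] Φ, φ.comp ((rs h : Ω →ₐ[K] Ω).restrictScalars R) =
      ((h : Φ →ₐ[F] Φ).restrictScalars R).comp φ := fun h => AlgHom.ext fun z => hrs h z
  have hφi := res_injective 𝒜 φ
  -- the two inputs
  have hlev : ∀ h ∈ Set.range rs, ∀ h' ∈ Set.range rs, ∀ (ν : ℕ)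
      (x : SGA7.Pts Ω (Red.bc (Spec.map (CommRingCat.ofHom (algebraMap R K))) 𝒜)), x ^ (ℓ ^ ν) = 1 →
      SGA7.dev h (SGA7.dev h' x) = 1 := by
    rintro _ ⟨h, rfl⟩ _ ⟨h', rfl⟩ m z hz
    let z' : SGA7.Pts Φ ((SGA7.genFib V F).obj G) := (EF R V F Φ 𝒜).symm (res 𝒜 φ (toSp R K Ω 𝒜 z))
    have h1 : EF R V F Φ 𝒜 z' = res 𝒜 φ (toSp R K Ω 𝒜 z) := (EF R V F Φ 𝒜).apply_symm_apply _
    have h2 : z' ^ (ℓ ^ m) = 1 := by
      apply (EF R V F Φ 𝒜).injective
      rw [map_pow, h1, ← map_pow]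
      have h5 : toSp R K Ω 𝒜 z ^ (ℓ ^ m) = 1 := by
        refine (map_pow (toSp R K Ω 𝒜) z (ℓ ^ m)).symm.trans ?_
        rw [hz]
        exact map_one (toSp R K Ω 𝒜)
      rw [h5, map_one, map_one]
    have h3 := levelTwo_dvr V F Φ G hG ℓ hℓ hℓV h h' m z' h2
    have h4 := congrArg (EF R V F Φ 𝒜) h3
    rw [EF_dev, EF_dev, h1, map_one, ← res_pdev 𝒜 φ _ _ (hφ h'), ← res_pdev 𝒜 φ _ _ (hφ h)] at h4
    rw [← map_one (res 𝒜 φ)] at h4
    have h5 := hφi h4
    apply (toSp R K Ω 𝒜).injective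
    rw [toSp_dev, toSp_dev, h5]
    exact (map_one (toSp R K Ω 𝒜)).symm
  have hfix : ∀ x : ℕ → SGA7.Pts Ω (Red.bc (Spec.map (CommRingCat.ofHom (algebraMap R K))) 𝒜),
      (∀ j, x j ^ (ℓ ^ j) = 1) → (∀ j, x (j + 1) ^ ℓ = x j) →
      (∀ h ∈ Set.range rs, ∀ j, SGA7.galAct h (x j) = x j) →
      ∀ (g : Ω ≃ₐ[K] Ω) (j), SGA7.galAct g (x j) = x j := by
    intro z hz1 hz2 hz3 gg j
    have h1 : ∀ i, ∃ y : sp R F ⟶ 𝒜, res 𝒜 (IsScalarTower.toAlgHom R F Φ) y =
        res 𝒜 φ (toSp R K Ω 𝒜 (z i)) := by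
      intro i
      refine exists_pt 𝒜 _ fun h => ?_
      rw [← res_comp, ← hφ h, res_comp, ← toSp_galAct]
      exact congrArg (fun q => res 𝒜 φ (toSp R K Ω 𝒜 q)) (hz3 _ ⟨h, rfl⟩ i)
    choose y hy using h1
    have hyi := res_injective 𝒜 (IsScalarTower.toAlgHom R F Φ)
    have hp' : ∀ (i m : ℕ), toSp R K Ω 𝒜 (z i ^ m) = toSp R K Ω 𝒜 (z i) ^ m := fun i m =>
      map_pow (toSp R K Ω 𝒜) (z i) m
    have hy1 : ∀ i, y i ^ (ℓ ^ i) = 1 := fun i => hyi (by
      rw [map_pow, hy, ← map_pow, ← hp', hz1, map_one (res 𝒜 (IsScalarTower.toAlgHom R F Φ))]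
      exact (congrArg (res 𝒜 φ) (map_one (toSp R K Ω 𝒜))).trans (map_one _))
    have hy2 : ∀ i, y (i + 1) ^ ℓ = y i := fun i => hyi (by
      rw [map_pow, hy, ← map_pow, ← hp', hz2, hy])
    obtain ⟨s, -, hs⟩ := K486.TatePts.of_dvr R V F 𝒜 hsab hp0 hg0 ℓ hℓ hℓp y hy1 hy2 j
    have h2 : toSp R K Ω 𝒜 (z j) = toUnit _ ≫ s := by
      apply hφi
      rw [← hy, ← hs, res_toUnit, res_toUnit]
    apply (toSp R K Ω 𝒜).injective
    rw [toSp_galAct]
    refine (congrArg _ h2).trans (Eq.trans ?_ h2.symm)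
    exact res_toUnit _ _ _
  refine K486.PairLT.level_two hℓ hℓK (fun n => ?_) (Set.range rs) ?_ hlev hfix σ τ ν x hx
  · obtain ⟨ζ, hζ⟩ := Groth.Agent.Sga4h.WildPro.exists_isPrimitiveRoot R hR (ℓ ^ n) (by
      rw [Nat.cast_pow]; exact hℓu.pow n)
    exact ⟨algebraMap R K ζ, hζ.map_of_injective hinj⟩
  · rintro _ ⟨h, rfl⟩
    refine ⟨h⁻¹, ?_⟩
    apply AlgEquiv.ext
    intro z
    apply (algebraMap Ω Φ).injective
    rw [hrs]
    have h1 : algebraMap Ω Φ z = h (algebraMap Ω Φ ((rs h)⁻¹ z)) := by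
      rw [← hrs]
      exact congrArg _ ((rs h).apply_symm_apply z).symm
    rw [h1]
    exact h.symm_apply_apply _

/-- The same with the structures constructed from an injective local homomorphism. -/
theorem levelTwo_of_dvr' (R K Ω V F Φ : Type u) [CommRing R] [IsDomain R]
    [HenselianLocalRing R] [IsSepClosed (IsLocalRing.ResidueField R)] [Field K] [Algebra R K]
    [IsFractionRing R K] [Field Ω] [Algebra K Ω] [IsSepClosure K Ω]
    [CommRing V] [IsDomain V] [IsDiscreteValuationRing V]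
    [HenselianLocalRing V] [IsSepClosed (IsLocalRing.ResidueField V)] [Field F] [Algebra V F]
    [IsFractionRing V F] [Field Φ] [Algebra F Φ] [IsSepClosure F Φ]
    (φ : R →+* V) (hφ : IsLocalHom φ) (hφi : Function.Injective φ)
    (𝒜 : Over (Spec (CommRingCat.of R))) [GrpObj 𝒜] [IsCommMonObj 𝒜]
    [Smooth 𝒜.hom] [IsSeparated 𝒜.hom] [QuasiCompact 𝒜.hom]
    (hsab : SGA7.FibresUnipotentRankZero 𝒜)
    [hp : IsProper ((SGA7.genFib R K).obj 𝒜).hom] [hgi : GeometricallyIntegral ((SGA7.genFib R K).obj 𝒜).hom]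
    (ℓ : ℕ) (hℓ : ℓ.Prime) (hℓp : (ℓ : IsLocalRing.ResidueField R) ≠ 0)
    (ν : ℕ) (σ τ : Ω ≃ₐ[K] Ω)
    (x : SGA7.Pts Ω (Red.bc (Spec.map (CommRingCat.ofHom (algebraMap R K))) 𝒜))
    (hx : x ^ (ℓ ^ ν) = 1) : SGA7.dev σ (SGA7.dev τ x) = 1 := by
  have hgalK : IsGalois K Ω := IsSepClosure.isGalois
  have hsc : IsSepClosed Φ := IsSepClosure.sep_closed F
  have hinj : Function.Injective ((algebraMap V F).comp φ) :=
    (IsFractionRing.injective V F).comp hφi
  let ψ : K →+* F := IsFractionRing.lift (A := R) (K := K) hinj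
  have hψ : ∀ a : R, ψ (algebraMap R K a) = algebraMap V F (φ a) := fun a =>
    IsFractionRing.lift_algebraMap hinj a
  let _ : Algebra R V := φ.toAlgebra
  let _ : Algebra R F := ((algebraMap V F).comp φ).toAlgebra
  let _ : Algebra K F := ψ.toAlgebra
  let _ : Algebra K Φ := ((algebraMap F Φ).comp ψ).toAlgebra
  let _ : Algebra R Φ := ((algebraMap F Φ).comp ((algebraMap V F).comp φ)).toAlgebra
  let _ : Algebra V Φ := ((algebraMap F Φ).comp (algebraMap V F)).toAlgebra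
  let _ : Algebra R Ω := ((algebraMap K Ω).comp (algebraMap R K)).toAlgebra
  let χ : Ω →ₐ[K] Φ := IsSepClosed.lift
  let _ : Algebra Ω Φ := (χ : Ω →+* Φ).toAlgebra
  have hl : IsLocalHom (algebraMap R V) := hφ
  have t1 : IsScalarTower R K Ω := IsScalarTower.of_algebraMap_eq fun _ => rfl
  have t2 : IsScalarTower R V F := IsScalarTower.of_algebraMap_eq fun _ => rfl
  have t3 : IsScalarTower R K F := IsScalarTower.of_algebraMap_eq fun a => (hψ a).symm
  have t4 : IsScalarTower K F Φ := IsScalarTower.of_algebraMap_eq fun _ => rfl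
  have t5 : IsScalarTower K Ω Φ := IsScalarTower.of_algebraMap_eq fun a => (χ.commutes a).symm
  have t6 : IsScalarTower R F Φ := IsScalarTower.of_algebraMap_eq fun _ => rfl
  have t7 : IsScalarTower R Ω Φ := IsScalarTower.of_algebraMap_eq fun a => by
    change algebraMap F Φ (algebraMap V F (φ a)) = χ (algebraMap K Ω (algebraMap R K a))
    rw [χ.commutes, ← hψ]
    rfl
  have t8 : IsScalarTower V F Φ := IsScalarTower.of_algebraMap_eq fun _ => rfl
  have t9 : IsScalarTower R V Φ := IsScalarTower.of_algebraMap_eq fun _ => rfl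
  exact levelTwo_of_dvr R K Ω V F Φ 𝒜 hsab ℓ hℓ hℓp ν σ τ x hx

/-- **Level two over a strictly henselian Noetherian local domain.** -/
theorem levelTwo (R K Ω : Type u) [CommRing R] [IsDomain R] [IsNoetherianRing R]
    [HenselianLocalRing R] [IsSepClosed (IsLocalRing.ResidueField R)] [Field K] [Algebra R K]
    [IsFractionRing R K] [Field Ω] [Algebra K Ω] [IsSepClosure K Ω]
    (𝒜 : Over (Spec (CommRingCat.of R))) [GrpObj 𝒜] [IsCommMonObj 𝒜]
    [Smooth 𝒜.hom] [IsSeparated 𝒜.hom] [QuasiCompact 𝒜.hom]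
    (hsab : SGA7.FibresUnipotentRankZero 𝒜)
    [hp : IsProper ((SGA7.genFib R K).obj 𝒜).hom] [hgi : GeometricallyIntegral ((SGA7.genFib R K).obj 𝒜).hom]
    (ℓ : ℕ) (hℓ : ℓ.Prime) (hℓp : (ℓ : IsLocalRing.ResidueField R) ≠ 0)
    (ν : ℕ) (σ τ : Ω ≃ₐ[K] Ω)
    (x : SGA7.Pts Ω (Red.bc (Spec.map (CommRingCat.ofHom (algebraMap R K))) 𝒜))
    (hx : x ^ (ℓ ^ ν) = 1) : SGA7.dev σ (SGA7.dev τ x) = 1 := by
  by_cases hF : IsField R
  · have hbij : Function.Bijective (algebraMap R K) := by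
      refine ⟨IsFractionRing.injective R K, fun z => ?_⟩
      obtain ⟨a, b, hb, rfl⟩ := IsFractionRing.div_surjective (A := R) z
      have hb0 : b ≠ 0 := nonZeroDivisors.ne_zero hb
      obtain ⟨c, hc⟩ := hF.mul_inv_cancel hb0
      refine ⟨a * c, ?_⟩
      have hb1 : algebraMap R K b ≠ 0 := fun h0 => hb0 (IsFractionRing.injective R K (by rw [h0, map_zero]))
      rw [eq_div_iff hb1, ← map_mul, _root_.mul_assoc, _root_.mul_comm c b, hc, _root_.mul_one]
    have hres : Function.Bijective (IsLocalRing.residue R) := by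
      refine ⟨?_, IsLocalRing.residue_surjective⟩
      rw [injective_iff_map_eq_zero]
      intro a ha
      have h1 : a ∈ IsLocalRing.maximalIdeal R := (IsLocalRing.residue_eq_zero_iff a).1 ha
      rw [IsLocalRing.isField_iff_maximalIdeal_eq.1 hF] at h1
      exact h1
    have hK : IsSepClosed K := Groth.Agent.EtpbcB.StrHensEquiv.isSepClosed_of_ringEquiv
      ((RingEquiv.ofBijective _ hres).symm.trans (RingEquiv.ofBijective _ hbij))
    have hgal : IsGalois K Ω := IsSepClosure.isGalois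
    have hsurj : Function.Surjective (algebraMap K Ω) := IsSepClosed.algebraMap_surjective K Ω
    have hσ : ∀ gg : Ω ≃ₐ[K] Ω, ∀ y : SGA7.Pts Ω (Red.bc (Spec.map (CommRingCat.ofHom (algebraMap R K))) 𝒜),
        SGA7.galAct gg y = y := by
      intro gg y
      have h1 : gg = 1 := AlgEquiv.ext fun z => by
        obtain ⟨a, rfl⟩ := hsurj z
        exact gg.commutes a
      rw [h1]
      exact Groth.Agent.Sga7.H481.LevelTwoPts.galAct_one_left y
    exact (Groth.Agent.Sga7.H481.LevelTwoPts.dev_eq_one_iff σ _).2 (hσ σ _)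
  · obtain ⟨V, _, _, _, _, _, φ, hφ, hφi⟩ := K486.DomDvr.exists_strict_dvr R hF
    exact levelTwo_of_dvr' R K Ω V (FractionRing V) (SeparableClosure (FractionRing V)) φ hφ hφi
      𝒜 hsab ℓ hℓ hℓp ν σ τ x hx

end K486.LevelMain
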