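import Groth.Agent.S6085
import Groth.Agent.PicF.K248.StalkLim
import Groth.Agent.Sga3.H515.LimSmooth
import Groth.Agent.Sga3B.BcIso
import Groth.Agent.Ega43.LimitDescendAffineTarget

/-!
# Spreading out smooth group schemes from a local ring of the base

* `exists_spread_lim`: smooth separated quasi-compact group schemes descend along cofiltered limits;
* `exists_spread_le`, `exists_spread`: a smooth separated quasi-compact group scheme over `Spec O_{S,s}` is the base change
  of a smooth separated quasi-compact group scheme over an affine open neighbourhood of `s`.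
-/

set_option autoImplicit false
universe u

open CategoryTheory CategoryTheory.Limits AlgebraicGeometry MonObj

namespace K486.SpreadGrp

open Groth.Agent.Sga3B

theorem isPullback_of_iso {T S' : Scheme.{u}} (p : S' ⟶ T) (G : Over T) (M : Over S') (e : M ≅ Red.bc p G) :
    IsPullback (e.hom.left ≫ pullback.fst G.hom p) M.hom G.hom p := by
  have h1 : IsPullback e.hom.left M.hom (Red.bc p G).hom (𝟙 S') := by
    have : IsIso e.hom.left := inferInstanceAs (IsIso ((Over.forget _).mapIso e).hom)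
    exact IsPullback.of_horiz_isIso ⟨(Over.w e.hom).trans (Category.comp_id _).symm⟩
  have h2 := h1.paste_horiz (IsPullback.of_hasPullback G.hom p)
  rwa [Category.id_comp] at h2

theorem exists_iso_comp {S' T T' : Scheme.{u}} (q : S' ⟶ T') (g : T' ⟶ T) {p : S' ⟶ T} (h : q ≫ g = p) {G : Over T}
    [GrpObj G] {M : Over S'} [GrpObj M] (e : M ≅ Red.bc p G) [IsMonHom e.hom] :
    ∃ e' : Red.bc q (Red.bc g G) ≅ M, IsMonHom e'.hom := by
  subst h
  have h1 : IsMonHom (BcIso.bcCompIso q g G).inv.hom.hom := (BcIso.bcCompIso q g G).inv.hom.isMonHom_hom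
  let e1 : Red.bc q (Red.bc g G) ≅ Red.bc (q ≫ g) G :=
    ((Grp.forget _).mapIso (BcIso.bcCompIso q g G)).symm
  have h2 : IsMonHom e1.hom := h1
  have h3 : IsMonHom e.symm.hom := inferInstanceAs (IsMonHom e.inv)
  exact ⟨e1 ≪≫ e.symm, inferInstanceAs (IsMonHom (e1.hom ≫ e.symm.hom))⟩

theorem exists_spread_lim {I : Type u} [SmallCategory I] [IsCofiltered I] (D : I ⥤ Scheme.{u}) (c : Cone D)
    (hc : IsLimit c) [∀ (i i' : I) (f : i ⟶ i'), IsAffineHom (D.map f)] [∀ i, CompactSpace (D.obj i)]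
    [∀ i, QuasiSeparatedSpace (D.obj i)] (M : Over c.pt) [GrpObj M] [Smooth M.hom] [IsSeparated M.hom]
    [QuasiCompact M.hom] (i₀ : I) :
    ∃ (i : I) (_ : i ⟶ i₀) (N : Over (D.obj i)) (_ : GrpObj N), Smooth N.hom ∧ IsSeparated N.hom ∧
      QuasiCompact N.hom ∧ ∃ e : Red.bc (c.π.app i) N ≅ M, IsMonHom e.hom := by
  obtain ⟨k, G, hG, e0, he0, hl, hq, hs⟩ := Groth.Agent.S6085.result D c hc M
  let E : Over k ⥤ Scheme.{u} := Over.forget k ⋙ D
  let c' : Cone E := c.whisker (Over.forget k)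
  let hc' : IsLimit c' := (Functor.Initial.isLimitWhiskerEquiv (Over.forget k) c).symm hc
  have a1 : ∀ {i j : Over k} (f : i ⟶ j), IsAffineHom (E.map f) := fun f => inferInstanceAs (IsAffineHom (D.map f.left))
  have a2 : ∀ j, CompactSpace (E.obj j) := fun j => inferInstanceAs (CompactSpace (D.obj j.left))
  have a3 : ∀ j, QuasiSeparatedSpace (E.obj j) := fun j => inferInstanceAs (QuasiSeparatedSpace (D.obj j.left))
  let t : ∀ j : Over k, E.obj j ⟶ D.obj k := fun j => D.map j.hom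
  have ht : ∀ {i j : Over k} (f : i ⟶ j), E.map f ≫ t j = t i := fun f => by
    change D.map f.left ≫ D.map _ = D.map _
    rw [← Functor.map_comp, Over.w]
  have hp : ∀ j : Over k, c'.π.app j ≫ t j = c.π.app k := fun j => c.w j.hom
  have hpb := isPullback_of_iso (c.π.app k) G M e0
  obtain ⟨j1, hj1⟩ := Groth.Agent.Sga3.H515.LimSmooth.descendsLim_smooth E c' hc' t ht G.hom (c.π.app k) hp
    _ M.hom hpb inferInstance
  obtain ⟨j2, hj2⟩ := Groth.Agent.Sga3.H515.LimSmooth.descendsLim_isSeparated E c' hc' t ht G.hom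
    (c.π.app k) hp _ M.hom hpb inferInstance
  obtain ⟨j3, f31, f32, -⟩ := IsCofilteredOrEmpty.cone_objs j1 j2
  obtain ⟨i4, g43, g40, -⟩ := IsCofilteredOrEmpty.cone_objs j3.left i₀
  let j4 : Over k := Over.mk (g43 ≫ j3.hom)
  let f43 : j4 ⟶ j3 := Over.homMk g43
  have hsm : Smooth (pullback.snd G.hom (t j4)) :=
    Groth.Agent.Ega43.LimitDescendAffineTarget.prop_snd_comp G.hom (E.map (f43 ≫ f31)) (t j1) (t j4) (ht _) hj1
  have hse : IsSeparated (pullback.snd G.hom (t j4)) :=
    Groth.Agent.Ega43.LimitDescendAffineTarget.prop_snd_comp G.hom (E.map (f43 ≫ f32)) (t j2) (t j4) (ht _) hj2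
  have hqc : QuasiCompact (pullback.snd G.hom (t j4)) := inferInstance
  have hgr : GrpObj (Red.bc (t j4) G) := inferInstance
  have hcomp : c.π.app i4 ≫ t j4 = c.π.app k := hp j4
  refine ⟨i4, g40, Red.bc (t j4) G, inferInstance, hsm, hse, hqc, exists_iso_comp _ _ hcomp e0⟩

/-- `exists_spread_lim` with an explicit limit. -/
theorem exists_spread_lim' {I : Type u} [SmallCategory I] [IsCofiltered I] (D : I ⥤ Scheme.{u}) (P : Scheme.{u})
    (l : ∀ i, P ⟶ D.obj i) (c : Cone D) (hc : IsLimit c) (hP : c.pt = P) (hl : ∀ i, c.π.app i = eqToHom hP ≫ l i)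
    [∀ (i i' : I) (f : i ⟶ i'), IsAffineHom (D.map f)] [∀ i, CompactSpace (D.obj i)]
    [∀ i, QuasiSeparatedSpace (D.obj i)] (M : Over P) [GrpObj M] [Smooth M.hom] [IsSeparated M.hom]
    [QuasiCompact M.hom] (i₀ : I) :
    ∃ (i : I) (_ : i ⟶ i₀) (N : Over (D.obj i)) (_ : GrpObj N), Smooth N.hom ∧ IsSeparated N.hom ∧
      QuasiCompact N.hom ∧ ∃ e : Red.bc (l i) N ≅ M, IsMonHom e.hom := by
  subst hP
  obtain ⟨i, f, N, hN, h1, h2, h3, h4⟩ := exists_spread_lim D c hc M i₀
  have h5 : c.π.app i = l i := by rw [hl]; simp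
  rw [h5] at h4
  exact ⟨i, f, N, hN, h1, h2, h3, h4⟩

open K248.StalkLim in
/-- A smooth separated quasi-compact group scheme over `Spec O_{S,s}` spreads out, inside any neighbourhood of `s`. -/
theorem exists_spread_le {S : Scheme.{u}} (s : S) (O : S.Opens) (hO : s ∈ O) (M : Over (Spec (S.presheaf.stalk s)))
    [GrpObj M] [Smooth M.hom] [IsSeparated M.hom] [QuasiCompact M.hom] :
    ∃ (V : S.Opens) (l : Spec (S.presheaf.stalk s) ⟶ (V : Scheme.{u})) (N : Over (V : Scheme.{u})) (_ : GrpObj N),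
      V ≤ O ∧ IsAffineOpen V ∧ s ∈ V ∧ l ≫ V.ι = S.fromSpecStalk s ∧ Smooth N.hom ∧ IsSeparated N.hom ∧
        QuasiCompact N.hom ∧ ∃ e : Red.bc l N ≅ M, IsMonHom e.hom := by
  have h1 : ∀ V : Nhd S s, CompactSpace ((D S s).obj V) := fun V => inferInstance
  have h2 : ∀ V : Nhd S s, QuasiSeparatedSpace ((D S s).obj V) := fun V => inferInstance
  have h3 : ∀ (V W : Nhd S s) (f : V ⟶ W), IsAffineHom ((D S s).map f) := fun V W f => inferInstance
  obtain ⟨Z, hZ, hx, hle⟩ := exists_isAffineOpen_mem_and_subset (x := s) (U := O) hO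
  obtain ⟨V, hV, N, hN, hsm, hse, hqc, e, he⟩ := exists_spread_lim' (D S s) (Spec (S.presheaf.stalk s)) (leg S s)
    (cone S s) (isLimit S s) rfl (fun i => (Category.id_comp _).symm) M ⟨Z, hZ, hx⟩
  exact ⟨V.1, leg S s V, N, hN, fun _ h => hle (hV.le h), V.2.1, V.2.2, leg_ι S s V, hsm, hse, hqc, e, he⟩

/-- A smooth separated quasi-compact group scheme over `Spec O_{S,s}` spreads out. -/
theorem exists_spread {S : Scheme.{u}} (s : S) (M : Over (Spec (S.presheaf.stalk s)))
    [GrpObj M] [Smooth M.hom] [IsSeparated M.hom] [QuasiCompact M.hom] :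
    ∃ (V : S.Opens) (l : Spec (S.presheaf.stalk s) ⟶ (V : Scheme.{u})) (N : Over (V : Scheme.{u})) (_ : GrpObj N),
      s ∈ V ∧ l ≫ V.ι = S.fromSpecStalk s ∧ Smooth N.hom ∧ IsSeparated N.hom ∧
        QuasiCompact N.hom ∧ ∃ e : Red.bc l N ≅ M, IsMonHom e.hom := by
  obtain ⟨V, l, N, hN, -, -, h⟩ := exists_spread_le s ⊤ trivial M
  exact ⟨V, l, N, hN, h⟩

/-- The case of the generic point. -/
theorem exists_spread_generic {S : Scheme.{u}} [IsIntegral S] (J : Over (Spec S.functionField))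
    [GrpObj J] [Smooth J.hom] [IsSeparated J.hom] [QuasiCompact J.hom] :
    ∃ (V : S.Opens) (l : Spec S.functionField ⟶ (V : Scheme.{u})) (N : Over (V : Scheme.{u})) (_ : GrpObj N),
      genericPoint S ∈ V ∧ l ≫ V.ι = S.fromSpecStalk (genericPoint S) ∧ Smooth N.hom ∧ IsSeparated N.hom ∧
        QuasiCompact N.hom ∧ ∃ e : Red.bc l N ≅ J, IsMonHom e.hom :=
  exists_spread (genericPoint S) J

end K486.SpreadGrp
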