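import Groth.Agent.Neron.K486.Stage
import Groth.Agent.S2879
import Groth.Agent.S3844
import Groth.Agent.PerfA.StalkPush
import Groth.Agent.Sga3B.LocLim789
import Mathlib.AlgebraicGeometry.Noetherian

/-!
# Descent of extensions of morphisms along flat surjective morphisms (not necessarily quasi-compact)
-/

set_option autoImplicit false
set_option backward.isDefEq.respectTransparency false
universe u
open CategoryTheory CategoryTheory.Limits AlgebraicGeometry

namespace K486.NMP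

open Groth.Agent.Sga3B.LocLim789

variable {S : Scheme.{u}}

/-- Uniqueness of extensions into separated schemes, from flat sources. -/
lemma uniqU_of_flat [IsLocallyNoetherian S] (U : S.Opens) (hU : CInt.IsSchematicallyDense U)
    {Y N : Scheme.{u}} (p : Y ⟶ S) [Flat p] (q : N ⟶ S) [IsSeparated q] : UniqU U p q := by
  intro g g' h h' e
  exact Groth.Agent.Ega4dB.SchDense.ext_of_isSchematicallyDense q (h.trans h'.symm) _
    (Groth.Agent.S3844.result p U hU) e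

theorem exists_nhd [IsLocallyNoetherian S] (U : S.Opens) (hU : CInt.IsSchematicallyDense U)
    {Y Y' N : Scheme.{u}} (p : Y ⟶ S) [Flat p] (q : N ⟶ S) [IsSeparated q]
    [LocallyOfFinitePresentation q] (f : Y' ⟶ Y) [Flat f]
    (h : (p ⁻¹ᵁ U).toScheme ⟶ N) (hh : h ≫ q = (p ⁻¹ᵁ U).ι ≫ p)
    (g' : Y' ⟶ N) (hg' : g' ≫ q = f ≫ p)
    (hg'' : ((f ≫ p) ⁻¹ᵁ U).ι ≫ g' = res U f rfl ≫ h) (y' : Y') :
    ∃ (V : Scheme.{u}) (v : V ⟶ Y) (_ : IsOpenImmersion v), f y' ∈ Set.range v ∧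
      ∃ g : V ⟶ N, g ≫ q = v ≫ p ∧ ((v ≫ p) ⁻¹ᵁ U).ι ≫ g = res U v rfl ≫ h := by
  -- the local rings
  let r := Y.fromSpecStalk (f y')
  let r' := Y'.fromSpecStalk y'
  let φ := Spec.map (f.stalkMap y')
  have hφ : φ ≫ r = r' ≫ f := Scheme.SpecMap_stalkMap_fromSpecStalk f
  have hfr : Flat r := Groth.Agent.PerfA.StalkPush.flat_fromSpecStalk _
  have hffl : (f.stalkMap y').hom.FaithfullyFlat := by
    have h1 : (f.stalkMap y').hom.Flat := Flat.stalkMap f y'
    algebraize [(f.stalkMap y').hom]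
    have : IsLocalHom (algebraMap (Y.presheaf.stalk (f y')) (Y'.presheaf.stalk y')) :=
      inferInstanceAs (IsLocalHom (f.stalkMap y').hom)
    exact (RingHom.faithfullyFlat_algebraMap_iff).2
      (Module.FaithfullyFlat.of_flat_of_isLocalHom (A := Y.presheaf.stalk (f y'))
        (B := Y'.presheaf.stalk y'))
  obtain ⟨hφf, hφs⟩ := (flat_and_surjective_SpecMap_iff (f.stalkMap y')).2 hffl
  have hφf' : Flat φ := hφf
  have hφs' : Surjective φ := hφs
  have hdense : CInt.IsSchematicallyDense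
      ((pullback.fst φ φ) ⁻¹ᵁ (φ ⁻¹ᵁ ((r ≫ p) ⁻¹ᵁ U))) :=
    Groth.Agent.S3844.result (pullback.fst φ φ ≫ φ ≫ r ≫ p) U hU
  obtain ⟨gl, hgl1, hgl2⟩ := Groth.Agent.S2879.result (r ≫ p) q φ ((r ≫ p) ⁻¹ᵁ U) hdense
    (res U r rfl ≫ h) (by rw [Category.assoc, hh, res_ι_assoc])
    (r' ≫ g') (by rw [Category.assoc, hg', ← reassoc_of% hφ]) (by
      have e0 : φ ≫ r ≫ p = r' ≫ f ≫ p := by rw [reassoc_of% hφ]
      have e1 : (φ ⁻¹ᵁ ((r ≫ p) ⁻¹ᵁ U)).ι ≫ r' ≫ g' =
          (res U (p' := φ ≫ r ≫ p) (p := f ≫ p) r' e0.symm ≫ ((f ≫ p) ⁻¹ᵁ U).ι) ≫ g' := by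
        rw [res_ι]; rfl
      have e2 : res U (p' := φ ≫ r ≫ p) (p := f ≫ p) r' e0.symm ≫ res U f rfl =
          (φ ∣_ ((r ≫ p) ⁻¹ᵁ U)) ≫ res U r rfl := by
        rw [← cancel_mono (p ⁻¹ᵁ U).ι]
        simp only [Category.assoc]
        rw [res_ι, res_ι, res_ι_assoc, morphismRestrict_ι_assoc, hφ]
        rfl
      refine e1.trans ?_
      rw [Category.assoc, hg'']
      exact congr($e2 ≫ h))
  -- the limit
  obtain ⟨_, ⟨W, hW, rfl⟩, hyW, -⟩ :=
    Y.isBasis_affineOpens.exists_subset_of_mem_open (Set.mem_univ (f y')) isOpen_univ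
  let _ : Algebra Γ(Y, W) (Y.presheaf.stalk (f y')) :=
    Y.presheaf.algebra_section_stalk (U := W) ⟨f y', hyW⟩
  let M := (hW.primeIdealOf ⟨f y', hyW⟩).asIdeal.primeCompl
  have hloc : IsLocalization M (Y.presheaf.stalk (f y')) := hW.isLocalization_stalk ⟨f y', hyW⟩
  have hr : Spec.map (CommRingCat.ofHom
      (algebraMap Γ(Y, W) (Y.presheaf.stalk (f y')))) ≫ hW.fromSpec = r := by
    simp only [r]
    rw [← hW.fromSpecStalk_eq_fromSpecStalk hyW]
    rfl
  have h1 : ∀ {i j : (Idx M)ᵒᵖ} (φ : i ⟶ j), IsAffineHom ((schDiagram M).map φ) := fun φ => by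
    dsimp [schDiagram]; infer_instance
  have h2 : ∀ j, CompactSpace ((schDiagram M).obj j) := fun j => by
    dsimp [schDiagram]; infer_instance
  have h3 : ∀ j, QuasiSeparatedSpace ((schDiagram M).obj j) := fun j => by
    dsimp [schDiagram]; infer_instance
  let b : ∀ j : (Idx M)ᵒᵖ, (schDiagram M).obj j ⟶ Y := fun j =>
    Spec.map (CommRingCat.ofHom (algebraMap Γ(Y, W) (Stage j.unop))) ≫ hW.fromSpec
  have hopen : ∀ j : (Idx M)ᵒᵖ, IsOpenImmersion (b j) := by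
    intro j
    have : IsOpenImmersion (Spec.map (CommRingCat.ofHom (algebraMap Γ(Y, W)
      (Stage j.unop)))) := IsOpenImmersion.of_isLocalization (den j.unop)
    simp only [b]
    infer_instance
  have hb' : ∀ j : (Idx M)ᵒᵖ, (schCone (M := M) (Y.presheaf.stalk (f y'))).π.app j ≫ b j = r := by
    intro j
    rw [← hr, ← Category.assoc]
    congr 1
    change Spec.map (CommRingCat.ofHom (toRes (Y.presheaf.stalk (f y')) j.unop)) ≫ _ = _
    rw [← Spec.map_comp, ← CommRingCat.ofHom_comp]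
    congr 2
    ext x
    exact toRes_algebraMap _ j.unop x
  obtain ⟨j, gj, hj1, hj2⟩ := exists_stage (schDiagram M)
    (schCone (M := M) (Y.presheaf.stalk (f y')))
    (isLimitSchCone (M := M) (Y.presheaf.stalk (f y'))) b (by
      intro i j φ
      simp only [b]
      rw [← Category.assoc]
      congr 1
      change Spec.map (CommRingCat.ofHom (trans φ.unop.le)) ≫ _ = _
      rw [← Spec.map_comp, ← CommRingCat.ofHom_comp]
      congr 2
      ext x
      exact trans_algebraMap φ.unop.le x) r hb' p U q h hh gl hgl2 hgl1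
  refine ⟨(schDiagram M).obj j, b j, hopen j, ?_, gj, hj1, hj2⟩
  refine ⟨(schCone (M := M) (Y.presheaf.stalk (f y'))).π.app j
    (IsLocalRing.closedPoint (Y.presheaf.stalk (f y'))), ?_⟩
  rw [← Scheme.Hom.comp_apply, hb']
  exact Scheme.fromSpecStalk_closedPoint

/-- Extensions descend along flat surjective morphisms. -/
theorem exU_of_flat_surjective [IsLocallyNoetherian S] (U : S.Opens)
    (hU : CInt.IsSchematicallyDense U)
    {Y Y' N : Scheme.{u}} (p : Y ⟶ S) [Flat p] (q : N ⟶ S) [IsSeparated q]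
    [LocallyOfFinitePresentation q] (f : Y' ⟶ Y) [Flat f] [Surjective f]
    (h : (p ⁻¹ᵁ U).toScheme ⟶ N) (hh : h ≫ q = (p ⁻¹ᵁ U).ι ≫ p)
    (g' : Y' ⟶ N) (hg' : g' ≫ q = f ≫ p)
    (hg'' : ((f ≫ p) ⁻¹ᵁ U).ι ≫ g' = res U f rfl ≫ h) :
    ∃ g : Y ⟶ N, g ≫ q = p ∧ (p ⁻¹ᵁ U).ι ≫ g = h := by
  have key : ∀ y : Y, ∃ (V : Scheme.{u}) (v : V ⟶ Y) (_ : IsOpenImmersion v),
      y ∈ Set.range v ∧
      ∃ g : V ⟶ N, g ≫ q = v ≫ p ∧ ((v ≫ p) ⁻¹ᵁ U).ι ≫ g = res U v rfl ≫ h := by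
    intro y
    obtain ⟨y', rfl⟩ := f.surjective y
    exact exists_nhd U hU p q f h hh g' hg' hg'' y'
  choose V v hv hyv g hg1 hg2 using key
  let 𝒰 : Y.OpenCover := Scheme.Cover.mkOfCovers Y V v (fun y => by
    obtain ⟨z, hz⟩ := hyv y
    exact ⟨y, z, hz⟩) hv
  refine exists_of_cover U p q 𝒰 (fun i k => ?_) h g hg1 hg2
  exact uniqU_of_flat U hU _ q

end K486.NMP
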