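import Groth.Agent.Neron.K486.CoPts

/-!
# The generic fibre of a flat model
-/

set_option autoImplicit false
universe u

open CategoryTheory AlgebraicGeometry Limits
open scoped TensorProduct Polynomial LaurentPolynomial

namespace K486.CoFlat

open Groth.Agent.Sga3B Groth.Agent.Sga3B.Cell Groth.Agent.Sga3B.PinMod Groth.Agent.Sga3B.DSPts
  Groth.Agent.Sga3B.GaPts K486.ModelPts K486.CoPts

section alg

variable {R : Type u} [CommRing R] [IsDomain R] [IsDiscreteValuationRing R]
  {K : Type u} [Field K] [Algebra R K] [IsFractionRing R K]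
  {A : Type u} [CommRing A] [Algebra R A]
  {P : Type u} [CommRing P] [Algebra R P] [Algebra K P] [IsScalarTower R K P]

/-- the extension of `α` to the generic fibre -/
noncomputable def ext (α : A →ₐ[R] P) : K ⊗[R] A →ₐ[K] P :=
  Algebra.TensorProduct.lift (Algebra.ofId K P) α (fun _ _ => Commute.all _ _)

@[simp] lemma ext_tmul (α : A →ₐ[R] P) (k : K) (a : A) :
    ext α (k ⊗ₜ[R] a) = algebraMap K P k * α a := by
  rw [ext, Algebra.TensorProduct.lift_tmul]; rfl

theorem exists_den_tensor {π : R} (hπ : Irreducible π) (z : K ⊗[R] A) :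
    ∃ (m : ℕ) (a : A), algebraMap K (K ⊗[R] A) (algebraMap R K π ^ m) * z = 1 ⊗ₜ[R] a := by
  induction z with
  | zero => exact ⟨0, 0, by simp⟩
  | add x y hx hy =>
    obtain ⟨m, a, ha⟩ := hx
    obtain ⟨n, b, hb⟩ := hy
    refine ⟨m + n, π ^ n • a + π ^ m • b, ?_⟩
    rw [TensorProduct.tmul_add, TensorProduct.tmul_smul, TensorProduct.tmul_smul, ← ha, ← hb, mul_add, pow_add,
      Algebra.smul_def, Algebra.smul_def, IsScalarTower.algebraMap_apply R K (K ⊗[R] A),
      IsScalarTower.algebraMap_apply R K (K ⊗[R] A)]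
    simp only [map_pow, map_mul]
    ring
  | tmul k a =>
    obtain ⟨m, r, h⟩ := GaAlg.exists_den hπ k
    refine ⟨m, r • a, ?_⟩
    rw [TensorProduct.tmul_smul, Algebra.TensorProduct.algebraMap_apply, Algebra.TensorProduct.tmul_mul_tmul,
      one_mul, Algebra.algebraMap_self_apply, h, TensorProduct.smul_tmul', Algebra.smul_def, mul_one]

theorem injective_of [Module.Flat R A] (α : A →ₐ[R] P) (s : P →ₐ[K] K ⊗[R] A)
    (h1 : ∀ a, s (α a) = 1 ⊗ₜ a) : Function.Injective α := by
  intro a b h
  have h2 : (Algebra.TensorProduct.includeRight : A →ₐ[R] K ⊗[R] A) a =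
      (Algebra.TensorProduct.includeRight : A →ₐ[R] K ⊗[R] A) b := by
    change (1 : K) ⊗ₜ[R] a = 1 ⊗ₜ b
    rw [← h1, ← h1, h]
  exact Algebra.TensorProduct.includeRight_injective (IsFractionRing.injective R K) h2

theorem exists_den_of {π : R} (hπ : Irreducible π) (α : A →ₐ[R] P) (s : P →ₐ[K] K ⊗[R] A)
    (h2 : ∀ p, ext α (s p) = p) (b : P) :
    ∃ (m : ℕ) (a : A), algebraMap R P π ^ m * b = α a := by
  obtain ⟨m, a, h⟩ := exists_den_tensor hπ (s b)
  refine ⟨m, a, ?_⟩
  have h3 := congrArg (ext α) h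
  rw [map_mul, h2, AlgHom.commutes, ext_tmul, map_one, one_mul] at h3
  rw [← h3, map_pow, ← IsScalarTower.algebraMap_apply]

end alg

variable {R : Type u} [CommRing R] [IsDomain R] [IsDiscreteValuationRing R]
  {K : Type u} [Field K] [Algebra R K] [IsFractionRing R K]
variable {G : Over (Spec (CommRingCat.of R))} [GrpObj G] (c : Chart G (𝟙 (Spec (CommRingCat.of R))))

/-- `A → K ⊗ A` as a point -/
noncomputable def incl (R K : Type u) [CommRing R] [Field K] [Algebra R K] (B : Type u) [CommRing B] [Algebra R B] :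
    B →ₐ[R] K ⊗[R] B := Algebra.TensorProduct.includeRight

omit [IsDomain R] [IsDiscreteValuationRing R] in
lemma incl_injective (B : Type u) [CommRing B] [Algebra R B] [Module.Flat R B] :
    Function.Injective (incl R K B) :=
  Algebra.TensorProduct.includeRight_injective (IsFractionRing.injective R K)

set_option linter.unusedSectionVars false

section Ga

variable (e : Red.bc (sK R K) G ≅ Red.Ga (Spec (CommRingCat.of K))) [IsMonHom e.hom]

/-- the inverse of the extension of the universal point -/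
noncomputable def sA : K[X] →ₐ[K] K ⊗[R] c.A := Polynomial.aeval (coA c e (Pt.mk (incl R K c.A)))

lemma sA_univA (a : c.A) : sA c e ((univA c e).hom a) = 1 ⊗ₜ a :=
  (hom_apply_A c e (Pt.mk (incl R K c.A)) a).symm

lemma ext_sA (p : K[X]) : ext (univA c e).hom (sA c e p) = p := by
  have h : (ext (univA c e).hom).comp (sA c e) = AlgHom.id K K[X] := by
    apply Polynomial.algHom_ext
    rw [AlgHom.comp_apply, sA, Polynomial.aeval_X, ← coA_map]
    have : Pt.map ((ext (univA c e).hom).restrictScalars R) (Pt.mk (incl R K c.A)) = univA c e := by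
      apply Pt.ext
      intro a
      change ext (univA c e).hom (1 ⊗ₜ a) = _
      rw [ext_tmul, map_one, one_mul]
    rw [this, univA, coA_ptA]; rfl
  exact DFunLike.congr_fun h p

theorem injective_univA [Module.Flat R c.A] : Function.Injective (univA c e).hom :=
  injective_of _ (sA c e) (sA_univA c e)

theorem exists_den_univA {π : R} (hπ : Irreducible π) (b : K[X]) :
    ∃ (m : ℕ) (a : c.A), Polynomial.C (algebraMap R K π) ^ m * b = (univA c e).hom a :=
  exists_den_of hπ _ (sA c e) (ext_sA c e) b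

/-- the counit -/
noncomputable def counit : c.A →ₐ[R] R := (1 : Pt R c.A R).hom

lemma algebraMap_counit {E : Type u} [CommRing E] [Algebra R E] (a : c.A) :
    (1 : Pt R c.A E).hom a = algebraMap R E (counit c a) := by
  have h := Pt.map_one (A := c.A) (Algebra.ofId R E : R →ₐ[R] E)
  exact (congrArg (fun g : Pt R c.A E => g.hom a) h).symm

lemma eval_univA (a : c.A) : Polynomial.eval 0 ((univA c e).hom a) = algebraMap R K (counit c a) := by
  have h := hom_apply_A c e (1 : Pt R c.A K) a
  rw [coA_one] at h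
  rw [← algebraMap_counit, h, Polynomial.aeval_def, Polynomial.eval]
  rfl

/-- The coordinates of the points of a model. -/
lemma coA_incl (k : K) (hk : k ≠ 0) (φ : c.A →ₐ[R] R[X])
    (hφ : ∀ a, (univA c e).hom a = Polynomial.aeval (Polynomial.C k * Polynomial.X : K[X]) (φ a))
    {B : Type u} [CommRing B] [Algebra R B] {E : Type u} [CommRing E] [Algebra R E] [Algebra K E]
    [IsScalarTower R K E] (i : B →ₐ[R] E) (x : B) :
    coA c e (Pt.map i (Pt.mk ((Polynomial.aeval x).comp φ))) = algebraMap K _ k⁻¹ * i x := by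
  apply coA_eq_of
  intro a
  rw [hφ]
  set z : E := algebraMap K _ k⁻¹ * i x with hz
  have h1 : Polynomial.aeval z (Polynomial.C k * Polynomial.X : K[X]) = i x := by
    rw [map_mul, Polynomial.aeval_C, Polynomial.aeval_X, hz, ← mul_assoc, ← map_mul, mul_inv_cancel₀ hk, map_one,
      one_mul]
  have h2 : ∀ P : R[X], Polynomial.aeval z (Polynomial.aeval (Polynomial.C k * Polynomial.X : K[X]) P) =
      Polynomial.aeval (i x) P := by
    intro P
    have : (((Polynomial.aeval z : K[X] →ₐ[K] E).restrictScalars R).comp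
        (Polynomial.aeval (Polynomial.C k * Polynomial.X : K[X]))) = Polynomial.aeval (i x) := by
      apply Polynomial.algHom_ext
      rw [AlgHom.comp_apply, Polynomial.aeval_X, Polynomial.aeval_X]
      exact h1
    exact DFunLike.congr_fun this P
  rw [h2]
  change i (Polynomial.aeval x (φ a)) = _
  rw [← Polynomial.aeval_algHom_apply]

/-- The model map is additive on flat algebras. -/
theorem ptA_add (k : K) (hk : k ≠ 0) (φ : c.A →ₐ[R] R[X])
    (hφ : ∀ a, (univA c e).hom a = Polynomial.aeval (Polynomial.C k * Polynomial.X : K[X]) (φ a))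
    {B : Type u} [CommRing B] [Algebra R B] [Module.Flat R B] (x y : B) :
    (Pt.mk ((Polynomial.aeval (x + y)).comp φ) : Pt R c.A B) =
      Pt.mk ((Polynomial.aeval x).comp φ) * Pt.mk ((Polynomial.aeval y).comp φ) := by
  apply Pt.map_injective (incl_injective (K := K) B)
  apply coA_injective c e
  rw [Pt.map_mul, coA_mul, coA_incl c e k hk φ hφ, coA_incl c e k hk φ hφ, coA_incl c e k hk φ hφ, map_add]
  ring

end Ga

section Gm

variable (e : Red.bc (sK R K) G ≅ Red.Gm (Spec (CommRingCat.of K))) [IsMonHom e.hom]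

/-- the inverse of the extension of the universal point -/
noncomputable def sM : K[T;T⁻¹] →ₐ[K] K ⊗[R] c.A := GmAlg.aev (coM c e (Pt.mk (incl R K c.A)))

lemma sM_univM (a : c.A) : sM c e ((univM c e).hom a) = 1 ⊗ₜ a :=
  (hom_apply_M c e (Pt.mk (incl R K c.A)) a).symm

lemma ext_sM (p : K[T;T⁻¹]) : ext (univM c e).hom (sM c e p) = p := by
  have h : (ext (univM c e).hom).comp (sM c e) = AlgHom.id K K[T;T⁻¹] := by
    apply GmAlg.algHom_ext
    rw [AlgHom.comp_apply, sM, GmAlg.aev_T, zpow_one, ← coM_map]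
    have : Pt.map ((ext (univM c e).hom).restrictScalars R) (Pt.mk (incl R K c.A)) = univM c e := by
      apply Pt.ext
      intro a
      change ext (univM c e).hom (1 ⊗ₜ a) = _
      rw [ext_tmul, map_one, one_mul]
    rw [this, univM, coM_ptM]; rfl
  exact DFunLike.congr_fun h p

theorem injective_univM [Module.Flat R c.A] : Function.Injective (univM c e).hom :=
  injective_of _ (sM c e) (sM_univM c e)

theorem exists_den_univM {π : R} (hπ : Irreducible π) (b : K[T;T⁻¹]) :
    ∃ (m : ℕ) (a : c.A), LaurentPolynomial.C (algebraMap R K π) ^ m * b = (univM c e).hom a :=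
  exists_den_of hπ _ (sM c e) (ext_sM c e) b

lemma eval_univM (a : c.A) :
    (GmAlg.aev (1 : Kˣ) : K[T;T⁻¹] →ₐ[K] K) ((univM c e).hom a) = algebraMap R K (counit c a) := by
  have h := hom_apply_M c e (1 : Pt R c.A K) a
  rw [coM_one] at h
  rw [← algebraMap_counit, h]

/-- The coordinates of the points of a model. -/
lemma coM_incl (φ : c.A →ₐ[R] R[T;T⁻¹])
    (hφ : ∀ a, (univM c e).hom a = GmAlg.toK R K (φ a))
    {B : Type u} [CommRing B] [Algebra R B] {E : Type u} [CommRing E] [Algebra R E] [Algebra K E]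
    [IsScalarTower R K E] (i : B →ₐ[R] E) (x : Bˣ) :
    coM c e (Pt.map i (Pt.mk ((GmAlg.aev x).comp φ))) = Units.map (i : B →* E) x := by
  apply coM_eq_of
  intro a
  rw [hφ]
  have h2 : ((GmAlg.aev (Units.map (i : B →* E) x) : K[T;T⁻¹] →ₐ[K] E).restrictScalars R).comp
      (GmAlg.toK R K) = i.comp (GmAlg.aev x) := by
    apply GmAlg.algHom_ext
    rw [AlgHom.comp_apply, AlgHom.comp_apply, GmAlg.toK_T, GmAlg.aev_T, zpow_one]
    refine (GmAlg.aev_T _ _).trans ?_
    rw [zpow_one]; rfl
  exact (DFunLike.congr_fun h2 (φ a)).symm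

/-- The model map is multiplicative on flat algebras. -/
theorem ptM_mul (φ : c.A →ₐ[R] R[T;T⁻¹])
    (hφ : ∀ a, (univM c e).hom a = GmAlg.toK R K (φ a))
    {B : Type u} [CommRing B] [Algebra R B] [Module.Flat R B] (x y : Bˣ) :
    (Pt.mk ((GmAlg.aev (x * y)).comp φ) : Pt R c.A B) =
      Pt.mk ((GmAlg.aev x).comp φ) * Pt.mk ((GmAlg.aev y).comp φ) := by
  apply Pt.map_injective (incl_injective (K := K) B)
  apply coM_injective c e
  rw [Pt.map_mul, coM_mul, coM_incl c e φ hφ, coM_incl c e φ hφ, coM_incl c e φ hφ, map_mul]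

end Gm

end K486.CoFlat
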