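import Groth.Agent.Sga3B.CellBase
import Mathlib.RingTheory.Smooth.AdicCompletion
import Mathlib.RingTheory.DiscreteValuationRing.Basic
import Mathlib.RingTheory.LocalRing.ResidueField.Basic
import Mathlib.RingTheory.Jacobson.Ring
import Mathlib.FieldTheory.IsAlgClosed.Basic
import Mathlib.RingTheory.Ideal.MinimalPrime.Noetherian

/-!
# The component group of the special fibre, algebraically
-/

set_option autoImplicit false
universe u

namespace K486.Comp

open Groth.Agent.Sga3B.Cell

theorem eq_of_sub_nilpotent {B : Type*} [CommRing B] {e e' : B} (he : IsIdempotentElem e)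
    (he' : IsIdempotentElem e') (h : IsNilpotent (e - e')) : e = e' := by
  have h1 : IsUnit (1 - (e - e') ^ 2) := (h.pow_of_pos two_ne_zero).isUnit_one_sub
  have he2 : e * e = e := he
  have he2' : e' * e' = e' := he'
  have h2 : (e - e') * (1 - (e - e') ^ 2) = 0 := by
    have : (e - e') * (1 - (e - e') ^ 2) =
      (e - e') - (e * e * e - 3 * (e * e) * e' + 3 * e * (e' * e') - e' * e' * e') := by ring
    rw [this, he2, he2, he2', he2']
    ring
  exact sub_eq_zero.1 (h1.mul_left_eq_zero.1 h2)

/-- A noetherian ring has finitely many idempotents. -/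
theorem finite_idempotents (B : Type*) [CommRing B] [IsNoetherianRing B] :
    Finite {e : B // IsIdempotentElem e} := by
  have hfin : (minimalPrimes B).Finite := minimalPrimes.finite_of_isNoetherianRing B
  have : Finite ↥(minimalPrimes B) := hfin
  let F : {e : B // IsIdempotentElem e} → Set (minimalPrimes B) := fun e => {p | (e : B) ∈ (p : Ideal B)}
  have hinj : Function.Injective F := by
    rintro ⟨e, he⟩ ⟨e', he'⟩ h
    have key : ∀ (p : Ideal B), p.IsPrime → ∀ e : B, IsIdempotentElem e → e ∉ p → 1 - e ∈ p := by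
      intro p hp e he hep
      refine (hp.mem_or_mem ?_).resolve_left hep
      rw [mul_sub, mul_one, he.eq, sub_self]
      exact p.zero_mem
    have hnil : e - e' ∈ (⊥ : Ideal B).radical := by
      rw [← Ideal.sInf_minimalPrimes, Ideal.mem_sInf]
      intro p hp
      have hpp : p.IsPrime := Ideal.IsMinimalPrime.isPrime hp
      have h1 : e ∈ p ↔ e' ∈ p := Set.ext_iff.1 h ⟨p, hp⟩
      by_cases hep : e ∈ p
      · exact p.sub_mem hep (h1.1 hep)
      · have h2 := p.sub_mem (key p hpp e' he' (fun h' => hep (h1.2 h'))) (key p hpp e he hep)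
        convert h2 using 1
        ring
    exact Subtype.ext (eq_of_sub_nilpotent he he' (by
      obtain ⟨n, hn⟩ := hnil
      exact ⟨n, by simpa using hn⟩))
  exact Finite.of_injective F hinj

section

variable {R : Type u} [CommRing R] {A : Type u} [CommRing A] [Algebra R A] [PtGrp R A]
  {k : Type u} [CommRing k] [Algebra R k] (hk : Function.Surjective (algebraMap R k))
  (I : Ideal R) (hI : ∀ r ∈ I, algebraMap R k r = 0)

include hk in
/-- Some positive power of a point of the special fibre is in the identity component. -/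
theorem exists_pow {B : Type u} [CommRing B] [Algebra R B] [IsNoetherianRing B] (q : A →ₐ[R] B) (κ : k →ₐ[R] B)
    (hfac : ∀ h : Pt R A k, ∃ h' : B →ₐ[R] k, h'.comp q = h.hom)
    (f : A) (hf : ∀ g : Pt R A B, IsIdempotentElem (g.hom f))
    (x : Pt R A k) : ∃ N : ℕ, 0 < N ∧ (x ^ N).hom f = (1 : Pt R A k).hom f := by
  have hfin := finite_idempotents B
  let F : ℕ → {e : B // IsIdempotentElem e} := fun n => ⟨(Pt.mk q * Pt.map κ (x ^ n)).hom f, hf _⟩
  obtain ⟨n, m, hnm, hF⟩ := Finite.exists_ne_map_eq_of_infinite F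
  wlog hlt : n < m generalizing n m
  · exact this m n hnm.symm hF.symm (by omega)
  refine ⟨m - n, by omega, ?_⟩
  obtain ⟨h', hh'⟩ := hfac (x ^ n)⁻¹
  have key : ∀ j, h' ((Pt.mk q * Pt.map κ (x ^ j)).hom f) = ((x ^ n)⁻¹ * x ^ j).hom f := by
    intro j
    have h1 : Pt.map h' (Pt.mk q * Pt.map κ (x ^ j)) = (x ^ n)⁻¹ * x ^ j := by
      rw [Pt.map_mul]
      congr 1
      apply Pt.ext
      intro a
      change h' (κ ((x ^ j).hom a)) = (x ^ j).hom a
      obtain ⟨r, hr⟩ := hk ((x ^ j).hom a)
      rw [← hr, AlgHom.commutes, AlgHom.commutes]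
    rw [← h1]; rfl
  have h2 : (F n : B) = (F m : B) := congrArg Subtype.val hF
  have h3 := congrArg h' h2
  rw [key, key, inv_mul_cancel] at h3
  rw [h3, ← pow_mul_pow_sub x hlt.le, inv_mul_cancel_left]

end

section local'

variable {R : Type u} [CommRing R] [IsLocalRing R] {π : R} (hπ : IsLocalRing.maximalIdeal R = Ideal.span {π})
  {A : Type u} [CommRing A] [Algebra R A]

include hπ in
theorem residue_eq_zero : algebraMap R (IsLocalRing.ResidueField R) π = 0 := by
  change IsLocalRing.residue R π = 0
  rw [IsLocalRing.residue_eq_zero_iff, hπ]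
  exact Ideal.mem_span_singleton_self π

include hπ in
/-- `R/π → B` for an `R`-algebra killed by `π` -/
theorem exists_resid (B : Type u) [CommRing B] [Algebra R B] (h : algebraMap R B π = 0) :
    Nonempty (IsLocalRing.ResidueField R →ₐ[R] B) := by
  refine ⟨Ideal.Quotient.liftₐ (IsLocalRing.maximalIdeal R) (Algebra.ofId R B) ?_⟩
  intro r hr
  rw [hπ, Ideal.mem_span_singleton] at hr
  obtain ⟨s, rfl⟩ := hr
  rw [map_mul]
  change algebraMap R B π * _ = 0
  rw [h, zero_mul]

include hπ in
/-- If `f` is non-zero at every point of the special fibre then `f` is `1` modulo `π`. -/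
theorem eq_one_add [IsAlgClosed (IsLocalRing.ResidueField R)] [Algebra.FiniteType R A] (f : A)
    (hf : ∃ a, f * f - f = algebraMap R A π * a)
    (h : ∀ g : A →ₐ[R] IsLocalRing.ResidueField R, g f ≠ 0) : ∃ a, f = 1 + algebraMap R A π * a := by
  have hu : IsUnit (Ideal.Quotient.mk (Ideal.span {algebraMap R A π}) f) := by
    by_contra hnu
    obtain ⟨M, hM, hfM⟩ := exists_max_ideal_of_mem_nonunits hnu
    let M' : Ideal A := M.comap (Ideal.Quotient.mk (Ideal.span {algebraMap R A π}))
    have hM' : M'.IsMaximal := Ideal.comap_isMaximal_of_surjective _ Ideal.Quotient.mk_surjective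
    have hπM : algebraMap R A π ∈ M' := by
      change Ideal.Quotient.mk _ (algebraMap R A π) ∈ M
      rw [Ideal.Quotient.eq_zero_iff_mem.2 (Ideal.mem_span_singleton_self _)]
      exact M.zero_mem
    have hf' : f ∈ M' := hfM
    let L := A ⧸ M'
    let _ : Field L := Ideal.Quotient.field M'
    have h0 : algebraMap R L π = 0 := Ideal.Quotient.eq_zero_iff_mem.2 hπM
    obtain ⟨κ⟩ := exists_resid hπ L h0
    let _ : Algebra (IsLocalRing.ResidueField R) L := (κ : IsLocalRing.ResidueField R →+* L).toAlgebra
    have : IsScalarTower R (IsLocalRing.ResidueField R) L := IsScalarTower.of_algebraMap_eq' (by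
      ext r; exact (κ.commutes r).symm)
    have hft : Algebra.FiniteType R L := Algebra.FiniteType.of_surjective (Ideal.Quotient.mkₐ R M')
      (Ideal.Quotient.mkₐ_surjective R M')
    have hft' : Algebra.FiniteType (IsLocalRing.ResidueField R) L := Algebra.FiniteType.of_restrictScalars_finiteType R _ L
    have hfin : Module.Finite (IsLocalRing.ResidueField R) L := finite_of_finite_type_of_isJacobsonRing _ _
    have hbij : Function.Bijective (algebraMap (IsLocalRing.ResidueField R) L) :=
      IsAlgClosed.algebraMap_bijective_of_isIntegral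
    let ε : IsLocalRing.ResidueField R ≃ₐ[R] L := AlgEquiv.ofBijective κ hbij
    apply h ((ε.symm : L →ₐ[R] IsLocalRing.ResidueField R).comp (Ideal.Quotient.mkₐ R M'))
    change ε.symm (Ideal.Quotient.mk M' f) = 0
    rw [Ideal.Quotient.eq_zero_iff_mem.2 hf', map_zero]
  obtain ⟨a, ha⟩ := hf
  have h1 : Ideal.Quotient.mk (Ideal.span {algebraMap R A π}) f *
      (Ideal.Quotient.mk (Ideal.span {algebraMap R A π}) f - 1) = 0 := by
    have : Ideal.Quotient.mk (Ideal.span {algebraMap R A π}) (f * f - f) = 0 := by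
      rw [ha, Ideal.Quotient.eq_zero_iff_mem]
      exact Ideal.mul_mem_right _ _ (Ideal.mem_span_singleton_self _)
    rw [map_sub, map_mul] at this
    rw [mul_sub, mul_one, this]
  have h2 := (hu.mul_right_eq_zero).1 h1
  rw [← map_one (Ideal.Quotient.mk (Ideal.span {algebraMap R A π})), ← map_sub,
    Ideal.Quotient.eq_zero_iff_mem, Ideal.mem_span_singleton] at h2
  obtain ⟨b, hb⟩ := h2
  exact ⟨b, by rw [← hb]; ring⟩

/-- points of the special fibre lift -/
theorem exists_lift [IsAdicComplete (IsLocalRing.maximalIdeal R) R] [Algebra.FormallySmooth R A]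
    (x : A →ₐ[R] IsLocalRing.ResidueField R) :
    ∃ g : A →ₐ[R] R, (Algebra.ofId R (IsLocalRing.ResidueField R)).comp g = x := by
  obtain ⟨g, hg⟩ := Algebra.FormallySmooth.exists_mkₐ_comp_eq_of_isAdicComplete (R := R) (A := A)
    (I := IsLocalRing.maximalIdeal R) x
  exact ⟨g, hg⟩

variable [PtGrp R A]

include hπ in
/-- Some positive power of a point of the special fibre is in the identity component. -/
theorem exists_pow' [IsNoetherianRing A] (f : A)
    (hf : ∃ a, f * f - f = algebraMap R A π * a)
    (x : Pt R A (IsLocalRing.ResidueField R)) :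
    ∃ N : ℕ, 0 < N ∧ (x ^ N).hom f = (1 : Pt R A (IsLocalRing.ResidueField R)).hom f := by
  let B := A ⧸ Ideal.span {algebraMap R A π}
  have hB0 : algebraMap R B π = 0 :=
    Ideal.Quotient.eq_zero_iff_mem.2 (Ideal.mem_span_singleton_self _)
  obtain ⟨κ⟩ := exists_resid hπ B hB0
  refine exists_pow (R := R) (k := IsLocalRing.ResidueField R) IsLocalRing.residue_surjective (B := B)
    (Ideal.Quotient.mkₐ R _) κ ?_ f ?_ x
  · intro h
    refine ⟨Ideal.Quotient.liftₐ _ h.hom ?_, ?_⟩
    · intro a ha
      rw [Ideal.mem_span_singleton] at ha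
      obtain ⟨s, rfl⟩ := ha
      rw [map_mul, AlgHom.commutes, residue_eq_zero hπ, zero_mul]
    · ext a; rfl
  · intro g
    obtain ⟨a, ha⟩ := hf
    have h1 := congrArg g.hom ha
    rw [map_sub, map_mul, map_mul, AlgHom.commutes, hB0, zero_mul] at h1
    exact sub_eq_zero.1 h1

end local'

end K486.Comp
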