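import Groth.Agent.Sga3B.ChartEx
import Groth.Prelude.Def_GmPts

/-!
# Points of a model of the additive / multiplicative group

`G` a group over `Spec R` with an affine chart `c`, `ι : R → K`, `e : G_K ≅ H`.  For a `K`-algebra `E`, the
`E`-points of `G` are the `E`-points of `H`.
-/

set_option autoImplicit false
universe u

open CategoryTheory MonoidalCategory CartesianMonoidalCategory MonObj GrpObj AlgebraicGeometry Limits

namespace K486.ModelPts

open Groth.Agent.Sga3B Groth.Agent.Sga3B.Cell Groth.Agent.Sga3B.PinMod Groth.Agent.Sga3B.DSPts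
  Groth.Agent.Sga3B.GaPts

section gen

variable {S : Scheme.{u}} {T T' : Over S}

/-- precomposition with an isomorphism -/
noncomputable def pre (i : T ≅ T') (G : Over S) [GrpObj G] : (T' ⟶ G) ≃* (T ⟶ G) where
  toFun x := i.hom ≫ x
  invFun x := i.inv ≫ x
  left_inv x := by simp
  right_inv x := by simp
  map_mul' x y := MonObj.comp_mul _ _ _

@[simp] lemma pre_apply (i : T ≅ T') (G : Over S) [GrpObj G] (x : T' ⟶ G) : pre i G x = i.hom ≫ x := rfl

/-- postcomposition with an isomorphism of groups -/
noncomputable def post (T : Over S) {G H : Over S} [GrpObj G] [GrpObj H] (e : G ≅ H) [IsMonHom e.hom] :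
    (T ⟶ G) ≃* (T ⟶ H) where
  toFun x := x ≫ e.hom
  invFun x := x ≫ e.inv
  left_inv x := by simp
  right_inv x := by simp
  map_mul' x y := MonObj.mul_comp _ _ _

@[simp] lemma post_apply (T : Over S) {G H : Over S} [GrpObj G] [GrpObj H] (e : G ≅ H) [IsMonHom e.hom]
    (x : T ⟶ G) : post T e x = x ≫ e.hom := rfl

end gen

variable {R : Type u} [CommRing R] {K : Type u} [CommRing K] [Algebra R K]

/-- `Spec K → Spec R` -/
noncomputable abbrev sK (R K : Type u) [CommRing R] [CommRing K] [Algebra R K] :
    Spec (CommRingCat.of K) ⟶ Spec (CommRingCat.of R) := Spec.map (CommRingCat.ofHom (algebraMap R K))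

section

variable (E : Type u) [CommRing E] [Algebra R E] [Algebra K E] [IsScalarTower R K E]
variable (F : Type u) [CommRing F] [Algebra R F] [Algebra K F] [IsScalarTower R K F]

/-- `Spec E` over `Spec R` in two ways -/
noncomputable def isoT (R K : Type u) [CommRing R] [CommRing K] [Algebra R K]
    (E : Type u) [CommRing E] [Algebra R E] [Algebra K E] [IsScalarTower R K E] :
    (Over.map (sK R K)).obj (tB (𝟙 (Spec (CommRingCat.of K))) E) ≅ tB (𝟙 (Spec (CommRingCat.of R))) E :=
  Over.isoMk (Iso.refl _) (by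
    simp only [Over.map_obj_hom, Over.mk_hom, Over.map_obj_left, Over.mk_left, Iso.refl_hom, Category.id_comp,
      Category.comp_id]
    rw [← Spec.map_comp, ← CommRingCat.ofHom_comp, ← IsScalarTower.algebraMap_eq])

lemma isoT_hom_left : (isoT R K E).hom.left = 𝟙 _ := rfl

variable {E F}

lemma isoT_nat (φ : E →ₐ[K] F) :
    (Over.map (sK R K)).map (tMap (𝟙 (Spec (CommRingCat.of K))) φ) ≫ (isoT R K E).hom =
      (isoT R K F).hom ≫ tMap (𝟙 (Spec (CommRingCat.of R))) (φ.restrictScalars R) := by
  ext1
  simp only [Over.comp_left, isoT_hom_left, Over.map_map_left, tMap_left]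
  exact (Category.comp_id _).trans (Category.id_comp _).symm

variable {G : Over (Spec (CommRingCat.of R))} [GrpObj G] (c : Chart G (𝟙 (Spec (CommRingCat.of R))))
  {H : Over (Spec (CommRingCat.of K))} [GrpObj H] (e : Red.bc (sK R K) G ≅ H) [IsMonHom e.hom]

variable (E) in
/-- The points of the generic fibre. -/
noncomputable def u : Pt R c.A E ≃* (tB (𝟙 (Spec (CommRingCat.of K))) E ⟶ H) :=
  (((c.pts E).trans (pre (isoT R K E) G)).trans (bcEquiv (sK R K) _ G)).trans (post _ e)

lemma u_apply (g : Pt R c.A E) :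
    u E c e g = bcEquiv (sK R K) _ G ((isoT R K E).hom ≫ c.pts E g) ≫ e.hom := rfl

lemma u_map (φ : E →ₐ[K] F) (g : Pt R c.A E) :
    u F c e (Pt.map (φ.restrictScalars R) g) = tMap _ φ ≫ u E c e g := by
  rw [u_apply, u_apply, ← Category.assoc, bcEquiv_naturality, ← Category.assoc, isoT_nat, Category.assoc,
    ← c.pts_nat]

end

end K486.ModelPts
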