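import Groth.Agent.Neron.K486.CompTop
import Groth.Agent.Neron.K486.ModelPts

/-!
# Connected components of the special fibre of an affine group scheme
-/

set_option autoImplicit false
universe u

open CategoryTheory MonoidalCategory CartesianMonoidalCategory MonObj GrpObj AlgebraicGeometry Limits

namespace K486.CompSch

open Groth.Agent.Sga3B Groth.Agent.Sga3B.Cell Groth.Agent.Sga3B.PinMod Groth.Agent.Sga3B.DSPts K486.ModelPts

variable {R : Type u} [CommRing R]
variable {G : Over (Spec (CommRingCat.of R))} [GrpObj G] (c : Chart G (𝟙 (Spec (CommRingCat.of R))))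

theorem smooth_chart [hG : Smooth G.hom] : Smooth (Spec.map (CommRingCat.ofHom (algebraMap R c.A))) :=
  MorphismProperty.of_isPullback (P := @Smooth) c.isPullback hG

theorem algebra_smooth [Smooth G.hom] : Algebra.Smooth R c.A := by
  have h := smooth_chart c
  have h2 := (HasRingHomProperty.Spec_iff (P := @Smooth)).mp h
  exact RingHom.smooth_algebraMap.1 h2

section pts

variable {k : Type u} [Field k] [Algebra R k]

/-- two forms of the terminal object -/
noncomputable def tr {S : Scheme.{u}} (s' : S ⟶ S) (h : s' = 𝟙 S) (H : Over S) [GrpObj H] :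
    (Over.mk s' ⟶ H) ≃* (𝟙_ (Over S) ⟶ H) :=
  pre (Over.isoMk (Iso.refl S) ((Category.id_comp _).trans h) : 𝟙_ (Over S) ≅ Over.mk s') H

lemma tr_left {S : Scheme.{u}} (s' : S ⟶ S) (h : s' = 𝟙 S) (H : Over S) [GrpObj H] (x : Over.mk s' ⟶ H) :
    (tr s' h H x).left = 𝟙 S ≫ x.left := rfl

lemma specMap_self (k : Type u) [Field k] :
    Spec.map (CommRingCat.ofHom (algebraMap k k)) ≫ 𝟙 (Spec (CommRingCat.of k)) = 𝟙 (Spec (CommRingCat.of k)) := by
  rw [Algebra.algebraMap_self, CommRingCat.ofHom_id, Spec.map_id, Category.comp_id]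

instance (H : Over (Spec (CommRingCat.of k))) [GrpObj H] : IsMonHom (Iso.refl H).hom :=
  inferInstanceAs (IsMonHom (𝟙 H))

/-- points of the special fibre -/
noncomputable def w (k : Type u) [Field k] [Algebra R k] : Pt R c.A k ≃*
    (𝟙_ (Over (Spec (CommRingCat.of k))) ⟶ Red.bc (sK R k) G) :=
  (u k c (Iso.refl (Red.bc (sK R k) G))).trans (tr _ (specMap_self k) _)

lemma u_fst (g : Pt R c.A k) : (u k c (Iso.refl (Red.bc (sK R k) G)) g).left ≫ pullback.fst G.hom (sK R k) =
    Spec.map (CommRingCat.ofHom (g.hom : c.A →+* k)) ≫ c.p := by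
  have h1 : u k c (Iso.refl (Red.bc (sK R k) G)) g =
      bcEquiv (sK R k) _ G ((isoT R k k).hom ≫ c.pts k g) ≫ 𝟙 _ := rfl
  rw [h1, Category.comp_id, bcEquiv_fst, Over.comp_left, c.pts_left]
  exact Category.id_comp _

lemma w_fst (g : Pt R c.A k) : (w c k g).left ≫ pullback.fst G.hom (sK R k) =
    Spec.map (CommRingCat.ofHom (g.hom : c.A →+* k)) ≫ c.p := by
  rw [← u_fst]
  have h1 : (w c k g).left = 𝟙 _ ≫ (u k c (Iso.refl (Red.bc (sK R k) G)) g).left :=
    tr_left _ (specMap_self k) _ _
  rw [h1, Category.assoc]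
  exact Category.id_comp _

lemma w_snd (g : Pt R c.A k) : (w c k g).left ≫ pullback.snd G.hom (sK R k) = 𝟙 _ := Over.w (w c k g)

lemma w_one : w c k 1 = MonObj.one := by
  rw [_root_.map_one]
  rw [← MonObj.one_eq_one]

end pts

theorem mem_connectedComponent_iff {X Y : Type*} [TopologicalSpace X] [TopologicalSpace Y] (h : X ≃ₜ Y) (x y : X) :
    h x ∈ connectedComponent (h y) ↔ x ∈ connectedComponent y := by
  constructor
  · intro hx
    have := h.symm.continuous.mapsTo_connectedComponent (h y) hx
    simpa using this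
  · intro hx
    exact h.continuous.mapsTo_connectedComponent y hx

section fibre

variable [IsLocalRing R] {π : R} (hπ : IsLocalRing.maximalIdeal R = Ideal.span {π})

theorem isPullback_fibre : IsPullback
    (Spec.map (CommRingCat.ofHom (Ideal.Quotient.mk (Ideal.span {algebraMap R c.A π}))) ≫ c.p)
    (Spec.map (CommRingCat.ofHom (CompTop.kap (A := c.A) hπ))) G.hom
    (sK R (IsLocalRing.ResidueField R)) := by
  have h := (CompTop.isPullback (A := c.A) hπ).paste_horiz c.isPullback
  rw [Category.comp_id] at h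
  exact h

/-- the special fibre as a spectrum -/
noncomputable def Psi : Spec (CommRingCat.of (c.A ⧸ Ideal.span {algebraMap R c.A π})) ≅
    pullback G.hom (sK R (IsLocalRing.ResidueField R)) :=
  (isPullback_fibre c hπ).isoPullback

/-- the point of `A/π` -/
noncomputable def bar (g : Pt R c.A (IsLocalRing.ResidueField R)) (h0 : algebraMap R (IsLocalRing.ResidueField R) π = 0) :
    (c.A ⧸ Ideal.span {algebraMap R c.A π}) →+* IsLocalRing.ResidueField R :=
  Ideal.Quotient.lift _ (g.hom : c.A →+* IsLocalRing.ResidueField R) (by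
    intro a ha
    rw [Ideal.mem_span_singleton] at ha
    obtain ⟨s, rfl⟩ := ha
    rw [_root_.map_mul]
    change g.hom (algebraMap R c.A π) * _ = 0
    rw [AlgHom.commutes, h0, zero_mul])

variable (h0 : algebraMap R (IsLocalRing.ResidueField R) π = 0)

lemma w_eq (g : Pt R c.A (IsLocalRing.ResidueField R)) :
    (w c _ g).left = Spec.map (CommRingCat.ofHom (bar c g h0)) ≫ (Psi c hπ).hom := by
  apply pullback.hom_ext
  · rw [w_fst, Category.assoc, Psi, IsPullback.isoPullback_hom_fst, ← Category.assoc, ← Spec.map_comp,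
      ← CommRingCat.ofHom_comp]
    rfl
  · rw [w_snd, Category.assoc, Psi, IsPullback.isoPullback_hom_snd, ← Spec.map_comp, ← CommRingCat.ofHom_comp]
    have : (bar c g h0).comp (CompTop.kap hπ) = RingHom.id _ := by
      apply RingHom.ext
      intro r
      obtain ⟨r, rfl⟩ := IsLocalRing.residue_surjective r
      exact g.hom.commutes r
    rw [this]
    exact (Spec.map_id _).symm

/-- the point of the spectrum of `A/π` attached to a point -/
noncomputable def pt (g : Pt R c.A (IsLocalRing.ResidueField R)) :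
    PrimeSpectrum (c.A ⧸ Ideal.span {algebraMap R c.A π}) :=
  PrimeSpectrum.comap (bar c g h0) (IsLocalRing.closedPoint (IsLocalRing.ResidueField R))

lemma mem_pt (g : Pt R c.A (IsLocalRing.ResidueField R)) (a : c.A) :
    Ideal.Quotient.mk (Ideal.span {algebraMap R c.A π}) a ∈ (pt c h0 g).asIdeal ↔ g.hom a = 0 := by
  change (bar c g h0) (Ideal.Quotient.mk (Ideal.span {algebraMap R c.A π}) a) ∈
    IsLocalRing.maximalIdeal (IsLocalRing.ResidueField R) ↔ _
  rw [IsLocalRing.maximalIdeal_eq_bot, Ideal.mem_bot]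
  rfl

lemma w_closedPoint (g : Pt R c.A (IsLocalRing.ResidueField R)) :
    (w c _ g).left.base (IsLocalRing.closedPoint (IsLocalRing.ResidueField R)) =
      (Psi c hπ).hom.base (pt c h0 g) := by
  rw [w_eq c hπ h0 g]
  rfl

include hπ h0 in
/-- **The identity component of the special fibre of a smooth affine group.** -/
theorem exists_comp [Smooth G.hom] [IsNoetherianRing c.A] (hreg : ∀ a : c.A, algebraMap R c.A π * a = 0 → a = 0) :
    ∃ f : c.A, (∃ a, f * f - f = algebraMap R c.A π * a) ∧ Prime (algebraMap R (Localization.Away f) π) ∧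
      (1 : Pt R c.A (IsLocalRing.ResidueField R)).hom f ≠ 0 ∧
      (∀ g : Pt R c.A (IsLocalRing.ResidueField R),
        (w c _ g).left.base (IsLocalRing.closedPoint (IsLocalRing.ResidueField R)) ∈
          connectedComponent ((w c _ (1 : Pt R c.A (IsLocalRing.ResidueField R))).left.base
            (IsLocalRing.closedPoint (IsLocalRing.ResidueField R))) ↔ g.hom f ≠ 0) ∧
      ((∃ a, f = 1 + algebraMap R c.A π * a) →
        ConnectedSpace ↥(Red.bc (sK R (IsLocalRing.ResidueField R)) G).left) := by
  obtain ⟨f, hf, hp, hc⟩ := CompTop.exists_comp hπ (smooth_chart c) hreg (pt c h0 1)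
  have key : ∀ g : Pt R c.A (IsLocalRing.ResidueField R), pt c h0 g ∈ connectedComponent (pt c h0 1) ↔
      g.hom f ≠ 0 := by
    intro g
    rw [hc, mem_pt]
  let Φ : PrimeSpectrum (c.A ⧸ Ideal.span {algebraMap R c.A π}) ≃ₜ
      ↥(pullback G.hom (sK R (IsLocalRing.ResidueField R))) :=
    Scheme.homeoOfIso (Psi c hπ)
  refine ⟨f, hf, hp, (key 1).1 mem_connectedComponent, ?_, ?_⟩
  · intro g
    rw [← key, w_closedPoint c hπ h0, w_closedPoint c hπ h0]
    exact mem_connectedComponent_iff Φ _ _
  · rintro ⟨a, ha⟩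
    have h1 : connectedComponent (pt c h0 1) = Set.univ := by
      ext z
      rw [hc, ha, map_add, _root_.map_one, _root_.map_mul, Ideal.Quotient.eq_zero_iff_mem.2 (Ideal.mem_span_singleton_self _),
        zero_mul, add_zero]
      simpa using (Ideal.ne_top_iff_one _).1 z.2.ne_top
    have h2 : ConnectedSpace (PrimeSpectrum (c.A ⧸ Ideal.span {algebraMap R c.A π})) :=
      { isPreconnected_univ := by rw [← h1]; exact isPreconnected_connectedComponent
        toNonempty := ⟨pt c h0 1⟩ }
    exact Φ.surjective.connectedSpace Φ.continuous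

end fibre

end K486.CompSch
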