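import Groth.Agent.Neron.K486.HomCrit
import Groth.Agent.Neron.K486.CoFlat
import Groth.Agent.Neron.K486.Comp
import Groth.Agent.Neron.K486.CompSch
import Groth.Agent.Sga7.H738.GaBc

/-!
# Affine smooth models of the additive group
-/

set_option autoImplicit false
universe u

open CategoryTheory MonoidalCategory CartesianMonoidalCategory MonObj GrpObj AlgebraicGeometry Limits
open scoped TensorProduct Polynomial

namespace K486.GaModel

open Groth.Agent.Sga3B Groth.Agent.Sga3B.Cell Groth.Agent.Sga3B.PinMod Groth.Agent.Sga3B.DSPts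
  Groth.Agent.Sga3B.GaPts K486.ModelPts K486.CoPts K486.CoFlat

section hom

variable {R : Type u} [CommRing R]
variable {G : Over (Spec (CommRingCat.of R))} [GrpObj G] (c : Chart G (𝟙 (Spec (CommRingCat.of R))))

/-- `Spec R[X] → 𝔾_a` -/
noncomputable def t₀ (R : Type u) [CommRing R] :
    tB (𝟙 (Spec (CommRingCat.of R))) R[X] ⟶ Red.Ga (Spec (CommRingCat.of R)) :=
  gaPt _ (fnOf _ Polynomial.X)

instance isIso_t₀_left : IsIso (t₀ R).left := by
  have h := Groth.Agent.Sga3B.isPullback_ga (𝟙 (Spec (CommRingCat.of R)))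
  exact h.isIso_fst_of_isIso

instance isIso_t₀ : IsIso (t₀ R) := by
  have : IsIso ((Over.forget _).map (t₀ R)) := isIso_t₀_left
  exact isIso_of_reflects_iso (t₀ R) (Over.forget _)

/-- The morphism `𝔾_a → G` given by `φ : A → R[X]`. -/
noncomputable def jmap (φ : c.A →ₐ[R] R[X]) : Red.Ga (Spec (CommRingCat.of R)) ⟶ G :=
  inv (t₀ R) ≫ c.pts R[X] (Pt.mk φ)

lemma comp_jmap (φ : c.A →ₐ[R] R[X]) {B : Type u} [CommRing B] [Algebra R B]
    (x : tB (𝟙 (Spec (CommRingCat.of R))) B ⟶ Red.Ga (Spec (CommRingCat.of R))) :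
    x ≫ jmap c φ = c.pts B (Pt.mk ((Polynomial.aeval (unFn _ (Red.gaFn x))).comp φ)) := by
  have h1 : x = tMap _ (Polynomial.aeval (unFn _ (Red.gaFn x)) : R[X] →ₐ[R] B) ≫ t₀ R := by
    apply gaFn_injective
    rw [t₀, tMap_gaPt, gaFn_gaPt, Polynomial.aeval_X, fnOf_unFn]
  conv_lhs => rw [h1]
  rw [jmap, Category.assoc, IsIso.hom_inv_id_assoc, c.pts_nat]
  rfl

instance isIso_p : IsIso c.p := c.isPullback.isIso_fst_of_isIso

lemma isOpenImmersion_jmap (φ : c.A →ₐ[R] R[X])
    (h : IsOpenImmersion (Spec.map (CommRingCat.ofHom (φ : c.A →+* R[X])))) : IsOpenImmersion (jmap c φ).left := by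
  have h1 : (jmap c φ).left = (inv (t₀ R)).left ≫ Spec.map (CommRingCat.ofHom (φ : c.A →+* R[X])) ≫ c.p := by
    rw [jmap, Over.comp_left, c.pts_left]
    rfl
  rw [h1]
  have h2 : IsIso (inv (t₀ R)).left := inferInstanceAs (IsIso ((Over.forget _).map (inv (t₀ R))))
  infer_instance

lemma isIso_jmap (φ : c.A →ₐ[R] R[X]) (h : Function.Bijective φ) : IsIso (jmap c φ) := by
  have h1 : (jmap c φ).left = (inv (t₀ R)).left ≫ Spec.map (CommRingCat.ofHom (φ : c.A →+* R[X])) ≫ c.p := by
    rw [jmap, Over.comp_left, c.pts_left]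
    rfl
  have h2 : IsIso (inv (t₀ R)).left := inferInstanceAs (IsIso ((Over.forget _).map (inv (t₀ R))))
  have h4 : IsIso (CommRingCat.ofHom (φ : c.A →+* R[X])) :=
    (ConcreteCategory.isIso_iff_bijective _).2 h
  have h3 : IsIso ((Over.forget _).map (jmap c φ)) := by
    change IsIso (jmap c φ).left
    rw [h1]
    infer_instance
  exact isIso_of_reflects_iso (jmap c φ) (Over.forget _)

lemma isMonHom_jmap (φ : c.A →ₐ[R] R[X])
    (h : ∀ {B : Type u} [CommRing B] [Algebra R B] [Module.Flat R B] (x y : B),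
      (Pt.mk ((Polynomial.aeval (x + y)).comp φ) : Pt R c.A B) =
      Pt.mk ((Polynomial.aeval x).comp φ) * Pt.mk ((Polynomial.aeval y).comp φ)) : IsMonHom (jmap c φ) := by
  have h1 : IsAffineHom (Red.Ga (Spec (CommRingCat.of R))).hom := Groth.Agent.Sga7.H738.GaBc.affine_ga
  have h2 : Smooth (Red.Ga (Spec (CommRingCat.of R))).hom := Groth.Agent.Sga7.H738.GaBc.smooth_ga
  apply HomCrit.isMonHom_of_flat
  intro B _ _ _ x y
  rw [comp_jmap, comp_jmap, comp_jmap, ← map_mul, gaFn_mul, unFn_add, h]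

end hom

set_option linter.unusedSectionVars false

section main

variable {R : Type u} [CommRing R] [IsDomain R] [IsDiscreteValuationRing R]
  [IsAlgClosed (IsLocalRing.ResidueField R)] {K : Type u} [Field K] [Algebra R K] [IsFractionRing R K]
  {G : Over (Spec (CommRingCat.of R))} [GrpObj G] [Smooth G.hom] (c : Chart G (𝟙 (Spec (CommRingCat.of R))))

/-- the residue field -/
local notation "κ" => IsLocalRing.ResidueField R

omit [IsDomain R] [IsDiscreteValuationRing R] [IsAlgClosed κ] in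
theorem isUnit_iff_map [IsLocalRing R] (g : Pt R c.A R) (f : c.A) :
    IsUnit (g.hom f) ↔ (Pt.map (Algebra.ofId R κ) g).hom f ≠ 0 := by
  change _ ↔ IsLocalRing.residue R (g.hom f) ≠ 0
  rw [IsLocalRing.residue_ne_zero_iff_isUnit]

/-- the rescaled coordinate of an `R`-point -/
noncomputable def wt (e : Red.bc (sK R K) G ≅ Red.Ga (Spec (CommRingCat.of K))) [IsMonHom e.hom] (k₀ : K)
    (g : Pt R c.A R) : K := k₀ * coA c e (Pt.map (Algebra.ofId R K) g)

/-- The output of the analysis of an affine smooth model of the additive group. -/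
structure Data (e : Red.bc (sK R K) G ≅ Red.Ga (Spec (CommRingCat.of K))) [IsMonHom e.hom] (π : R) where
  f : c.A
  φ : c.A →ₐ[R] R[X]
  k₀ : K
  k₀_ne : k₀ ≠ 0
  rel : ∀ a, (univA c e).hom a = Polynomial.aeval (Polynomial.C k₀ * Polynomial.X : K[X]) (φ a)
  idem : ∃ a, f * f - f = algebraMap R c.A π * a
  imm : IsOpenImmersion (Spec.map (CommRingCat.ofHom (φ : c.A →+* R[X])))
  one_ne : (1 : Pt R c.A κ).hom f ≠ 0
  mem : ∀ g : Pt R c.A κ,
        (CompSch.w c _ g).left.base (IsLocalRing.closedPoint κ) ∈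
          connectedComponent ((CompSch.w c _ (1 : Pt R c.A κ)).left.base
            (IsLocalRing.closedPoint κ)) ↔ g.hom f ≠ 0
  conn : (∃ a, f = 1 + algebraMap R c.A π * a) → ConnectedSpace ↥(Red.bc (sK R κ) G).left
  bij : (∃ a, f = 1 + algebraMap R c.A π * a) → Function.Bijective φ
  unit : ∀ g : Pt R c.A R, IsUnit (g.hom f) ↔ ∃ r, wt c e k₀ g = algebraMap R K r

omit [IsAlgClosed κ] in
theorem maximalIdeal_eq {π : R} (hπ : Irreducible π) : IsLocalRing.maximalIdeal R = Ideal.span {π} :=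
  (IsDiscreteValuationRing.irreducible_iff_uniformizer π).1 hπ

theorem exists_data (e : Red.bc (sK R K) G ≅ Red.Ga (Spec (CommRingCat.of K))) [IsMonHom e.hom] {π : R}
    (hπ : Irreducible π) : Nonempty (Data c e π) := by
  have hsm : Algebra.Smooth R c.A := CompSch.algebra_smooth c
  have hnoe : IsNoetherianRing c.A := Algebra.FiniteType.isNoetherianRing R c.A
  have hmax := maximalIdeal_eq hπ
  have h0 := Comp.residue_eq_zero hmax
  have hreg : ∀ a : c.A, algebraMap R c.A π * a = 0 → a = 0 := by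
    intro a ha
    have h1 := Module.Flat.isSMulRegular_of_isRegular (M := c.A) (IsRegular.of_ne_zero hπ.ne_zero : IsRegular π)
    apply h1
    change π • a = π • 0
    rw [Algebra.smul_def, ha, smul_zero]
  obtain ⟨f, hf, hC, h1, hmem, hconn⟩ := CompSch.exists_comp c hmax h0 hreg
  have hεf : IsUnit (counit c f) := by
    rw [← IsLocalRing.residue_ne_zero_iff_isUnit]
    rw [algebraMap_counit] at h1
    exact h1
  have hden : ∀ b : K[X], ∃ (m : ℕ) (a : c.A), Polynomial.C (algebraMap R K π) ^ m * b = (univA c e).hom a :=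
    fun b => exists_den_univA c e hπ b
  obtain ⟨k₀, hk₀, y, H, hrel⟩ := GaAlg.exists_hyp hπ (univA c e).hom (injective_univA c e) hden f hf
    (counit c) hεf (eval_univA c e) hC
  obtain ⟨φ, hφ⟩ := H.exists_map
  have hrel' := hrel φ hφ
  have hpt : ∀ r : R, wt c e k₀ (Pt.mk ((Polynomial.aeval r).comp φ)) = algebraMap R K r := by
    intro r
    rw [wt, coA_incl c e k₀ hk₀ φ hrel']
    change k₀ * (k₀⁻¹ * algebraMap R K r) = _
    rw [← _root_.mul_assoc, mul_inv_cancel₀ hk₀, _root_.one_mul]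
  refine ⟨⟨f, φ, k₀, hk₀, hrel', hf, H.isOpenImmersion hφ, h1, hmem, hconn, H.bijective hφ, ?_⟩⟩
  intro g
  constructor
  · intro hg
    obtain ⟨h, hh⟩ := H.exists_point hφ g.hom hg
    refine ⟨h Polynomial.X, ?_⟩
    rw [← hpt]
    congr 1
    apply Pt.ext
    intro a
    rw [← hh]
    change h (φ a) = Polynomial.aeval (h Polynomial.X) (φ a)
    rw [Polynomial.aeval_algHom_apply, Polynomial.aeval_X_left_apply]
  · rintro ⟨r, hr⟩
    have h2 : g = Pt.mk ((Polynomial.aeval r).comp φ) := by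
      have hinj : Function.Injective (Algebra.ofId R K : R →ₐ[R] K) := IsFractionRing.injective R K
      apply Pt.map_injective hinj
      apply coA_injective c e
      have h3 := (hpt r).symm
      rw [← hr] at h3
      exact mul_left_cancel₀ hk₀ h3
    obtain ⟨b, hb⟩ := H.map_idem hφ
    rw [h2]
    change IsUnit (Polynomial.aeval r (φ f))
    rw [hb, map_add, _root_.map_one, _root_.map_mul, AlgHom.commutes]
    have h4 : π * Polynomial.aeval r b ∈ IsLocalRing.maximalIdeal R := by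
      rw [hmax]; exact Ideal.mul_mem_right _ _ (Ideal.mem_span_singleton_self π)
    by_contra hnu
    have h5 := (IsLocalRing.maximalIdeal R).sub_mem ((IsLocalRing.mem_maximalIdeal _).2 hnu) h4
    exact (IsLocalRing.mem_maximalIdeal _).1 h5 (by simp)

namespace Data

variable {c} {e : Red.bc (sK R K) G ≅ Red.Ga (Spec (CommRingCat.of K))} [IsMonHom e.hom] {π : R} (D : Data c e π)

/-- The model map. -/
noncomputable def j : Red.Ga (Spec (CommRingCat.of R)) ⟶ G := jmap c D.φ

include D in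
theorem isMonHom_j : IsMonHom D.j :=
  isMonHom_jmap c D.φ (fun x y => ptA_add c e D.k₀ D.k₀_ne D.φ D.rel x y)

theorem isOpenImmersion_j : IsOpenImmersion D.j.left := isOpenImmersion_jmap c D.φ D.imm

theorem wt_mul (k₀ : K) (g h : Pt R c.A R) : wt c e k₀ (g * h) = wt c e k₀ g + wt c e k₀ h := by
  rw [wt, Pt.map_mul, coA_mul, mul_add]; rfl

theorem wt_pow (k₀ : K) (g : Pt R c.A R) (n : ℕ) : wt c e k₀ (g ^ n) = n * wt c e k₀ g := by
  induction n with
  | zero =>
    rw [pow_zero, wt, Pt.map_one, coA_one]; simp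
  | succ n ih => rw [pow_succ, wt_mul, ih]; push_cast; ring

include D in
/-- A power of every point of the special fibre is in the identity component. -/
theorem exists_pow (hπ : Irreducible π) (x : Pt R c.A κ) : ∃ N : ℕ, 0 < N ∧ (x ^ N).hom D.f ≠ 0 := by
  have hsm : Algebra.Smooth R c.A := CompSch.algebra_smooth c
  have hnoe : IsNoetherianRing c.A := Algebra.FiniteType.isNoetherianRing R c.A
  obtain ⟨N, hN, h⟩ := Comp.exists_pow' (maximalIdeal_eq hπ) D.f D.idem x
  exact ⟨N, hN, by rw [h]; exact D.one_ne⟩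

/-- If `n` is a unit and `x^(m n)` is in the identity component then so is `x^m`. -/
theorem pow_of_unit [IsAdicComplete (IsLocalRing.maximalIdeal R) R] (x : Pt R c.A κ) (m n : ℕ)
    (hn : IsUnit (n : R)) (h : (x ^ (m * n)).hom D.f ≠ 0) : (x ^ m).hom D.f ≠ 0 := by
  have hsm : Algebra.Smooth R c.A := CompSch.algebra_smooth c
  obtain ⟨g, hg⟩ := Comp.exists_lift x.hom
  have hx : x = Pt.map (Algebra.ofId R κ) (Pt.mk g) := hg.symm
  have hmap : ∀ n : ℕ, x ^ n = Pt.map (Algebra.ofId R κ) ((Pt.mk g : Pt R c.A R) ^ n) := by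
    intro n
    rw [hx]
    exact (_root_.map_pow (Pt.mapHom (Algebra.ofId R κ)) (Pt.mk g : Pt R c.A R) n).symm
  rw [hmap, ← isUnit_iff_map, D.unit, wt_pow] at h
  rw [hmap, ← isUnit_iff_map, D.unit, wt_pow]
  obtain ⟨r, hr⟩ := h
  obtain ⟨u, hu⟩ := hn
  refine ⟨(↑u⁻¹ : R) * r, ?_⟩
  rw [_root_.map_mul, ← hr]
  have h3 : algebraMap R K (↑u⁻¹ : R) * (n : K) = 1 := by
    have : (n : K) = algebraMap R K (u : R) := by rw [hu]; simp
    rw [this, ← _root_.map_mul, Units.inv_mul, _root_.map_one]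
  push_cast
  calc (m : K) * wt c e D.k₀ (Pt.mk g) = (algebraMap R K (↑u⁻¹ : R) * (n : K)) * ((m : K) * wt c e D.k₀ (Pt.mk g)) := by
        rw [h3, _root_.one_mul]
    _ = _ := by ring

end Data

end main

end K486.GaModel
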