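import Mathlib.AlgebraicGeometry.Morphisms.OpenImmersion
import Mathlib.AlgebraicGeometry.Morphisms.Affine
import Mathlib.RingTheory.Localization.Away.Basic

/-!
# Open immersions of spectra from localizations

If `φ : A → B` is injective, `s ⊆ A`, every prime of `B` misses some `φ g`, `g ∈ s`, and every element of `B` is
in `φ(A)[1/φ(g)]` for every `g ∈ s`, then `Spec B → Spec A` is an open immersion.
-/

set_option autoImplicit false
universe u

open CategoryTheory AlgebraicGeometry

namespace K486.AwayImm

variable {A B : Type u} [CommRing A] [CommRing B]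

theorem isLocalization_away [Algebra A B] (hinj : Function.Injective (algebraMap A B)) (g : A)
    (h2 : ∀ b : B, ∃ (n : ℕ) (a : A), algebraMap A B a = algebraMap A B g ^ n * b) :
    IsLocalization.Away g (Localization.Away (algebraMap A B g)) := by
  have hmap : ∀ a : A, algebraMap A (Localization.Away (algebraMap A B g)) a =
      algebraMap B (Localization.Away (algebraMap A B g)) (algebraMap A B a) := fun a =>
    IsScalarTower.algebraMap_apply _ _ _ a
  have hu : IsUnit (algebraMap B (Localization.Away (algebraMap A B g)) (algebraMap A B g)) :=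
    IsLocalization.Away.algebraMap_isUnit _
  refine ⟨?_, ?_, ?_⟩
  · rintro ⟨_, n, rfl⟩
    rw [map_pow, hmap]
    exact hu.pow n
  · intro z
    obtain ⟨n, b, hz⟩ := IsLocalization.Away.surj (algebraMap A B g) z
    obtain ⟨m, a, ha⟩ := h2 b
    refine ⟨(a, ⟨g ^ (n + m), n + m, rfl⟩), ?_⟩
    change z * algebraMap A _ (g ^ (n + m)) = algebraMap A _ a
    rw [hmap, hmap, ha, map_mul, map_pow, map_pow, map_pow, ← hz]
    ring
  · intro x y hxy
    rw [hmap, hmap] at hxy
    obtain ⟨⟨_, n, rfl⟩, hc⟩ := (IsLocalization.eq_iff_exists (Submonoid.powers (algebraMap A B g)) _).1 hxy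
    refine ⟨⟨g ^ n, n, rfl⟩, hinj ?_⟩
    rw [map_mul, map_mul, map_pow]
    exact hc

/-- The open immersion criterion. -/
theorem isOpenImmersion (φ : A →+* B) (hinj : Function.Injective φ) (s : Set A)
    (hs : ∀ g ∈ s, ∀ b : B, ∃ (n : ℕ) (a : A), φ a = φ g ^ n * b)
    (hcov : ∀ p : PrimeSpectrum B, ∃ g ∈ s, φ g ∉ p.asIdeal) :
    IsOpenImmersion (Spec.map (CommRingCat.ofHom φ)) := by
  apply IsZariskiLocalAtTarget.of_forall_source_exists_preimage
  intro x
  obtain ⟨g, hg, hx⟩ := hcov x
  let _ := φ.toAlgebra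
  refine ⟨PrimeSpectrum.basicOpen g, hx, ?_⟩
  have hloc := isLocalization_away (A := A) (B := B) hinj g (hs g hg)
  let L := Localization.Away (algebraMap A B g)
  have h1 : IsOpenImmersion (Spec.map (CommRingCat.ofHom (algebraMap A L))) :=
    IsOpenImmersion.of_isLocalization g
  have h2 : IsOpenImmersion (Spec.map (CommRingCat.ofHom (algebraMap B L))) :=
    IsOpenImmersion.of_isLocalization (algebraMap A B g)
  have h3 : Spec.map (CommRingCat.ofHom (algebraMap B L)) ≫ Spec.map (CommRingCat.ofHom φ) =
      Spec.map (CommRingCat.ofHom (algebraMap A L)) := by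
    rw [← Spec.map_comp, ← CommRingCat.ofHom_comp]
  set U : (Spec (CommRingCat.of B)).Opens :=
    (Spec.map (CommRingCat.ofHom φ)) ⁻¹ᵁ (PrimeSpectrum.basicOpen g) with hU
  have hrange : Set.range (Spec.map (CommRingCat.ofHom (algebraMap B L))) = Set.range U.ι := by
    rw [Scheme.Opens.range_ι]
    exact PrimeSpectrum.localization_away_comap_range L (algebraMap A B g)
  let e := IsOpenImmersion.isoOfRangeEq (Spec.map (CommRingCat.ofHom (algebraMap B L))) U.ι hrange
  have h4 : U.ι = e.inv ≫ Spec.map (CommRingCat.ofHom (algebraMap B L)) := by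
    rw [IsOpenImmersion.isoOfRangeEq_inv_fac]
  rw [h4, Category.assoc, h3]
  infer_instance

end K486.AwayImm
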