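import Groth.Agent.Neron.K486.GaAlg
import Mathlib.Algebra.Polynomial.Laurent

/-!
# Affine smooth models of the multiplicative group: the algebra
-/

set_option autoImplicit false
universe u

open Polynomial LaurentPolynomial

namespace K486.GmAlg

section prelim

variable {R E F : Type*} [CommRing R] [CommRing E] [CommRing F]

theorem hom_eval₂ (f : R →+* E) (x : Eˣ) (g : E →+* F) (P : R[T;T⁻¹]) :
    g (P.eval₂ f x) = P.eval₂ (g.comp f) (Units.map (g : E →* F) x) := by
  induction P using LaurentPolynomial.induction_on' with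
  | add p q hp hq => rw [map_add, map_add, hp, hq, map_add]
  | C_mul_T n a =>
    rw [eval₂_C_mul_T, eval₂_C_mul_T, map_mul, ← map_zpow]
    rfl

/-- evaluation of Laurent polynomials at a unit, as an algebra homomorphism -/
noncomputable def aev [Algebra R E] (x : Eˣ) : R[T;T⁻¹] →ₐ[R] E :=
  { LaurentPolynomial.eval₂ (algebraMap R E) x with
    commutes' := fun r => by
      change LaurentPolynomial.eval₂ (algebraMap R E) x (algebraMap R R[T;T⁻¹] r) = _
      rw [← LaurentPolynomial.C_eq_algebraMap, LaurentPolynomial.eval₂_C] }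

theorem aev_apply [Algebra R E] (x : Eˣ) (P : R[T;T⁻¹]) : aev x P = P.eval₂ (algebraMap R E) x := rfl

@[simp] theorem aev_T [Algebra R E] (x : Eˣ) (n : ℤ) : (aev x : R[T;T⁻¹] →ₐ[R] E) (T n) = ((x ^ n : Eˣ) : E) :=
  eval₂_T _ _ _

@[simp] theorem aev_C [Algebra R E] (x : Eˣ) (r : R) : (aev x : R[T;T⁻¹] →ₐ[R] E) (LaurentPolynomial.C r) =
    algebraMap R E r :=
  LaurentPolynomial.eval₂_C _ _ _

theorem aev_toLaurent [Algebra R E] (x : Eˣ) (P : R[X]) :
    (aev x : R[T;T⁻¹] →ₐ[R] E) (toLaurent P) = aeval (x : E) P :=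
  eval₂_toLaurent _ _ _

theorem algHom_ext [Algebra R E] {f g : R[T;T⁻¹] →ₐ[R] E} (h : f (T 1) = g (T 1)) : f = g := by
  have h1 : ∀ n : ℤ, f (T n) = g (T n) := by
    intro n
    have hT : (T 1 : R[T;T⁻¹]) * T (-1) = 1 := by rw [← T_add]; simp
    have hfg : f (T (-1)) = g (T (-1)) := by
      have h2 : f (T 1) * f (T (-1)) = 1 := by rw [← map_mul, hT, map_one]
      have h3 : g (T 1) * g (T (-1)) = 1 := by rw [← map_mul, hT, map_one]
      rw [h] at h2
      calc f (T (-1)) = (g (T 1) * g (T (-1))) * f (T (-1)) := by rw [h3, one_mul]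
        _ = g (T (-1)) * (g (T 1) * f (T (-1))) := by ring
        _ = g (T (-1)) := by rw [h2, mul_one]
    obtain ⟨m, rfl | rfl⟩ := n.eq_nat_or_neg
    · have : (T (m : ℤ) : R[T;T⁻¹]) = T 1 ^ m := by rw [T_pow, mul_one]
      rw [this, map_pow, map_pow, h]
    · have : (T (-(m : ℤ)) : R[T;T⁻¹]) = T (-1) ^ m := by rw [T_pow]; simp
      rw [this, map_pow, map_pow, hfg]
  refine AlgHom.ext fun P => ?_
  induction P using LaurentPolynomial.induction_on' with
  | add p q hp hq => rw [map_add, map_add, hp, hq]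
  | C_mul_T n a => rw [map_mul, map_mul, h1, LaurentPolynomial.C_eq_algebraMap, AlgHom.commutes, AlgHom.commutes]

theorem aev_eq [Algebra R E] (f : R[T;T⁻¹] →ₐ[R] E) (x : Eˣ) (h : f (T 1) = x) : f = aev x :=
  algHom_ext (by rw [h, aev_T, zpow_one])

end prelim

section DVR

variable {R : Type u} [CommRing R] [IsDomain R] [IsDiscreteValuationRing R] {π : R} (hπ : Irreducible π)

omit [IsDomain R] [IsDiscreteValuationRing R] in
theorem exists_mul_T (b : R[T;T⁻¹]) (P : R[X]) (n : ℤ) (h : toLaurent P = b * T n) (P' : R[X])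
    (h' : P = Polynomial.C π * P') : ∃ b', b = algebraMap R R[T;T⁻¹] π * b' := by
  refine ⟨toLaurent P' * T (-n), ?_⟩
  have h1 : b = toLaurent P * T (-n) := by rw [h, mul_T_assoc, add_neg_cancel, T_zero, mul_one]
  rw [h1, h', map_mul, toLaurent_C, mul_assoc, LaurentPolynomial.C_eq_algebraMap]

include hπ

theorem sat_laurent [IsAlgClosed (IsLocalRing.ResidueField R)]
    {A : Type u} [CommRing A] [Algebra R A] (hC : Prime (algebraMap R A π))
    (εC : A →ₐ[R] R) (x : Aˣ) (hx : εC x = 1) (hdvd : ¬ algebraMap R A π ∣ x - 1)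
    (b : R[T;T⁻¹]) (c : A) (h : aev x b = algebraMap R A π * c) : ∃ b', b = algebraMap R R[T;T⁻¹] π * b' := by
  obtain ⟨n, P, hP⟩ := b.exists_T_pow
  have h1 : aeval (x : A) P = algebraMap R A π * (c * ((x ^ (n : ℤ) : Aˣ) : A)) := by
    rw [← aev_toLaurent, hP, map_mul, h, aev_T]; ring
  have h2 : aeval (x - 1 : A) (P.comp (X + 1)) = aeval (x : A) P := by
    rw [aeval_comp]
    simp
  obtain ⟨b', hb'⟩ := GaAlg.sat_poly hπ hC εC (x - 1 : A) (by rw [map_sub, hx, map_one, sub_self]) hdvd
    (P.comp (X + 1)) _ (h2.trans h1)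
  refine exists_mul_T b P n hP (b'.comp (X - 1)) ?_
  have h3 := congrArg (fun F => F.comp (X - 1)) hb'
  simp only [comp_assoc, mul_comp, C_comp, add_comp, X_comp, one_comp, sub_add_cancel, comp_X] at h3
  exact h3

theorem conn_laurent (b : R[T;T⁻¹]) (h : ∃ b', b * b - b = algebraMap R R[T;T⁻¹] π * b') :
    (∃ b', b = algebraMap R R[T;T⁻¹] π * b') ∨ (∃ b', b = 1 + algebraMap R R[T;T⁻¹] π * b') := by
  obtain ⟨n, P, hP⟩ := b.exists_T_pow
  obtain ⟨b', hb'⟩ := h
  obtain ⟨m, Q, hQ⟩ := b'.exists_T_pow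
  -- `P (P - X^n) X^m = π Q X^n X^n`
  have h1 : P * (P - X ^ n) * X ^ m = Polynomial.C π * (Q * X ^ n * X ^ n) := by
    apply toLaurent_injective
    rw [map_mul, map_mul, map_sub, map_mul, map_mul, map_mul, toLaurent_X_pow, toLaurent_X_pow, hP, hQ,
      toLaurent_C, LaurentPolynomial.C_eq_algebraMap]
    have : b * T n * (b * T n - T n) * T m = (b * b - b) * T n * T n * T m := by ring
    rw [this, hb']
    ring
  have h2 : (P.map (IsLocalRing.residue R)) * (P.map (IsLocalRing.residue R) - X ^ n) * X ^ m = 0 := by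
    have := (GaAlg.map_residue_eq_zero_iff hπ _).2 ⟨_, h1⟩
    simpa using this
  rw [mul_eq_zero, mul_eq_zero] at h2
  rcases h2 with (h3 | h3) | h3
  · left
    obtain ⟨P', hP'⟩ := (GaAlg.map_residue_eq_zero_iff hπ P).1 h3
    exact exists_mul_T b P n hP P' hP'
  · right
    obtain ⟨P', hP'⟩ := (GaAlg.map_residue_eq_zero_iff hπ (P - X ^ n)).1 (by
      rw [Polynomial.map_sub, Polynomial.map_pow, map_X]; exact h3)
    obtain ⟨b', hb'⟩ := exists_mul_T (b - 1) (P - X ^ n) n (by
      rw [map_sub, toLaurent_X_pow, hP]; ring) P' hP'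
    exact ⟨b', by rw [← hb']; ring⟩
  · exact absurd h3 (pow_ne_zero _ X_ne_zero)

end DVR

section den

variable {R : Type u} [CommRing R] [IsDomain R] [IsDiscreteValuationRing R] {π : R} (hπ : Irreducible π)
  {K : Type u} [Field K] [Algebra R K] [IsFractionRing R K]

/-- base change of Laurent polynomials -/
noncomputable def toK (R K : Type u) [CommRing R] [Field K] [Algebra R K] : R[T;T⁻¹] →ₐ[R] K[T;T⁻¹] :=
  aev (isUnit_T (R := K) 1).unit

theorem toK_T (R K : Type u) [CommRing R] [Field K] [Algebra R K] (n : ℤ) : toK R K (T n) = T n := by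
  rw [toK, aev_T]
  obtain ⟨m, rfl | rfl⟩ := n.eq_nat_or_neg
  · rw [zpow_natCast, Units.val_pow_eq_pow_val, IsUnit.unit_spec, T_pow, mul_one]
  · rw [zpow_neg, zpow_natCast, ← inv_pow, Units.val_pow_eq_pow_val]
    have : (((isUnit_T (R := K) 1).unit⁻¹ : (K[T;T⁻¹])ˣ) : K[T;T⁻¹]) = T (-1) := by
      rw [Units.inv_eq_of_mul_eq_one_right]
      rw [IsUnit.unit_spec, ← T_add]; simp
    rw [this, T_pow]; simp

omit [IsDomain R] [IsDiscreteValuationRing R] [IsFractionRing R K] in
theorem toK_toLaurent (P : R[X]) : toK R K (toLaurent P) = toLaurent (P.map (algebraMap R K)) := by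
  rw [toK, aev_toLaurent, IsUnit.unit_spec, aeval_def, ← toLaurent_X]
  have h : algebraMap R K[T;T⁻¹] = (toLaurent (R := K)).comp ((Polynomial.C).comp (algebraMap R K)) := by
    ext r
    simp [LaurentPolynomial.algebraMap_apply]
  rw [h, ← Polynomial.hom_eval₂]
  rfl

theorem toK_injective : Function.Injective (toK R K) := by
  rw [injective_iff_map_eq_zero]
  intro b hb
  obtain ⟨n, P, hP⟩ := b.exists_T_pow
  have h1 : toK R K (toLaurent P) = 0 := by rw [hP, map_mul, hb, zero_mul]
  rw [toK_toLaurent, toLaurent_eq_zero, Polynomial.map_eq_zero_iff (IsFractionRing.injective R K)] at h1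
  rw [h1, map_zero] at hP
  have h2 : b = (b * T n) * T (-n) := by rw [mul_T_assoc, add_neg_cancel, T_zero, mul_one]
  rw [h2, ← hP, zero_mul]

include hπ in
theorem exists_den_laurent (Q : K[T;T⁻¹]) :
    ∃ (m : ℕ) (P : R[T;T⁻¹]), LaurentPolynomial.C (algebraMap R K π) ^ m * Q = toK R K P := by
  obtain ⟨n, P, hP⟩ := Q.exists_T_pow
  obtain ⟨m, P', hP'⟩ := GaAlg.exists_den_poly hπ P
  refine ⟨m, toLaurent P' * T (-n), ?_⟩
  rw [map_mul, toK_T, toK_toLaurent, ← hP', map_mul, hP, map_pow, toLaurent_C, mul_assoc, mul_T_assoc,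
    add_neg_cancel, T_zero, mul_one]

end den

section main

variable {R : Type u} [CommRing R] [IsDomain R] [IsDiscreteValuationRing R] {π : R} (hπ : Irreducible π)
  [IsAlgClosed (IsLocalRing.ResidueField R)]
  {K : Type u} [Field K] [Algebra R K] [IsFractionRing R K]
  {A : Type u} [CommRing A] [Algebra R A] [IsNoetherianRing A]
  (α : A →ₐ[R] K[T;T⁻¹]) (hα : Function.Injective α)
  (hden : ∀ b : K[T;T⁻¹], ∃ (m : ℕ) (a : A), LaurentPolynomial.C (algebraMap R K π) ^ m * b = α a)
  (f : A) (hf : ∃ a, f * f - f = algebraMap R A π * a)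
  (ε : A →ₐ[R] R) (hεf : IsUnit (ε f)) (hε : ∀ a, (aev (1 : Kˣ) : K[T;T⁻¹] →ₐ[K] K) (α a) = algebraMap R K (ε a))
  (hC : Prime (algebraMap R (Localization.Away f) π))

include hπ hα hden hf hεf hε hC

set_option maxHeartbeats 1000000 in
/-- **The algebra of an affine smooth model of the multiplicative group.** -/
theorem exists_unit : ∃ (x : (Localization.Away f)ˣ) (N : ℕ) (x₀ : A),
    algebraMap A (Localization.Away f) x₀ = algebraMap R (Localization.Away f) π ^ N * x ∧
    α x₀ = LaurentPolynomial.C (algebraMap R K π) ^ N * T 1 ∧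
    (∀ ε' : Localization.Away f →ₐ[R] R, (∀ a, ε' (algebraMap A _ a) = ε a) → ε' x = 1) ∧
    (x : Localization.Away f) ≠ 1 ∧
    (¬ algebraMap R (Localization.Away f) π ∣ x - 1 →
      Factor.Hyp π f (IsScalarTower.toAlgHom R A (Localization.Away f)) (aev (R := R) x) ∧
      ∀ (φ : A →ₐ[R] R[T;T⁻¹]), (aev (R := R) x).comp φ = IsScalarTower.toAlgHom R A (Localization.Away f) →
        ∀ a, α a = toK R K (φ a)) := by
  classical
  let A' := Localization.Away f
  let L := FractionRing K[T;T⁻¹]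
  have hdomK : IsDomain K[T;T⁻¹] := inferInstance
  have hdomA : IsDomain A := (hα.isDomain (α : A →+* K[T;T⁻¹]))
  have hp0 : algebraMap R K π ≠ 0 := by
    rw [Ne, FaithfulSMul.algebraMap_eq_zero_iff]; exact hπ.ne_zero
  have hCinj : Function.Injective (LaurentPolynomial.C (R := K)) := (LaurentPolynomial.C (R := K)).injective
  have hf0 : f ≠ 0 := by
    rintro rfl
    rw [map_zero] at hεf
    exact not_isUnit_zero hεf
  have hLinj : Function.Injective (algebraMap K[T;T⁻¹] L) := IsFractionRing.injective _ _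
  have hunit : IsUnit (((algebraMap K[T;T⁻¹] L).comp (α : A →+* K[T;T⁻¹])) f) := by
    rw [isUnit_iff_ne_zero]
    intro h
    exact hf0 (hα (hLinj (by rw [map_zero, map_zero]; exact h)))
  let β : A' →+* L := IsLocalization.Away.lift (S := A') f
    (g := (algebraMap K[T;T⁻¹] L).comp (α : A →+* K[T;T⁻¹])) hunit
  have hβ : ∀ a : A, β (algebraMap A A' a) = algebraMap K[T;T⁻¹] L (α a) := fun a =>
    IsLocalization.Away.lift_eq f hunit a
  have hβR : ∀ r : R, β (algebraMap R A' r) = algebraMap K[T;T⁻¹] L (LaurentPolynomial.C (algebraMap R K r)) := by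
    intro r
    rw [IsScalarTower.algebraMap_apply R A A', hβ, AlgHom.commutes]
    rfl
  have hβinj : Function.Injective β := by
    rw [injective_iff_map_eq_zero]
    intro z hz
    obtain ⟨n, a, h⟩ := IsLocalization.Away.surj f z
    have h1 : algebraMap K[T;T⁻¹] L (α a) = 0 := by
      rw [← hβ, ← h, map_mul, hz, zero_mul]
    have h2 : a = 0 := hα (hLinj (by rw [h1, map_zero, map_zero]))
    rw [h2, map_zero] at h
    exact ((IsLocalization.Away.algebraMap_isUnit (S := A') f).pow n).mul_left_eq_zero.1 h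
  have hdom : IsDomain A' := hβinj.isDomain β
  have hnoe : IsNoetherianRing A' := IsLocalization.isNoetherianRing (Submonoid.powers f) A' inferInstance
  have hιinj : Function.Injective (algebraMap A A') := by
    intro x y h
    have := congrArg β h
    rw [hβ, hβ] at this
    exact hα (hLinj this)
  -- the element `y` for any unit
  have key : ∀ n : ℤ, ∃ (N r : ℕ) (x₀ : A) (y : A'), ¬ algebraMap R A' π ∣ y ∧
      algebraMap A A' x₀ = algebraMap R A' π ^ r * y ∧
      α x₀ = LaurentPolynomial.C (algebraMap R K π) ^ N * T n ∧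
      algebraMap R A' π ^ r * y = algebraMap A A' x₀ ∧
      algebraMap K[T;T⁻¹] L (LaurentPolynomial.C (algebraMap R K π)) ^ r * β y =
        algebraMap K[T;T⁻¹] L (LaurentPolynomial.C (algebraMap R K π)) ^ N * algebraMap K[T;T⁻¹] L (T n) := by
    intro n
    obtain ⟨N, x₀, hx₀⟩ := hden (T n)
    have hx₀0 : algebraMap A A' x₀ ≠ 0 := by
      intro h
      have h1 := congrArg β h
      rw [hβ, map_zero, ← hx₀] at h1
      have h2 := hLinj (h1.trans (map_zero _).symm)
      rw [mul_eq_zero] at h2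
      rcases h2 with h2 | h2
      · refine pow_ne_zero N (fun h => hp0 (hCinj ?_)) h2
        rw [h, map_zero]
      · exact (isUnit_T (R := K) n).ne_zero h2
    obtain ⟨r, y, hdvd, hy⟩ := WfDvdMonoid.max_power_factor' hx₀0 hC.not_isUnit
    refine ⟨N, r, x₀, y, hdvd, hy, hx₀.symm, hy.symm, ?_⟩
    have h1 := congrArg β hy
    rw [hβ, ← hx₀, map_mul β, map_pow β, hβR, map_mul, map_pow] at h1
    exact h1.symm
  obtain ⟨N, r, x₀, y, hdvd, hy, hx₀, -, hβy⟩ := key 1
  obtain ⟨N', r', x₀', y', hdvd', hy', hx₀', -, hβy'⟩ := key (-1)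
  set p : L := algebraMap K[T;T⁻¹] L (LaurentPolynomial.C (algebraMap R K π)) with hp
  have hp' : p ≠ 0 := by
    intro h
    exact hp0 (hCinj ((hLinj (h.trans (map_zero _).symm)).trans (map_zero _).symm))
  have hT : algebraMap K[T;T⁻¹] L (T 1) * algebraMap K[T;T⁻¹] L (T (-1)) = 1 := by
    rw [← map_mul, ← T_add]; simp
  have hβp : β (algebraMap R A' π) = p := hβR π
  have hprod : algebraMap R A' π ^ (r + r') * (y * y') = algebraMap R A' π ^ (N + N') := by
    apply hβinj
    rw [map_mul, map_pow, map_pow, map_mul, hβp]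
    calc p ^ (r + r') * (β y * β y') = (p ^ r * β y) * (p ^ r' * β y') := by ring
      _ = (p ^ N * p ^ N') * (algebraMap K[T;T⁻¹] L (T 1) * algebraMap K[T;T⁻¹] L (T (-1))) := by
        rw [hβy, hβy']; ring
      _ = p ^ (N + N') := by rw [hT]; ring
  have hyy : ¬ algebraMap R A' π ∣ y * y' := fun h => (hC.dvd_or_dvd h).elim hdvd hdvd'
  have hrN : r + r' = N + N' := by
    rcases lt_trichotomy (r + r') (N + N') with h | h | h
    · exfalso
      obtain ⟨d, hd⟩ := Nat.exists_eq_add_of_lt h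
      rw [hd, show r + r' + d + 1 = (r + r') + (d + 1) from by ring,
        pow_add (algebraMap R A' π) (r + r') (d + 1)] at hprod
      have := mul_left_cancel₀ (pow_ne_zero _ hC.ne_zero) hprod
      exact hyy ⟨algebraMap R A' π ^ d, by rw [this]; ring⟩
    · exact h
    · exfalso
      obtain ⟨d, hd⟩ := Nat.exists_eq_add_of_lt h
      rw [hd, show N + N' + d + 1 = (N + N') + (d + 1) from by ring,
        pow_add (algebraMap R A' π) (N + N') (d + 1), mul_assoc] at hprod
      have h5 : algebraMap R A' π ^ (N + N') * (algebraMap R A' π ^ (d + 1) * (y * y')) =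
        algebraMap R A' π ^ (N + N') * 1 := by rw [hprod, mul_one]
      have := mul_left_cancel₀ (pow_ne_zero _ hC.ne_zero) h5
      rw [pow_succ', mul_assoc] at this
      exact hC.not_isUnit (IsUnit.of_mul_eq_one _ this)
  have hyy1 : y * y' = 1 := by
    rw [hrN] at hprod
    exact mul_left_cancel₀ (pow_ne_zero _ hC.ne_zero) (hprod.trans (mul_one _).symm)
  let x : A'ˣ := ⟨y, y', hyy1, by rw [mul_comm, hyy1]⟩
  -- the counit on the localization
  let εC : A' →+* R := IsLocalization.Away.lift (S := A') f (g := (ε : A →+* R)) hεf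
  have hεC : ∀ a : A, εC (algebraMap A A' a) = ε a := fun a => IsLocalization.Away.lift_eq f hεf a
  let ε' : A' →ₐ[R] R := { εC with
    commutes' := fun r => by
      change εC (algebraMap R A' r) = _
      rw [IsScalarTower.algebraMap_apply R A A', hεC, AlgHom.commutes] }
  have hε'C : ∀ a : A, ε' (algebraMap A A' a) = ε a := hεC
  have hεx₀ : ε x₀ = π ^ N := by
    apply IsFractionRing.injective R K
    rw [← hε, hx₀, map_mul, map_pow, map_pow, aev_T]
    have : (aev (1 : Kˣ) : K[T;T⁻¹] →ₐ[K] K) (LaurentPolynomial.C (algebraMap R K π)) = algebraMap R K π :=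
      aev_C _ _
    rw [this]; simp
  have hNr : N = r := by
    have h1 := congrArg ε' hy
    rw [hε'C, hεx₀, map_mul, map_pow, AlgHom.commutes] at h1
    have hu : IsUnit (ε' y) := (x.map (ε' : A' →* R)).isUnit
    obtain ⟨u, hu⟩ := hu
    have h2 : Associated (π ^ N) (π ^ r) := ⟨u⁻¹, by
      rw [h1, ← hu]
      change (π ^ r * (u : R)) * _ = _
      rw [mul_assoc, Units.mul_inv, mul_one]⟩
    exact (pow_injective_of_not_isUnit hπ.not_isUnit hπ.ne_zero) <| by
      have := h2
      by_contra hne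
      rcases lt_or_gt_of_ne (fun h : N = r => hne (by rw [h])) with hlt | hlt
      · have h3 := this.dvd'
        exact absurd ((pow_dvd_pow_iff hπ.ne_zero hπ.not_isUnit).1 h3) (by omega)
      · have h3 := this.dvd
        exact absurd ((pow_dvd_pow_iff hπ.ne_zero hπ.not_isUnit).1 h3) (by omega)
  subst hNr
  have hβx : β x = algebraMap K[T;T⁻¹] L (T 1) := mul_left_cancel₀ (pow_ne_zero _ hp') hβy
  have hε'x : ∀ ε' : A' →ₐ[R] R, (∀ a, ε' (algebraMap A _ a) = ε a) → ε' x = 1 := by
    intro ε' hε'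
    have h1 := congrArg ε' hy
    rw [hε', hεx₀, map_mul, map_pow, AlgHom.commutes] at h1
    exact mul_left_cancel₀ (pow_ne_zero N hπ.ne_zero) (h1.symm.trans (mul_one _).symm)
  refine ⟨x, N, x₀, hy, hx₀, hε'x, ?_, ?_⟩
  · intro h
    have h1 := congrArg β h
    rw [hβx, map_one] at h1
    have h2 := hLinj (h1.trans (map_one _).symm)
    have h3 := congrArg LaurentPolynomial.degree h2
    rw [← T_zero, degree_T, degree_T] at h3
    exact absurd h3 (by decide)
  intro hxd
  have hβψ : ∀ P : R[T;T⁻¹], β (aev x P) = algebraMap K[T;T⁻¹] L (toK R K P) := by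
    intro P
    have hh : β.comp (algebraMap R A') = (algebraMap K[T;T⁻¹] L).comp (algebraMap R K[T;T⁻¹]) :=
      RingHom.ext hβR
    have hh' : Units.map (β : A' →* L) x =
        Units.map ((algebraMap K[T;T⁻¹] L : K[T;T⁻¹] →+* L) : K[T;T⁻¹] →* L) (isUnit_T (R := K) 1).unit :=
      Units.ext hβx
    rw [toK, aev_apply, aev_apply, hom_eval₂, hom_eval₂, hh, hh']
  refine ⟨⟨?_, hιinj, ?_, ?_, ?_, ?_, ?_, ?_, hf, ?_, hC.not_isUnit⟩, ?_⟩
  · intro z hz
    exact (mul_eq_zero.1 hz).resolve_left hC.ne_zero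
  · intro P Q h
    have h1 := congrArg β h
    rw [hβψ, hβψ] at h1
    exact toK_injective (hLinj h1)
  · exact IsLocalization.Away.algebraMap_isUnit f
  · intro z
    obtain ⟨n, a, h⟩ := IsLocalization.Away.surj f z
    refine ⟨n, a, ?_⟩
    change algebraMap A A' f ^ n * z = algebraMap A A' a
    rw [← h, mul_comm]
  · exact fun b z h => sat_laurent hπ hC ε' x (hε'x ε' hε'C) hxd b z h
  · intro a
    obtain ⟨m, P, hP⟩ := exists_den_laurent hπ (α a)
    refine ⟨m, P, hβinj ?_⟩
    rw [hβψ, ← hP, map_mul, map_pow, hβR, ← map_pow]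
    change _ * β (algebraMap A A' a) = _
    rw [hβ, ← map_mul]
  · intro b
    obtain ⟨m, a, h⟩ := hden (toK R K b)
    refine ⟨m, a, hβinj ?_⟩
    change _ = β (algebraMap A A' a)
    rw [hβ, ← h, map_mul, map_pow, hβψ, hβR, map_mul, map_pow]
  · exact fun b hb => conn_laurent hπ b hb
  · intro φ hφ a
    apply hLinj
    rw [← hβψ, ← hβ]
    congr 1
    exact (DFunLike.congr_fun hφ a).symm

end main

end K486.GmAlg
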