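import Groth.Agent.Neron.K486.ModelPts
import Groth.Agent.Neron.K486.GmAlg

/-!
# Coordinates on the points of a model of the additive / multiplicative group
-/

set_option autoImplicit false
universe u

open CategoryTheory MonoidalCategory CartesianMonoidalCategory MonObj GrpObj AlgebraicGeometry Limits
open scoped TensorProduct Polynomial LaurentPolynomial

namespace K486.CoPts

open Groth.Agent.Sga3B Groth.Agent.Sga3B.Cell Groth.Agent.Sga3B.PinMod Groth.Agent.Sga3B.DSPts
  Groth.Agent.Sga3B.GaPts K486.ModelPts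

section spec

variable {R : Type u} [CommRing R] {S : Scheme.{u}} (s : Spec (CommRingCat.of R) ⟶ S)
variable {B C : Type u} [CommRing B] [Algebra R B] [CommRing C] [Algebra R C]

/-- the ring element attached to a function on `Spec B` -/
noncomputable def unFn (x : Γ((tB s B).left, ⊤)) : B := (Scheme.ΓSpecIso (CommRingCat.of B)).hom x

@[simp] lemma unFn_fnOf (x : B) : unFn s (fnOf s x) = x := by
  change ((Scheme.ΓSpecIso (CommRingCat.of B)).inv ≫ (Scheme.ΓSpecIso (CommRingCat.of B)).hom) x = x
  rw [Iso.inv_hom_id]; rfl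

@[simp] lemma fnOf_unFn (x : Γ((tB s B).left, ⊤)) : fnOf s (unFn s x) = x := by
  change ((Scheme.ΓSpecIso (CommRingCat.of B)).hom ≫ (Scheme.ΓSpecIso (CommRingCat.of B)).inv) x = x
  rw [Iso.hom_inv_id]; rfl

lemma unFn_add (x y : Γ((tB s B).left, ⊤)) : unFn s (x + y) = unFn s x + unFn s y := map_add _ _ _
lemma unFn_mul (x y : Γ((tB s B).left, ⊤)) : unFn s (x * y) = unFn s x * unFn s y := map_mul _ _ _

lemma unFn_appTop (φ : B →ₐ[R] C) (x : Γ((tB s B).left, ⊤)) :
    unFn s ((tMap s φ).left.appTop x) = φ (unFn s x) := by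
  conv_lhs => rw [← fnOf_unFn s x, appTop_fnOf, unFn_fnOf]

end spec

variable {R : Type u} [CommRing R] {K : Type u} [CommRing K] [Algebra R K]
variable {E : Type u} [CommRing E] [Algebra R E] [Algebra K E] [IsScalarTower R K E]
variable {F : Type u} [CommRing F] [Algebra R F] [Algebra K F] [IsScalarTower R K F]
variable {G : Over (Spec (CommRingCat.of R))} [GrpObj G] (c : Chart G (𝟙 (Spec (CommRingCat.of R))))

section Ga

variable (e : Red.bc (sK R K) G ≅ Red.Ga (Spec (CommRingCat.of K))) [IsMonHom e.hom]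

/-- the additive coordinate -/
noncomputable def coA (g : Pt R c.A E) : E := unFn (𝟙 (Spec (CommRingCat.of K))) (Red.gaFn (u E c e g))

lemma coA_mul (g h : Pt R c.A E) : coA c e (g * h) = coA c e g + coA c e h := by
  rw [coA, map_mul, gaFn_mul, unFn_add]; rfl

lemma coA_one : coA c e (1 : Pt R c.A E) = 0 := by
  have h := coA_mul c e (1 : Pt R c.A E) 1
  rw [_root_.mul_one] at h
  simpa using h

lemma coA_map (φ : E →ₐ[K] F) (g : Pt R c.A E) :
    coA c e (Pt.map (φ.restrictScalars R) g) = φ (coA c e g) := by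
  rw [coA, u_map, gaFn_comp, unFn_appTop]; rfl

/-- the point with given additive coordinate -/
noncomputable def ptA (x : E) : Pt R c.A E := (u E c e).symm (gaPt _ (fnOf _ x))

@[simp] lemma coA_ptA (x : E) : coA c e (ptA c e x) = x := by
  rw [coA, ptA, MulEquiv.apply_symm_apply, gaFn_gaPt, unFn_fnOf]

lemma coA_injective : Function.Injective (coA (E := E) c e) := by
  intro g h hgh
  apply (u E c e).injective
  apply gaFn_injective
  rw [← fnOf_unFn (𝟙 (Spec (CommRingCat.of K))) (Red.gaFn (u E c e g)),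
    ← fnOf_unFn (𝟙 (Spec (CommRingCat.of K))) (Red.gaFn (u E c e h))]
  exact congrArg _ hgh

/-- the universal point of the generic fibre -/
noncomputable def univA : Pt R c.A K[X] := ptA c e Polynomial.X

/-- Every point comes from the universal point. -/
lemma eq_map_univA (g : Pt R c.A E) :
    g = Pt.map ((Polynomial.aeval (coA c e g) : K[X] →ₐ[K] E).restrictScalars R) (univA c e) := by
  apply coA_injective c e
  rw [coA_map, univA, coA_ptA, Polynomial.aeval_X]

lemma hom_apply_A (g : Pt R c.A E) (a : c.A) :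
    g.hom a = Polynomial.aeval (coA c e g) ((univA c e).hom a) := by
  conv_lhs => rw [eq_map_univA c e g]
  rfl

lemma coA_eq_of (g : Pt R c.A E) (z : E) (h : ∀ a, g.hom a = Polynomial.aeval z ((univA c e).hom a)) :
    coA c e g = z := by
  have : g = Pt.map ((Polynomial.aeval z : K[X] →ₐ[K] E).restrictScalars R) (univA c e) :=
    Pt.ext h
  rw [this, coA_map, univA, coA_ptA, Polynomial.aeval_X]

end Ga

section Gm

variable (e : Red.bc (sK R K) G ≅ Red.Gm (Spec (CommRingCat.of K))) [IsMonHom e.hom]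

/-- the multiplicative coordinate -/
noncomputable def coM (g : Pt R c.A E) : Eˣ :=
  Units.map ((Scheme.ΓSpecIso (CommRingCat.of E)).hom.hom : Γ(Spec (CommRingCat.of E), ⊤) →* E)
    (GmPts.unitOfPt (u E c e g))

lemma coM_val (g : Pt R c.A E) :
    (coM c e g : E) = unFn (𝟙 (Spec (CommRingCat.of K))) (Red.gmFn (u E c e g)) := rfl

lemma coM_mul (g h : Pt R c.A E) : coM c e (g * h) = coM c e g * coM c e h := by
  rw [coM, map_mul, GmPts.unitOfPt_mul, map_mul]; rfl

lemma coM_one : coM c e (1 : Pt R c.A E) = 1 := by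
  have h := coM_mul c e (1 : Pt R c.A E) 1
  rw [_root_.mul_one] at h
  simpa using h

lemma coM_map (φ : E →ₐ[K] F) (g : Pt R c.A E) :
    (coM c e (Pt.map (φ.restrictScalars R) g) : F) = φ (coM c e g) := by
  rw [coM_val, u_map, GmPts.gmFn_comp, unFn_appTop]; rfl

/-- the point with given multiplicative coordinate -/
noncomputable def ptM (x : Eˣ) : Pt R c.A E :=
  (u E c e).symm (GmPts.ptOfUnit (T := tB (𝟙 (Spec (CommRingCat.of K))) E)
    (Units.map ((Scheme.ΓSpecIso (CommRingCat.of E)).inv.hom : E →* Γ(Spec (CommRingCat.of E), ⊤)) x))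

@[simp] lemma coM_ptM (x : Eˣ) : coM c e (ptM c e x) = x := by
  rw [coM, ptM, MulEquiv.apply_symm_apply, GmPts.unitOfPt_ptOfUnit]
  ext
  exact unFn_fnOf (𝟙 (Spec (CommRingCat.of K))) (x : E)

lemma coM_injective : Function.Injective (coM (E := E) c e) := by
  intro g h hgh
  apply (u E c e).injective
  apply GmPts.gmFn_injective
  change Red.gmFn _ = Red.gmFn _
  rw [← fnOf_unFn (𝟙 (Spec (CommRingCat.of K))) (Red.gmFn (u E c e g)),
    ← fnOf_unFn (𝟙 (Spec (CommRingCat.of K))) (Red.gmFn (u E c e h))]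
  exact congrArg _ (congrArg Units.val hgh)

/-- the universal point of the generic fibre -/
noncomputable def univM : Pt R c.A K[T;T⁻¹] := ptM c e (LaurentPolynomial.isUnit_T (R := K) 1).unit

/-- Every point comes from the universal point. -/
lemma eq_map_univM (g : Pt R c.A E) :
    g = Pt.map ((GmAlg.aev (coM c e g) : K[T;T⁻¹] →ₐ[K] E).restrictScalars R) (univM c e) := by
  apply coM_injective c e
  ext
  rw [coM_map, univM, coM_ptM, IsUnit.unit_spec, GmAlg.aev_T, zpow_one]

lemma hom_apply_M (g : Pt R c.A E) (a : c.A) :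
    g.hom a = GmAlg.aev (coM c e g) ((univM c e).hom a) := by
  conv_lhs => rw [eq_map_univM c e g]
  rfl

lemma coM_eq_of (g : Pt R c.A E) (z : Eˣ) (h : ∀ a, g.hom a = GmAlg.aev z ((univM c e).hom a)) :
    coM c e g = z := by
  have : g = Pt.map ((GmAlg.aev z : K[T;T⁻¹] →ₐ[K] E).restrictScalars R) (univM c e) :=
    Pt.ext h
  ext
  rw [this, coM_map, univM, coM_ptM, IsUnit.unit_spec, GmAlg.aev_T, zpow_one]

end Gm

end K486.CoPts
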