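import Groth.Agent.Neron.K486.CoPts
import Mathlib.AlgebraicGeometry.Morphisms.Flat
import Mathlib.LinearAlgebra.FreeModule.Basic

/-!
# `𝔾_m` over `Spec R` is the spectrum of `R[T;T⁻¹]`
-/

set_option autoImplicit false
universe u

open CategoryTheory MonoidalCategory CartesianMonoidalCategory MonObj GrpObj AlgebraicGeometry Limits Opposite
open scoped TensorProduct Polynomial LaurentPolynomial

namespace K486.GmLine

open Groth.Agent.Sga3B Groth.Agent.Sga3B.Cell Groth.Agent.Sga3B.PinMod K486.ModelPts K486.CoPts GmPts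

attribute [local instance 10] ULift.algebra'

variable (R : Type u) [CommRing R]

/-- the coordinate of `R[T;T⁻¹]` as a unit -/
noncomputable abbrev tU : (R[T;T⁻¹])ˣ := (LaurentPolynomial.isUnit_T (R := R) 1).unit

variable {R}

lemma laurent_ringHom_ext {E : Type u} [CommRing E] {f g : R[T;T⁻¹] →+* E}
    (hC : ∀ r, f (LaurentPolynomial.C r) = g (LaurentPolynomial.C r))
    (hT : f (LaurentPolynomial.T 1) = g (LaurentPolynomial.T 1)) : f = g := by
  let _ : Algebra R E := (f.comp LaurentPolynomial.C).toAlgebra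
  let f' : R[T;T⁻¹] →ₐ[R] E := { f with
    commutes' := fun r => by
      change f (algebraMap R R[T;T⁻¹] r) = _
      rw [← LaurentPolynomial.C_eq_algebraMap]; rfl }
  let g' : R[T;T⁻¹] →ₐ[R] E := { g with
    commutes' := fun r => by
      change g (algebraMap R R[T;T⁻¹] r) = _
      rw [← LaurentPolynomial.C_eq_algebraMap, ← hC]; rfl }
  have h : f' = g' := GmAlg.algHom_ext hT
  refine RingHom.ext fun x => ?_
  exact DFunLike.congr_fun h x

lemma isPushout_gen (v : ULift.{u} ℤ →+* R) :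
    IsPushout (CommRingCat.ofHom (algebraMap (ULift.{u} ℤ) Coord.{u})) (CommRingCat.ofHom v)
      (CommRingCat.ofHom (ringHomOfUnit (tU R))) (CommRingCat.ofHom (algebraMap R R[T;T⁻¹])) := by
  have hgen : ∀ {E : Type u} [CommRing E] (f : Coord.{u} →+* E),
      ((Units.map (f : Coord.{u} →* E) gen : Eˣ) : E) = f (tPow 1) := fun f => rfl
  refine ⟨⟨?_⟩, ⟨PushoutCocone.IsColimit.mk _
    (fun t => CommRingCat.ofHom (LaurentPolynomial.eval₂ t.inr.hom
      (Units.map (t.inl.hom : Coord.{u} →* _) gen))) ?_ ?_ ?_⟩⟩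
  · rw [← CommRingCat.ofHom_comp, ← CommRingCat.ofHom_comp]
    congr 1
    exact DSPts.uliftInt_ringHom_ext _ _
  · intro t
    refine CommRingCat.hom_ext ?_
    apply ringHom_ext_tPow
    change LaurentPolynomial.eval₂ _ _ (ringHomOfUnit (tU R) (tPow 1)) = t.inl.hom (tPow 1)
    rw [ringHomOfUnit_tPow, zpow_one, IsUnit.unit_spec, LaurentPolynomial.eval₂_T, zpow_one]
    rfl
  · intro t
    refine CommRingCat.hom_ext ?_
    ext r
    change LaurentPolynomial.eval₂ _ _ (algebraMap R R[T;T⁻¹] r) = t.inr.hom r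
    rw [← LaurentPolynomial.C_eq_algebraMap, LaurentPolynomial.eval₂_C]
  · intro t m h1 h2
    refine CommRingCat.hom_ext ?_
    apply laurent_ringHom_ext
    · intro r
      have := congrArg (fun k => CommRingCat.Hom.hom k r) h2
      change m.hom (LaurentPolynomial.C r) = LaurentPolynomial.eval₂ _ _ (LaurentPolynomial.C r)
      rw [LaurentPolynomial.eval₂_C, LaurentPolynomial.C_eq_algebraMap]
      exact this
    · have := congrArg (fun k => CommRingCat.Hom.hom k (tPow 1)) h1
      change m.hom (LaurentPolynomial.T 1) = LaurentPolynomial.eval₂ _ _ (LaurentPolynomial.T 1)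
      rw [LaurentPolynomial.eval₂_T, zpow_one, hgen, ← this]
      change _ = m.hom (ringHomOfUnit (tU R) (tPow 1))
      rw [ringHomOfUnit_tPow, zpow_one, IsUnit.unit_spec]

variable {S : Scheme.{u}} (s : Spec (CommRingCat.of R) ⟶ S)

/-- the point of `𝔾_m` over `Spec B` with coordinate `x` -/
noncomputable def gmPt {B : Type u} [CommRing B] [Algebra R B] (x : Bˣ) : tB s B ⟶ Red.Gm S :=
  ptOfUnit (T := tB s B) (Units.map ((Scheme.ΓSpecIso (CommRingCat.of B)).inv.hom : B →* Γ(Spec (CommRingCat.of B), ⊤)) x)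

lemma gmFn_gmPt {B : Type u} [CommRing B] [Algebra R B] (x : Bˣ) :
    Red.gmFn (gmPt s x) = fnOf s (x : B) := gmFn_ptOfUnit _

lemma gmPt_left_fst {B : Type u} [CommRing B] [Algebra R B] (x : Bˣ) :
    (gmPt s x).left ≫ pullback.fst _ _ = Spec.map (CommRingCat.ofHom (ringHomOfUnit x)) := by
  have h0 : (gmPt s x).left ≫ pullback.fst GmZ.hom (toBaseZ S) = specOfUnit _ := specPt_ptOfUnit _
  refine h0.trans ?_
  apply ((ΓSpec.adjunction.homEquiv (tB s B).left (op (CommRingCat.of Coord.{u}))).symm).injective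
  rw [specOfUnit, Equiv.symm_apply_apply, Adjunction.homEquiv_counit, ΓSpec.adjunction_counit_app]
  change (homOfUnit (T := tB s B) _).op = ((Scheme.ΓSpecIso (CommRingCat.of Coord.{u})).inv ≫
    (Spec.map (CommRingCat.ofHom (ringHomOfUnit x))).appTop).op
  rw [← Scheme.ΓSpecIso_inv_naturality]
  congr 1
  refine CommRingCat.hom_ext ?_
  apply ringHom_ext_tPow
  change ringHomOfUnit _ (tPow 1) = (Scheme.ΓSpecIso (CommRingCat.of B)).inv.hom (ringHomOfUnit x (tPow 1))
  rw [ringHomOfUnit_tPow, ringHomOfUnit_tPow, zpow_one, zpow_one]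
  rfl

/-- `Spec R[T;T⁻¹]` is the base change of `Gm S` -/
lemma isPullback_gm : IsPullback (gmPt s (tU R)).left
    (Spec.map (CommRingCat.ofHom (algebraMap R R[T;T⁻¹]))) (Red.Gm S).hom s := by
  have hr : IsPullback (pullback.fst (GmZ.{u}).hom (toBaseZ S)) (Red.Gm S).hom
      (GmZ.{u}).hom (toBaseZ S) := IsPullback.of_hasPullback _ _
  refine IsPullback.of_right ?_ (Over.w (gmPt s (tU R))) hr
  have h1 := gmPt_left_fst s (tU R)
  rw [h1]
  have h := specULiftZIsTerminal.hom_ext (s ≫ specULiftZIsTerminal.from S)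
    (Spec.map (CommRingCat.ofHom ((Int.castRingHom R).comp
      (ULift.ringEquiv : ULift.{u} ℤ ≃+* ℤ).toRingHom)))
  rw [h]
  exact isPullback_SpecMap_of_isPushout _ _ _ _ (isPushout_gen _)

lemma tMap_gmPt {B C : Type u} [CommRing B] [Algebra R B] [CommRing C] [Algebra R C] (φ : B →ₐ[R] C) (x : Bˣ) :
    tMap s φ ≫ gmPt s x = gmPt s (Units.map (φ : B →* C) x) := by
  apply gmFn_injective
  change Red.gmFn _ = Red.gmFn _
  rw [gmFn_comp, gmFn_gmPt, gmFn_gmPt, appTop_fnOf]
  rfl

instance isAffineHom_gm : IsAffineHom (Red.Gm S).hom := by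
  have h1 : IsAffineHom GmZ.{u}.hom := by
    change IsAffineHom (Spec.map (CommRingCat.ofHom (algebraMap (ULift.{u} ℤ) Coord.{u})))
    infer_instance
  exact MorphismProperty.pullback_snd _ _ h1

instance flat_gm : Flat (Red.Gm S).hom := by
  have h1 : Flat GmZ.{u}.hom := by
    change Flat (Spec.map (CommRingCat.ofHom (algebraMap (ULift.{u} ℤ) Coord.{u})))
    rw [HasRingHomProperty.Spec_iff (P := @Flat)]
    change (algebraMap (ULift.{u} ℤ) Coord.{u}).Flat
    rw [RingHom.flat_algebraMap_iff]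
    infer_instance
  exact MorphismProperty.pullback_snd _ _ h1

end K486.GmLine
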