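import Groth.Agent.Neron.K486.CompSch
import Groth.Agent.Neron.K486.GmLine
import Mathlib.RingTheory.RootsOfUnity.AlgebraicallyClosed

/-!
# Connected components of the special fibre of an affine group scheme, II
-/

set_option autoImplicit false
universe u

open CategoryTheory MonoidalCategory CartesianMonoidalCategory MonObj GrpObj AlgebraicGeometry Limits
open scoped Polynomial LaurentPolynomial

namespace K486.CompSch2

open Groth.Agent.Sga3B Groth.Agent.Sga3B.Cell Groth.Agent.Sga3B.PinMod Groth.Agent.Sga3B.DSPts K486.ModelPts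
  K486.CompSch

section laurent

variable {k : Type u} [Field k]

/-- A primitive Laurent polynomial is zero. -/
theorem laurent_zero [IsAlgClosed k] (P : k[T;T⁻¹])
    (h : ∀ a b : kˣ, (GmAlg.aev (a * b) : k[T;T⁻¹] →ₐ[k] k) P =
      (GmAlg.aev a : k[T;T⁻¹] →ₐ[k] k) P + (GmAlg.aev b : k[T;T⁻¹] →ₐ[k] k) P) : P = 0 := by
  obtain ⟨m, Q, hQ⟩ := P.exists_T_pow
  have hone : (GmAlg.aev (1 : kˣ) : k[T;T⁻¹] →ₐ[k] k) P = 0 := by
    have := h 1 1
    rw [_root_.mul_one] at this
    simpa using this
  have hpow : ∀ (a : kˣ) (n : ℕ), (GmAlg.aev (a ^ n) : k[T;T⁻¹] →ₐ[k] k) P =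
      n * (GmAlg.aev a : k[T;T⁻¹] →ₐ[k] k) P := by
    intro a n
    induction n with
    | zero => rw [pow_zero, hone]; simp
    | succ n ih => rw [pow_succ, h, ih]; push_cast; ring
  have hex : ∃ N : ℕ, Q.natDegree < N ∧ (N : k) ≠ 0 := by
    by_cases h1 : ((Q.natDegree + 1 : ℕ) : k) = 0
    · refine ⟨Q.natDegree + 2, by omega, fun h2 => ?_⟩
      have : ((Q.natDegree + 2 : ℕ) : k) = ((Q.natDegree + 1 : ℕ) : k) + 1 := by push_cast; ring
      rw [this, h1, zero_add] at h2
      exact one_ne_zero h2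
    · exact ⟨_, Nat.lt_succ_self _, h1⟩
  obtain ⟨N, hN, hN0⟩ := hex
  have hNne : NeZero (N : k) := ⟨hN0⟩
  have hNne' : NeZero N := ⟨by rintro rfl; exact hN0 (by simp)⟩
  have hcard : Nat.card (rootsOfUnity N k) = N := HasEnoughRootsOfUnity.natCard_rootsOfUnity k N
  have hft : Fintype (rootsOfUnity N k) := Fintype.ofFinite _
  have hQ0 : Q = 0 := by
    refine Polynomial.eq_zero_of_natDegree_lt_card_of_eval_eq_zero Q
      (f := fun ζ : rootsOfUnity N k => ((ζ : kˣ) : k)) ?_ ?_ ?_
    · intro ζ ζ' hζ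
      exact Subtype.ext (Units.ext hζ)
    · rintro ⟨ζ, hζ⟩
      have h1 : (ζ : kˣ) ^ N = 1 := hζ
      have h2 := hpow ζ N
      rw [h1, hone] at h2
      have h3 := (mul_eq_zero.1 h2.symm).resolve_left hN0
      have h4 : (GmAlg.aev ζ : k[T;T⁻¹] →ₐ[k] k) (Polynomial.toLaurent Q) = 0 := by
        rw [hQ, _root_.map_mul, h3, zero_mul]
      rw [GmAlg.aev_toLaurent] at h4
      rw [← h4, Polynomial.coe_aeval_eq_eval]
    · rw [← Nat.card_eq_fintype_card, hcard]
      exact hN
  rw [hQ0, _root_.map_zero] at hQ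
  have h2 : P = (P * LaurentPolynomial.T m) * LaurentPolynomial.T (-m) := by
    rw [LaurentPolynomial.mul_T_assoc, add_neg_cancel, LaurentPolynomial.T_zero, _root_.mul_one]
  rw [h2, ← hQ, zero_mul]

end laurent

section fibre

variable {R : Type u} [CommRing R]
variable {G : Over (Spec (CommRingCat.of R))} [GrpObj G] (c : Chart G (𝟙 (Spec (CommRingCat.of R))))

lemma uE_fst {k : Type u} [Field k] [Algebra R k] {E : Type u} [CommRing E] [Algebra R E] [Algebra k E]
    [IsScalarTower R k E] (g : Pt R c.A E) :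
    (u E c (Iso.refl (Red.bc (sK R k) G)) g).left ≫ pullback.fst G.hom (sK R k) =
    Spec.map (CommRingCat.ofHom (g.hom : c.A →+* E)) ≫ c.p := by
  have h1 : u E c (Iso.refl (Red.bc (sK R k) G)) g =
      bcEquiv (sK R k) _ G ((isoT R k E).hom ≫ c.pts E g) ≫ 𝟙 _ := rfl
  rw [h1, Category.comp_id, bcEquiv_fst, Over.comp_left, c.pts_left]
  exact Category.id_comp _

variable [IsLocalRing R] {π : R} (hπ : IsLocalRing.maximalIdeal R = Ideal.span {π})
  (h0 : algebraMap R (IsLocalRing.ResidueField R) π = 0)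

/-- the residue field -/
local notation "κ" => IsLocalRing.ResidueField R

/-- the map from `A/π` -/
noncomputable def barE {E : Type u} [CommRing E] [Algebra R E] (g : Pt R c.A E) (h0 : algebraMap R E π = 0) :
    (c.A ⧸ Ideal.span {algebraMap R c.A π}) →+* E :=
  Ideal.Quotient.lift _ (g.hom : c.A →+* E) (by
    intro a ha
    rw [Ideal.mem_span_singleton] at ha
    obtain ⟨s, rfl⟩ := ha
    rw [_root_.map_mul]
    change g.hom (algebraMap R c.A π) * _ = 0
    rw [AlgHom.commutes, h0, zero_mul])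

lemma uE_eq {E : Type u} [CommRing E] [Algebra R E] [Algebra κ E] [IsScalarTower R κ E] (hE : algebraMap R E π = 0)
    (g : Pt R c.A E) : (u E c (Iso.refl (Red.bc (sK R κ) G)) g).left =
      Spec.map (CommRingCat.ofHom (barE c g hE)) ≫ (Psi c hπ).hom := by
  apply pullback.hom_ext
  · rw [uE_fst, Category.assoc, Psi, IsPullback.isoPullback_hom_fst, ← Category.assoc, ← Spec.map_comp,
      ← CommRingCat.ofHom_comp]
    rfl
  · rw [Category.assoc, Psi, IsPullback.isoPullback_hom_snd, ← Spec.map_comp, ← CommRingCat.ofHom_comp]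
    have : (barE c g hE).comp (CompTop.kap hπ) = algebraMap κ E := by
      apply RingHom.ext
      intro r
      obtain ⟨r, rfl⟩ := IsLocalRing.residue_surjective r
      refine (g.hom.commutes r).trans ?_
      exact IsScalarTower.algebraMap_apply R κ E r
    rw [this]
    refine (Over.w (u E c (Iso.refl (Red.bc (sK R κ) G)) g)).trans ?_
    exact Category.comp_id _

include hπ h0 in
/-- **The identity component of the special fibre of a smooth affine group.** -/
theorem exists_comp [Smooth G.hom] [IsNoetherianRing c.A] (hreg : ∀ a : c.A, algebraMap R c.A π * a = 0 → a = 0) :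
    ∃ f : c.A, (∃ a, f * f - f = algebraMap R c.A π * a) ∧ Prime (algebraMap R (Localization.Away f) π) ∧
      IsDomain (Localization.Away (Ideal.Quotient.mk (Ideal.span {algebraMap R c.A π}) f)) ∧
      (1 : Pt R c.A κ).hom f ≠ 0 ∧
      ((∃ a, f = 1 + algebraMap R c.A π * a) → ConnectedSpace ↥(Red.bc (sK R κ) G).left) := by
  have h1 : Smooth (Spec.map (CommRingCat.ofHom (CompTop.kap (A := c.A) hπ))) :=
    MorphismProperty.of_isPullback (P := @Smooth) (CompTop.isPullback hπ) (smooth_chart c)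
  obtain ⟨e, he, hc, hd⟩ := CompTop.exists_idem (Spec.map (CommRingCat.ofHom (CompTop.kap (A := c.A) hπ)))
    (pt c h0 1)
  obtain ⟨f, rfl⟩ := Ideal.Quotient.mk_surjective e
  have h2 : Ideal.Quotient.mk (Ideal.span {algebraMap R c.A π}) (f * f - f) = 0 := by
    rw [_root_.map_sub, _root_.map_mul, he.eq, sub_self]
  rw [Ideal.Quotient.eq_zero_iff_mem, Ideal.mem_span_singleton] at h2
  refine ⟨f, h2, CompTop.prime_of hreg f hd, hd, ?_, ?_⟩
  · have := (hc (pt c h0 1)).1 mem_connectedComponent
    rwa [mem_pt] at this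
  · let Φ : PrimeSpectrum (c.A ⧸ Ideal.span {algebraMap R c.A π}) ≃ₜ ↥(pullback G.hom (sK R κ)) :=
      Scheme.homeoOfIso (Psi c hπ)
    rintro ⟨a, ha⟩
    have h1 : connectedComponent (pt c h0 1) = Set.univ := by
      ext z
      rw [hc, ha, _root_.map_add, _root_.map_one, _root_.map_mul,
        Ideal.Quotient.eq_zero_iff_mem.2 (Ideal.mem_span_singleton_self _), zero_mul, add_zero]
      simpa using (Ideal.ne_top_iff_one _).1 z.2.ne_top
    have h2 : ConnectedSpace (PrimeSpectrum (c.A ⧸ Ideal.span {algebraMap R c.A π})) :=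
      { isPreconnected_univ := by rw [← h1]; exact isPreconnected_connectedComponent
        toNonempty := ⟨pt c h0 1⟩ }
    exact Φ.surjective.connectedSpace Φ.continuous

end fibre

end K486.CompSch2
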