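import Groth.Agent.Neron.K486.AwayImm

/-!
# Factoring a localization of a model through a smaller ring

`R` a ring with an element `π`; `A → C` the localization at `f`, `B → C` with `B/π → C/π` injective and
`A[1/π] = B[1/π]`; then `A → C` factors through `B` and `Spec B → Spec A` is an open immersion.
-/

set_option autoImplicit false
universe u

open CategoryTheory AlgebraicGeometry

namespace K486.Factor

variable {R A B C : Type u} [CommRing R] [CommRing A] [CommRing B] [CommRing C]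
  [Algebra R A] [Algebra R B] [Algebra R C]

theorem mem_range_of_pow (π : R) (ι : A →ₐ[R] C) (ψ : B →ₐ[R] C)
    (hπ : ∀ c : C, algebraMap R C π * c = 0 → c = 0)
    (h2 : ∀ b c, ψ b = algebraMap R C π * c → ∃ b', b = algebraMap R B π * b')
    (m : ℕ) (a : A) (b : B) (h : algebraMap R C π ^ m * ι a = ψ b) : ∃ b', ψ b' = ι a := by
  induction m generalizing b with
  | zero => exact ⟨b, by simpa using h.symm⟩
  | succ m ih =>
    obtain ⟨b', rfl⟩ := h2 b (algebraMap R C π ^ m * ι a) (by rw [← h]; ring)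
    refine ih b' ?_
    have h3 : algebraMap R C π * (algebraMap R C π ^ m * ι a - ψ b') = 0 := by
      rw [mul_sub, ← mul_assoc, ← pow_succ', h, map_mul, AlgHom.commutes, sub_self]
    exact sub_eq_zero.1 (hπ _ h3)

theorem exists_factor (π : R) (ι : A →ₐ[R] C) (ψ : B →ₐ[R] C)
    (hπ : ∀ c : C, algebraMap R C π * c = 0 → c = 0) (hψ : Function.Injective ψ)
    (h2 : ∀ b c, ψ b = algebraMap R C π * c → ∃ b', b = algebraMap R B π * b')
    (h3 : ∀ a, ∃ (m : ℕ) (b : B), algebraMap R C π ^ m * ι a = ψ b) :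
    ∃ φ : A →ₐ[R] B, ψ.comp φ = ι := by
  have h4 : ∀ a, ι a ∈ ψ.range := by
    intro a
    obtain ⟨m, b, h⟩ := h3 a
    obtain ⟨b', hb⟩ := mem_range_of_pow π ι ψ hπ h2 m a b h
    exact ⟨b', hb⟩
  let e := AlgEquiv.ofInjective ψ hψ
  refine ⟨(e.symm : ψ.range →ₐ[R] B).comp (ι.codRestrict ψ.range h4), ?_⟩
  ext a
  have := AlgEquiv.apply_symm_apply e (ι.codRestrict ψ.range h4 a)
  exact congrArg Subtype.val this

/-- The data of a factorization. -/
structure Hyp (π : R) (f : A) (ι : A →ₐ[R] C) (ψ : B →ₐ[R] C) : Prop where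
  reg : ∀ c : C, algebraMap R C π * c = 0 → c = 0
  ιinj : Function.Injective ι
  ψinj : Function.Injective ψ
  isUnit : IsUnit (ι f)
  surj : ∀ c : C, ∃ (n : ℕ) (a : A), ι f ^ n * c = ι a
  sat : ∀ b c, ψ b = algebraMap R C π * c → ∃ b', b = algebraMap R B π * b'
  gen₁ : ∀ a, ∃ (m : ℕ) (b : B), algebraMap R C π ^ m * ι a = ψ b
  gen₂ : ∀ b, ∃ (m : ℕ) (a : A), algebraMap R C π ^ m * ψ b = ι a
  idem : ∃ a, f * f - f = algebraMap R A π * a
  conn : ∀ b : B, (∃ b', b * b - b = algebraMap R B π * b') →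
    (∃ b', b = algebraMap R B π * b') ∨ (∃ b', b = 1 + algebraMap R B π * b')
  nu : ¬ IsUnit (algebraMap R C π)

variable {π : R} {f : A} {ι : A →ₐ[R] C} {ψ : B →ₐ[R] C}

theorem Hyp.exists_map (H : Hyp π f ι ψ) : ∃ φ : A →ₐ[R] B, ψ.comp φ = ι :=
  exists_factor π ι ψ H.reg H.ψinj H.sat H.gen₁

theorem Hyp.map_idem (H : Hyp π f ι ψ) {φ : A →ₐ[R] B} (hφ : ψ.comp φ = ι) :
    ∃ b, φ f = 1 + algebraMap R B π * b := by
  obtain ⟨a, ha⟩ := H.idem
  have hc : ∀ a, ψ (φ a) = ι a := fun a => DFunLike.congr_fun hφ a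
  rcases H.conn (φ f) ⟨φ a, by rw [← map_mul, ← map_sub, ha, map_mul, AlgHom.commutes]⟩ with ⟨b, hb⟩ | h
  · exfalso
    apply H.nu
    have h1 : ι f = algebraMap R C π * ψ b := by rw [← hc, hb, map_mul, AlgHom.commutes]
    exact isUnit_of_mul_isUnit_left (h1 ▸ H.isUnit)
  · exact h

theorem Hyp.map_injective (H : Hyp π f ι ψ) {φ : A →ₐ[R] B} (hφ : ψ.comp φ = ι) :
    Function.Injective φ := by
  intro x y h
  apply H.ιinj
  rw [← hφ]
  exact congrArg ψ h

theorem Hyp.gen_f (H : Hyp π f ι ψ) {φ : A →ₐ[R] B} (hφ : ψ.comp φ = ι) (b : B) :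
    ∃ (n : ℕ) (a : A), φ a = φ f ^ n * b := by
  have hc : ∀ a, ψ (φ a) = ι a := fun a => DFunLike.congr_fun hφ a
  obtain ⟨n, a, h⟩ := H.surj (ψ b)
  refine ⟨n, a, H.ψinj ?_⟩
  rw [hc, map_mul, map_pow, hc, h]

theorem Hyp.gen_π (H : Hyp π f ι ψ) {φ : A →ₐ[R] B} (hφ : ψ.comp φ = ι) (b : B) :
    ∃ (n : ℕ) (a : A), φ a = φ (algebraMap R A π) ^ n * b := by
  have hc : ∀ a, ψ (φ a) = ι a := fun a => DFunLike.congr_fun hφ a
  obtain ⟨n, a, h⟩ := H.gen₂ b
  refine ⟨n, a, H.ψinj ?_⟩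
  rw [hc, map_mul, map_pow, hc, AlgHom.commutes, h]

theorem Hyp.isOpenImmersion (H : Hyp π f ι ψ) {φ : A →ₐ[R] B} (hφ : ψ.comp φ = ι) :
    IsOpenImmersion (Spec.map (CommRingCat.ofHom (φ : A →+* B))) := by
  refine AwayImm.isOpenImmersion (φ : A →+* B) (H.map_injective hφ) {f, algebraMap R A π} ?_ ?_
  · rintro g (rfl | rfl) b
    · exact H.gen_f hφ b
    · exact H.gen_π hφ b
  · intro p
    obtain ⟨b, hb⟩ := H.map_idem hφ
    by_cases h : (φ : A →+* B) (algebraMap R A π) ∈ p.asIdeal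
    · refine ⟨f, Set.mem_insert _ _, fun hf => ?_⟩
      apply p.2.ne_top
      rw [Ideal.eq_top_iff_one]
      have h1 : φ (algebraMap R A π) = algebraMap R B π := φ.commutes π
      have h2 : (1 : B) = φ f - φ (algebraMap R A π) * b := by rw [hb, h1]; ring
      rw [h2]
      exact p.asIdeal.sub_mem hf (p.asIdeal.mul_mem_right _ h)
    · exact ⟨_, Set.mem_insert_of_mem _ rfl, h⟩

/-- When `f ≡ 1` modulo `π`, the map is bijective. -/
theorem Hyp.bijective (H : Hyp π f ι ψ) {φ : A →ₐ[R] B} (hφ : ψ.comp φ = ι)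
    (hf : ∃ a, f = 1 + algebraMap R A π * a) : Function.Bijective φ := by
  refine ⟨H.map_injective hφ, fun b => ?_⟩
  obtain ⟨n, a, h⟩ := H.gen_f hφ b
  obtain ⟨m, a', h'⟩ := H.gen_π hφ b
  have hcop : IsCoprime f (algebraMap R A π) := by
    obtain ⟨c, hc⟩ := hf
    exact ⟨1, -c, by rw [hc]; ring⟩
  obtain ⟨x, y, hxy⟩ := (hcop.pow (m := n) (n := m))
  refine ⟨x * a + y * a', ?_⟩
  rw [map_add, map_mul, map_mul, h, h', ← map_pow, ← map_pow, ← mul_assoc, ← mul_assoc, ← add_mul,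
    ← map_mul, ← map_mul, ← map_add, hxy, map_one, one_mul]

/-- A point of `A` at which `f` is invertible comes from a point of `B`. -/
theorem Hyp.exists_point (H : Hyp π f ι ψ) {φ : A →ₐ[R] B} (hφ : ψ.comp φ = ι)
    {E : Type u} [CommRing E] [Algebra R E] (g : A →ₐ[R] E) (hg : IsUnit (g f)) :
    ∃ h : B →ₐ[R] E, h.comp φ = g := by
  have hloc : letI := (ι : A →+* C).toAlgebra; IsLocalization.Away f C := by
    letI := (ι : A →+* C).toAlgebra
    refine ⟨?_, ?_, ?_⟩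
    · rintro ⟨_, n, rfl⟩
      change IsUnit (ι (f ^ n))
      rw [map_pow]
      exact H.isUnit.pow n
    · intro z
      obtain ⟨n, a, h⟩ := H.surj z
      refine ⟨(a, ⟨f ^ n, n, rfl⟩), ?_⟩
      change z * ι (f ^ n) = ι a
      rw [← h, map_pow, mul_comm]
    · intro x y hxy
      exact ⟨1, by rw [H.ιinj hxy]⟩
  letI := (ι : A →+* C).toAlgebra
  let g' : C →+* E := IsLocalization.Away.lift (S := C) f (g := (g : A →+* E)) hg
  have h1 : ∀ a, g' (ι a) = g a := fun a => IsLocalization.Away.lift_eq f hg a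
  let g'' : C →ₐ[R] E := { g' with
    commutes' := fun r => by
      change g' (algebraMap R C r) = _
      rw [← ι.commutes, h1, AlgHom.commutes] }
  refine ⟨g''.comp ψ, ?_⟩
  ext a
  change g' (ψ (φ a)) = g a
  rw [← h1 a, ← DFunLike.congr_fun hφ a]
  rfl

end K486.Factor
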