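import Groth.Agent.Neron.K486.Factor
import Mathlib.RingTheory.DiscreteValuationRing.Basic
import Mathlib.RingTheory.LocalRing.ResidueField.Basic
import Mathlib.FieldTheory.IsAlgClosed.Basic
import Mathlib.RingTheory.Localization.Away.Basic
import Mathlib.RingTheory.Localization.FractionRing
import Mathlib.RingTheory.UniqueFactorizationDomain.Multiplicity

/-!
# Affine smooth models of the additive group: the algebra
-/

set_option autoImplicit false
universe u

open Polynomial

namespace K486.GaAlg

/-- Over an algebraically closed field, an element of a domain which is not a constant is transcendental. -/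
theorem eq_zero_of_eval₂ {k D : Type*} [Field k] [IsAlgClosed k] [CommRing D] [IsDomain D] (κ : k →+* D) (y : D)
    (hy : ∀ r, y ≠ κ r) (P : k[X]) (h : P.eval₂ κ y = 0) : P = 0 := by
  by_contra hP
  have h1 := (IsAlgClosed.splits P).eq_prod_roots
  rw [h1, eval₂_mul, eval₂_C, ← coe_eval₂RingHom, map_multiset_prod, Multiset.map_map, mul_eq_zero] at h
  rcases h with h | h
  · rw [map_eq_zero, leadingCoeff_eq_zero] at h
    exact hP h
  · rw [Multiset.prod_eq_zero_iff, Multiset.mem_map] at h
    obtain ⟨r, -, hr⟩ := h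
    simp only [Function.comp_apply, coe_eval₂RingHom, eval₂_sub, eval₂_X, eval₂_C] at hr
    exact hy r (sub_eq_zero.1 hr)

section DVR

variable {R : Type u} [CommRing R] [IsDomain R] [IsDiscreteValuationRing R] {π : R} (hπ : Irreducible π)
  {K : Type u} [Field K] [Algebra R K] [IsFractionRing R K]

include hπ

theorem exists_den (x : K) : ∃ (m : ℕ) (r : R), algebraMap R K π ^ m * x = algebraMap R K r := by
  obtain ⟨a, s, hs, rfl⟩ := IsFractionRing.div_surjective (A := R) x
  have hs0 : s ≠ 0 := nonZeroDivisors.ne_zero hs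
  obtain ⟨m, u, rfl⟩ := IsDiscreteValuationRing.eq_unit_mul_pow_irreducible hs0 hπ
  refine ⟨m, a * (↑u⁻¹ : R), ?_⟩
  have hu : algebraMap R K (u : R) ≠ 0 := by
    rw [Ne, FaithfulSMul.algebraMap_eq_zero_iff]; exact u.ne_zero
  have hp : algebraMap R K π ≠ 0 := by
    rw [Ne, FaithfulSMul.algebraMap_eq_zero_iff]; exact hπ.ne_zero
  have hui : algebraMap R K (↑u⁻¹ : R) = (algebraMap R K (u : R))⁻¹ := by
    apply eq_inv_of_mul_eq_one_left
    rw [← map_mul]; simp
  rw [map_mul, map_mul, map_pow, hui]
  field_simp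

theorem exists_den_poly (Q : K[X]) :
    ∃ (m : ℕ) (P : R[X]), C (algebraMap R K π) ^ m * Q = P.map (algebraMap R K) := by
  induction Q using Polynomial.induction_on' with
  | add p q hp hq =>
    obtain ⟨m, P, hP⟩ := hp
    obtain ⟨n, P', hP'⟩ := hq
    refine ⟨m + n, C π ^ n * P + C π ^ m * P', ?_⟩
    rw [Polynomial.map_add, Polynomial.map_mul, Polynomial.map_mul, ← hP, ← hP', Polynomial.map_pow,
      Polynomial.map_pow, map_C]
    ring
  | monomial n a =>
    obtain ⟨m, r, h⟩ := exists_den hπ a
    refine ⟨m, monomial n r, ?_⟩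
    rw [map_monomial, ← h, ← C_pow, C_mul_monomial]

theorem map_residue_eq_zero_iff (b : R[X]) :
    b.map (IsLocalRing.residue R) = 0 ↔ ∃ b', b = C π * b' := by
  constructor
  · intro h
    have h1 : ∀ n, π ∣ b.coeff n := by
      intro n
      have := congrArg (fun p => Polynomial.coeff p n) h
      simp only [coeff_map, coeff_zero, IsLocalRing.residue_eq_zero_iff] at this
      rwa [(IsDiscreteValuationRing.irreducible_iff_uniformizer π).1 hπ, Ideal.mem_span_singleton] at this
    exact (C_dvd_iff_dvd_coeff π b).2 h1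
  · rintro ⟨b', rfl⟩
    have : IsLocalRing.residue R π = 0 := by
      rw [IsLocalRing.residue_eq_zero_iff, (IsDiscreteValuationRing.irreducible_iff_uniformizer π).1 hπ]
      exact Ideal.mem_span_singleton_self π
    rw [Polynomial.map_mul, map_C, this, C_0, zero_mul]

theorem conn_poly (b : R[X]) (h : ∃ b', b * b - b = C π * b') :
    (∃ b', b = C π * b') ∨ (∃ b', b = 1 + C π * b') := by
  rw [← map_residue_eq_zero_iff hπ, Polynomial.map_sub, Polynomial.map_mul] at h
  have h2 : b.map (IsLocalRing.residue R) * (b.map (IsLocalRing.residue R) - 1) = 0 := by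
    rw [mul_sub, mul_one]; exact h
  rcases mul_eq_zero.1 h2 with h3 | h3
  · exact Or.inl ((map_residue_eq_zero_iff hπ b).1 h3)
  · right
    obtain ⟨b', hb⟩ := (map_residue_eq_zero_iff hπ (b - 1)).1 (by
      rw [Polynomial.map_sub, Polynomial.map_one]; exact h3)
    exact ⟨b', by rw [← hb]; ring⟩

omit hπ in
/-- Transcendence modulo `π`. -/
theorem sat_poly [IsAlgClosed (IsLocalRing.ResidueField R)] (hπ : Irreducible π)
    {A : Type u} [CommRing A] [Algebra R A] (hC : Prime (algebraMap R A π))
    (εC : A →ₐ[R] R) (y : A) (hy : εC y = 0) (hdvd : ¬ algebraMap R A π ∣ y)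
    (b : R[X]) (c : A) (h : aeval y b = algebraMap R A π * c) : ∃ b', b = C π * b' := by
  rw [← map_residue_eq_zero_iff hπ]
  have hmax := (IsDiscreteValuationRing.irreducible_iff_uniformizer π).1 hπ
  have hI : (Ideal.span {algebraMap R A π}).IsPrime := (Ideal.span_singleton_prime hC.ne_zero).2 hC
  let D := A ⧸ Ideal.span {algebraMap R A π}
  have hle : ∀ r ∈ IsLocalRing.maximalIdeal R, (algebraMap R D) r = 0 := by
    intro r hr
    rw [hmax, Ideal.mem_span_singleton] at hr
    obtain ⟨s, rfl⟩ := hr
    change Ideal.Quotient.mk _ (algebraMap R A (π * s)) = 0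
    rw [map_mul, Ideal.Quotient.eq_zero_iff_mem]
    exact Ideal.mul_mem_right _ _ (Ideal.mem_span_singleton_self _)
  let κ : IsLocalRing.ResidueField R →+* D := Ideal.Quotient.lift _ (algebraMap R D) hle
  have hκ : ∀ r, κ (IsLocalRing.residue R r) = algebraMap R D r := fun r => rfl
  let εD : D →+* IsLocalRing.ResidueField R := Ideal.Quotient.lift _
    ((IsLocalRing.residue R).comp (εC : A →+* R)) (by
      intro a ha
      rw [Ideal.mem_span_singleton] at ha
      obtain ⟨s, rfl⟩ := ha
      change IsLocalRing.residue R (εC (algebraMap R A π * s)) = 0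
      rw [map_mul, map_mul, AlgHom.commutes]
      have : IsLocalRing.residue R (algebraMap R R π) = 0 := by
        rw [IsLocalRing.residue_eq_zero_iff, hmax]
        exact Ideal.mem_span_singleton_self π
      rw [this, zero_mul])
  have hε : ∀ r, εD (κ r) = r := by
    intro r
    obtain ⟨r, rfl⟩ := IsLocalRing.residue_surjective r
    rw [hκ]
    change IsLocalRing.residue R (εC (algebraMap R A r)) = _
    rw [AlgHom.commutes]; rfl
  refine eq_zero_of_eval₂ κ (Ideal.Quotient.mk _ y) ?_ _ ?_
  · intro r hr
    have h1 : εD (Ideal.Quotient.mk _ y) = 0 := by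
      change IsLocalRing.residue R (εC y) = 0
      rw [hy, map_zero]
    rw [hr, hε] at h1
    rw [h1, map_zero, Ideal.Quotient.eq_zero_iff_mem, Ideal.mem_span_singleton] at hr
    exact hdvd hr
  · rw [eval₂_map]
    have h2 : κ.comp (IsLocalRing.residue R) =
        (Ideal.Quotient.mk (Ideal.span {algebraMap R A π})).comp (algebraMap R A) := by
      ext r; exact hκ r
    rw [h2, ← Polynomial.hom_eval₂]
    change Ideal.Quotient.mk _ (aeval y b) = 0
    rw [h, Ideal.Quotient.eq_zero_iff_mem]
    exact Ideal.mul_mem_right _ _ (Ideal.mem_span_singleton_self _)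

end DVR

section main

variable {R : Type u} [CommRing R] [IsDomain R] [IsDiscreteValuationRing R] {π : R} (hπ : Irreducible π)
  [IsAlgClosed (IsLocalRing.ResidueField R)]
  {K : Type u} [Field K] [Algebra R K] [IsFractionRing R K]
  {A : Type u} [CommRing A] [Algebra R A] [IsNoetherianRing A]
  (α : A →ₐ[R] K[X]) (hα : Function.Injective α)
  (hden : ∀ b : K[X], ∃ (m : ℕ) (a : A), C (algebraMap R K π) ^ m * b = α a)
  (f : A) (hf : ∃ a, f * f - f = algebraMap R A π * a)
  (ε : A →ₐ[R] R) (hεf : IsUnit (ε f)) (hε : ∀ a, eval 0 (α a) = algebraMap R K (ε a))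
  (hC : Prime (algebraMap R (Localization.Away f) π))

include hπ hα hden hf hεf hε hC

set_option maxHeartbeats 1000000 in
/-- **The algebra of an affine smooth model of the additive group.** -/
theorem exists_hyp : ∃ (c : K) (_ : c ≠ 0) (y : Localization.Away f),
    Factor.Hyp π f (IsScalarTower.toAlgHom R A (Localization.Away f)) (aeval (R := R) y) ∧
    ∀ (φ : A →ₐ[R] R[X]), (aeval (R := R) y).comp φ = IsScalarTower.toAlgHom R A (Localization.Away f) →
      ∀ a, α a = aeval (C c * X : K[X]) (φ a) := by
  classical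
  let A' := Localization.Away f
  let L := FractionRing K[X]
  have hdomA : IsDomain A := (hα.isDomain (α : A →+* K[X]))
  have hp0 : algebraMap R K π ≠ 0 := by
    rw [Ne, FaithfulSMul.algebraMap_eq_zero_iff]; exact hπ.ne_zero
  have hf0 : f ≠ 0 := by
    rintro rfl
    rw [map_zero] at hεf
    exact not_isUnit_zero hεf
  have hLinj : Function.Injective (algebraMap K[X] L) := IsFractionRing.injective _ _
  have hunit : IsUnit (((algebraMap K[X] L).comp (α : A →+* K[X])) f) := by
    rw [isUnit_iff_ne_zero]
    intro h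
    exact hf0 (hα (hLinj (by rw [map_zero, map_zero]; exact h)))
  let β : A' →+* L := IsLocalization.Away.lift (S := A') f (g := (algebraMap K[X] L).comp (α : A →+* K[X])) hunit
  have hβ : ∀ a : A, β (algebraMap A A' a) = algebraMap K[X] L (α a) := fun a =>
    IsLocalization.Away.lift_eq f hunit a
  have hβR : ∀ r : R, β (algebraMap R A' r) = algebraMap K[X] L (C (algebraMap R K r)) := by
    intro r
    rw [IsScalarTower.algebraMap_apply R A A', hβ, AlgHom.commutes]
    rfl
  have hβinj : Function.Injective β := by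
    rw [injective_iff_map_eq_zero]
    intro z hz
    obtain ⟨n, a, h⟩ := IsLocalization.Away.surj f z
    have h1 : algebraMap K[X] L (α a) = 0 := by
      rw [← hβ, ← h, map_mul, hz, zero_mul]
    have h2 : a = 0 := hα (hLinj (by rw [h1, map_zero, map_zero]))
    rw [h2, map_zero] at h
    exact ((IsLocalization.Away.algebraMap_isUnit (S := A') f).pow n).mul_left_eq_zero.1 h
  have hdom : IsDomain A' := hβinj.isDomain β
  have hnoe : IsNoetherianRing A' := IsLocalization.isNoetherianRing (Submonoid.powers f) A' inferInstance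
  have hιinj : Function.Injective (algebraMap A A') := by
    intro x y h
    have := congrArg β h
    rw [hβ, hβ] at this
    exact hα (hLinj this)
  -- the element `y`
  obtain ⟨N, x₀, hx₀⟩ := hden X
  have hx₀0 : algebraMap A A' x₀ ≠ 0 := by
    intro h
    have h1 := congrArg β h
    rw [hβ, map_zero, ← hx₀] at h1
    have h2 := hLinj (h1.trans (map_zero _).symm)
    rw [mul_eq_zero] at h2
    rcases h2 with h2 | h2
    · exact pow_ne_zero N (C_ne_zero.2 hp0) h2
    · exact X_ne_zero h2
  obtain ⟨r, y, hdvd, hy⟩ := WfDvdMonoid.max_power_factor' hx₀0 hC.not_isUnit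
  let c : K := algebraMap R K π ^ N / algebraMap R K π ^ r
  have hc : c ≠ 0 := div_ne_zero (pow_ne_zero _ hp0) (pow_ne_zero _ hp0)
  have hβy : β y = algebraMap K[X] L (C c * X) := by
    have h1 := congrArg β hy
    rw [hβ, ← hx₀, map_mul β, map_pow β, hβR] at h1
    have h3 : algebraMap K[X] L (C (algebraMap R K π)) ^ r ≠ 0 := by
      refine pow_ne_zero _ fun h => ?_
      exact C_ne_zero.2 hp0 (hLinj (h.trans (map_zero _).symm))
    apply mul_left_cancel₀ h3
    rw [← h1, ← map_pow (algebraMap K[X] L), ← map_mul (algebraMap K[X] L)]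
    congr 1
    rw [← mul_assoc, ← C_pow, ← C_pow, ← C_mul]
    congr 2
    rw [mul_div_cancel₀]
    exact pow_ne_zero _ hp0
  -- the counit on the localization
  let εC : A' →+* R := IsLocalization.Away.lift (S := A') f (g := (ε : A →+* R)) hεf
  have hεC : ∀ a : A, εC (algebraMap A A' a) = ε a := fun a => IsLocalization.Away.lift_eq f hεf a
  let ε' : A' →ₐ[R] R := { εC with
    commutes' := fun r => by
      change εC (algebraMap R A' r) = _
      rw [IsScalarTower.algebraMap_apply R A A', hεC, AlgHom.commutes] }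
  have hε0 : ε' y = 0 := by
    have h1 := congrArg εC hy
    rw [hεC, map_mul, map_pow] at h1
    have h2 : εC (algebraMap R A' π) = π := ε'.commutes π
    rw [h2] at h1
    have h3 : ε x₀ = 0 := by
      apply IsFractionRing.injective R K
      rw [← hε, ← hx₀, map_zero]
      simp
    rw [h3] at h1
    have h4 := (mul_eq_zero.1 h1.symm).resolve_left (pow_ne_zero _ hπ.ne_zero)
    exact h4
  have hβψ : ∀ P : R[X], β (aeval y P) = algebraMap K[X] L (aeval (C c * X : K[X]) P) := by
    intro P
    have h1 : ∀ (P : R[X]), β (aeval y P) = P.eval₂ (β.comp (algebraMap R A')) (β y) := fun P => by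
      rw [aeval_def, Polynomial.hom_eval₂]
    rw [h1, aeval_def, Polynomial.hom_eval₂, hβy]
    congr 1
    ext s
    exact hβR s
  have hcomp : ∀ P : R[X], aeval (C c * X : K[X]) P = (P.map (algebraMap R K)).comp (C c * X) := by
    intro P
    rw [Polynomial.comp, eval₂_map, aeval_def]
    rfl
  refine ⟨c, hc, y, ⟨?_, hιinj, ?_, ?_, ?_, ?_, ?_, ?_, hf, ?_, hC.not_isUnit⟩, ?_⟩
  · intro z hz
    exact (mul_eq_zero.1 hz).resolve_left hC.ne_zero
  · -- injectivity of `R[X] → A'`
    intro P Q h
    have h1 := congrArg β h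
    rw [hβψ, hβψ] at h1
    have h2 := hLinj h1
    rw [hcomp, hcomp] at h2
    have h3 := congrArg (fun F => F.comp (C c⁻¹ * X)) h2
    simp only [comp_assoc, mul_comp, C_comp, X_comp] at h3
    rw [← mul_assoc, ← C_mul, mul_inv_cancel₀ hc, C_1, one_mul, comp_X, comp_X] at h3
    exact Polynomial.map_injective _ (IsFractionRing.injective R K) h3
  · exact IsLocalization.Away.algebraMap_isUnit f
  · intro z
    obtain ⟨n, a, h⟩ := IsLocalization.Away.surj f z
    refine ⟨n, a, ?_⟩
    change algebraMap A A' f ^ n * z = algebraMap A A' a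
    rw [← h, mul_comm]
  · exact fun b z h => sat_poly hπ hC ε' y hε0 hdvd b z h
  · intro a
    obtain ⟨m, P, hP⟩ := exists_den_poly hπ ((α a).comp (C c⁻¹ * X))
    refine ⟨m, P, hβinj ?_⟩
    rw [hβψ, hcomp, ← hP, map_mul, map_pow, hβR, ← map_pow]
    change _ * β (algebraMap A A' a) = _
    rw [hβ, ← map_mul]
    congr 1
    rw [mul_comp, pow_comp, C_comp, comp_assoc, mul_comp, C_comp, X_comp, ← mul_assoc (C c⁻¹), ← C_mul,
      inv_mul_cancel₀ hc, C_1, one_mul, comp_X]
  · intro b
    obtain ⟨m, a, h⟩ := hden (aeval (C c * X : K[X]) b)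
    refine ⟨m, a, hβinj ?_⟩
    change _ = β (algebraMap A A' a)
    rw [hβ, ← h, map_mul, map_pow, hβψ, hβR, map_mul, map_pow]
  · exact fun b hb => conn_poly hπ b hb
  · intro φ hφ a
    apply hLinj
    rw [← hβψ, ← hβ]
    congr 1
    exact (DFunLike.congr_fun hφ a).symm

end main

end K486.GaAlg
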