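import Groth.Agent.Neron.K486.TatePts

/-!
# Points with values in algebras and the Galois action

Dictionaries between points of generic fibres (over `R` and over an `R`-algebra `V`) and `R`-points with values
in algebras, with their Galois actions.
-/

set_option autoImplicit false
universe u

open CategoryTheory CategoryTheory.Limits AlgebraicGeometry MonObj
open MonoidalCategory CartesianMonoidalCategory
open Groth.Agent.Sga7.H729.Dict Groth.Agent.Sga67.TorsionLift
open K486.TatePts

namespace K486.GalPts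

section Pdev

variable {R : Type u} [CommRing R] (N : Over (Spec (CommRingCat.of R))) [GrpObj N]

/-- `f - 1` on points, for an `R`-algebra endomorphism `f` of `L`. -/
noncomputable def pdev {L : Type u} [CommRing L] [Algebra R L] (f : L →ₐ[R] L) (y : sp R L ⟶ N) :
    sp R L ⟶ N := res N f y * y⁻¹

lemma res_pdev {L L' : Type u} [CommRing L] [CommRing L'] [Algebra R L] [Algebra R L']
    (φ : L →ₐ[R] L') (f : L →ₐ[R] L) (g : L' →ₐ[R] L') (h : φ.comp f = g.comp φ) (y : sp R L ⟶ N) :
    res N φ (pdev N f y) = pdev N g (res N φ y) := by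
  rw [pdev, pdev, map_mul, map_inv, ← res_comp, h, res_comp]

variable (K Ω : Type u) [Field K] [Algebra R K] [Field Ω] [Algebra K Ω] [Algebra R Ω] [IsScalarTower R K Ω]

lemma toSp_galAct (σ : Ω ≃ₐ[K] Ω) (x : SGA7.Pts Ω ((SGA7.genFib R K).obj N)) :
    toSp R K Ω N (SGA7.galAct σ x) = res N ((σ : Ω →ₐ[K] Ω).restrictScalars R) (toSp R K Ω N x) := by
  ext1
  rw [toSp_left, res_left, toSp_left]
  exact Category.assoc _ _ _

lemma toSp_dev (σ : Ω ≃ₐ[K] Ω) (x : SGA7.Pts Ω (Red.bc (Spec.map (CommRingCat.ofHom (algebraMap R K))) N)) :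
    toSp R K Ω N (SGA7.dev σ x) = pdev N ((σ : Ω →ₐ[K] Ω).restrictScalars R) (toSp R K Ω N x) := by
  rw [pdev, ← toSp_galAct, ← map_inv]
  exact map_mul (toSp R K Ω N) _ _

end Pdev

section VF

variable {R V F Φ : Type u} [CommRing R] [CommRing V] [Field F] [Field Φ] [Algebra R V] [Algebra V F]
  [Algebra R F] [IsScalarTower R V F] [Algebra F Φ] [Algebra R Φ] [IsScalarTower R F Φ]
  [Algebra V Φ] [IsScalarTower V F Φ] [IsScalarTower R V Φ]
  (N : Over (Spec (CommRingCat.of R))) [GrpObj N]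

variable (R V Φ) in
/-- `Spec Φ` over `Spec V` over `Spec R`. -/
noncomputable def j₀ : sp R Φ ⟶ (Over.map (Spec.map (CommRingCat.ofHom (algebraMap R V)))).obj (sp V Φ) :=
  Over.homMk (𝟙 _) (by
    change 𝟙 _ ≫ Spec.map (CommRingCat.ofHom (algebraMap V Φ)) ≫ Spec.map (CommRingCat.ofHom (algebraMap R V)) =
      Spec.map (CommRingCat.ofHom (algebraMap R Φ))
    rw [Category.id_comp, ← Spec.map_comp, ← CommRingCat.ofHom_comp, ← IsScalarTower.algebraMap_eq])

variable (R V Φ) in
/-- its inverse. -/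
noncomputable def j₁ : (Over.map (Spec.map (CommRingCat.ofHom (algebraMap R V)))).obj (sp V Φ) ⟶ sp R Φ :=
  Over.homMk (𝟙 _) (by
    change 𝟙 _ ≫ Spec.map (CommRingCat.ofHom (algebraMap R Φ)) =
      Spec.map (CommRingCat.ofHom (algebraMap V Φ)) ≫ Spec.map (CommRingCat.ofHom (algebraMap R V))
    rw [Category.id_comp, ← Spec.map_comp, ← CommRingCat.ofHom_comp, ← IsScalarTower.algebraMap_eq])

variable (R V Φ) in
/-- `Φ`-points of the base change to `V` are `Φ`-points. -/
noncomputable def EV : (sp V Φ ⟶ Red.bc (Spec.map (CommRingCat.ofHom (algebraMap R V))) N) ≃* (sp R Φ ⟶ N) :=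
  (bcPts (Spec.map (CommRingCat.ofHom (algebraMap R V))) N (sp V Φ)).trans
    { toFun := fun x => j₀ R V Φ ≫ x
      invFun := fun x => j₁ R V Φ ≫ x
      left_inv := fun x => by ext1; exact (Category.id_comp _).trans (Category.id_comp _)
      right_inv := fun x => by ext1; exact (Category.id_comp _).trans (Category.id_comp _)
      map_mul' := fun x y => MonObj.comp_mul _ _ _ }

lemma EV_left (x : sp V Φ ⟶ Red.bc (Spec.map (CommRingCat.ofHom (algebraMap R V))) N) :
    (EV R V Φ N x).left = x.left ≫ pullback.fst N.hom (Spec.map (CommRingCat.ofHom (algebraMap R V))) := by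
  change (𝟙 _ ≫ (bcPts _ N _ x).left) = _
  rw [bcPts_left, Category.id_comp]

lemma EV_res (f : Φ →ₐ[V] Φ) (x : sp V Φ ⟶ Red.bc (Spec.map (CommRingCat.ofHom (algebraMap R V))) N) :
    EV R V Φ N (res _ f x) = res N (f.restrictScalars R) (EV R V Φ N x) := by
  ext1
  rw [EV_left, res_left, res_left, EV_left]
  exact Category.assoc _ _ _

variable (R V F Φ) in
/-- `Φ`-points of the generic fibre of the base change to `V`. -/
noncomputable def EF : SGA7.Pts (K := F) Φ ((SGA7.genFib V F).obj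
    (Red.bc (Spec.map (CommRingCat.ofHom (algebraMap R V))) N)) ≃* (sp R Φ ⟶ N) :=
  (toSp V F Φ (Red.bc (Spec.map (CommRingCat.ofHom (algebraMap R V))) N)).trans (EV R V Φ N)

lemma EF_galAct (σ : Φ ≃ₐ[F] Φ) (x : SGA7.Pts (K := F) Φ ((SGA7.genFib V F).obj
    (Red.bc (Spec.map (CommRingCat.ofHom (algebraMap R V))) N))) :
    EF R V F Φ N (SGA7.galAct σ x) = res N ((σ : Φ →ₐ[F] Φ).restrictScalars R) (EF R V F Φ N x) := by
  change EV R V Φ N (toSp V F Φ _ (SGA7.galAct σ x)) = _
  rw [toSp_galAct, EV_res]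
  rfl

lemma EF_dev (σ : Φ ≃ₐ[F] Φ) (x : SGA7.Pts (K := F) Φ ((SGA7.genFib V F).obj
    (Red.bc (Spec.map (CommRingCat.ofHom (algebraMap R V))) N))) :
    EF R V F Φ N (SGA7.dev σ x) = pdev N ((σ : Φ →ₐ[F] Φ).restrictScalars R) (EF R V F Φ N x) := by
  rw [pdev, ← EF_galAct, ← map_inv]
  exact map_mul (EF R V F Φ N) _ _

end VF

section Desc

variable {R F Φ : Type u} [CommRing R] [Field F] [Field Φ]
  [Algebra R F] [Algebra F Φ] [Algebra R Φ] [IsScalarTower R F Φ]
  (N : Over (Spec (CommRingCat.of R))) [GrpObj N]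

/-- A Galois invariant point comes from an `F`-point. -/
theorem exists_pt [IsGalois F Φ] (z : sp R Φ ⟶ N)
    (hz : ∀ σ : Φ ≃ₐ[F] Φ, res N ((σ : Φ →ₐ[F] Φ).restrictScalars R) z = z) :
    ∃ y : sp R F ⟶ N, res N (IsScalarTower.toAlgHom R F Φ) y = z := by
  let z' := (toSp R F Φ N).symm z
  have hz' : toSp R F Φ N z' = z := (toSp R F Φ N).apply_symm_apply z
  obtain ⟨w, hw⟩ := exists_of_fixed _ z' (fun σ => (toSp R F Φ N).injective (by
    rw [toSp_galAct, hz', hz]))
  have hwl : w.left ≫ pullback.snd N.hom (Spec.map (CommRingCat.ofHom (algebraMap R F))) =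
      𝟙 (Spec (CommRingCat.of F)) := Over.w w
  refine ⟨Over.homMk (w.left ≫ pullback.fst N.hom (Spec.map (CommRingCat.ofHom (algebraMap R F)))) ?_, ?_⟩
  · change (w.left ≫ pullback.fst N.hom (Spec.map (CommRingCat.ofHom (algebraMap R F)))) ≫ N.hom =
      Spec.map (CommRingCat.ofHom (algebraMap R F))
    rw [Category.assoc, pullback.condition, reassoc_of% hwl]
    exact Category.id_comp _
  · rw [← hz', ← hw]
    ext1
    rw [toSp_left]
    have h3 : toUnit (SGA7.pt (K := F) Φ) = Over.homMk (Spec.map (CommRingCat.ofHom (algebraMap F Φ)))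
        (Category.comp_id _) := toUnit_unique _ _
    rw [h3, Over.comp_left]
    exact (Category.assoc _ _ _).symm

end Desc

end K486.GalPts
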