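import Groth.Agent.Neron.K486.NMP
import Mathlib.AlgebraicGeometry.Limits

/-!
# Extension property with respect to an open subscheme of the base: gluing, base change
-/

set_option autoImplicit false
universe u
open CategoryTheory CategoryTheory.Limits AlgebraicGeometry

namespace K486.NMP

variable {S : Scheme.{u}}

/-- Extension property with respect to an open subscheme `U` of the base. -/
def ExtU {Y N : Scheme.{u}} (U : S.Opens) (p : Y ⟶ S) (q : N ⟶ S) : Prop :=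
  ExtJ (p ⁻¹ᵁ U).ι p q

/-- Uniqueness of extensions with respect to an open subscheme `U` of the base. -/
def UniqU {Y N : Scheme.{u}} (U : S.Opens) (p : Y ⟶ S) (q : N ⟶ S) : Prop :=
  ∀ g g' : Y ⟶ N, g ≫ q = p → g' ≫ q = p → (p ⁻¹ᵁ U).ι ≫ g = (p ⁻¹ᵁ U).ι ≫ g' → g = g'

/-- Existence of extensions with respect to an open subscheme `U` of the base. -/
def ExU {Y N : Scheme.{u}} (U : S.Opens) (p : Y ⟶ S) (q : N ⟶ S) : Prop :=
  ∀ h : (p ⁻¹ᵁ U).toScheme ⟶ N, h ≫ q = (p ⁻¹ᵁ U).ι ≫ p → ∃ g : Y ⟶ N, g ≫ q = p ∧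
    (p ⁻¹ᵁ U).ι ≫ g = h

lemma extU_iff {Y N : Scheme.{u}} (U : S.Opens) (p : Y ⟶ S) (q : N ⟶ S) :
    ExtU U p q ↔ UniqU U p q ∧ ExU U p q := by
  constructor
  · intro H
    refine ⟨fun g g' h h' e => ?_, fun h hh => (H h hh).exists⟩
    exact (H ((p ⁻¹ᵁ U).ι ≫ g) (by rw [Category.assoc, h])).unique ⟨h, rfl⟩ ⟨h', e.symm⟩
  · rintro ⟨H1, H2⟩ h hh
    obtain ⟨g, hg⟩ := H2 h hh
    exact ⟨g, hg, fun g' hg' => H1 _ _ hg'.1 hg.1 (hg'.2.trans hg.2.symm)⟩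

theorem bijective_iff_extU (U : S.Opens) (Y N : Over S) :
    Function.Bijective (fun g : Y ⟶ N => (Over.pullback U.ι).map g) ↔
      ExtU U Y.hom N.hom := bijective_iff_opens U Y N

/-- the restriction of an `S`-morphism over `U` -/
noncomputable def res {Y Y' : Scheme.{u}} (U : S.Opens) {p' : Y' ⟶ S} {p : Y ⟶ S} (f : Y' ⟶ Y)
    (h : f ≫ p = p') : (p' ⁻¹ᵁ U).toScheme ⟶ (p ⁻¹ᵁ U).toScheme :=
  IsOpenImmersion.lift (p ⁻¹ᵁ U).ι ((p' ⁻¹ᵁ U).ι ≫ f) (by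
    subst h
    rintro _ ⟨x, rfl⟩
    simp only [Scheme.Opens.range_ι]
    exact x.2)

@[reassoc (attr := simp)]
lemma res_ι {Y Y' : Scheme.{u}} (U : S.Opens) {p' : Y' ⟶ S} {p : Y ⟶ S} (f : Y' ⟶ Y)
    (h : f ≫ p = p') : res U f h ≫ (p ⁻¹ᵁ U).ι = (p' ⁻¹ᵁ U).ι ≫ f :=
  IsOpenImmersion.lift_fac _ _ _

@[reassoc]
lemma res_comp {Y Y' Y'' : Scheme.{u}} (U : S.Opens) {p : Y ⟶ S} {p' : Y' ⟶ S} {p'' : Y'' ⟶ S}
    (f : Y' ⟶ Y) (h : f ≫ p = p') (f' : Y'' ⟶ Y') (h' : f' ≫ p' = p'') :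
    res U f' h' ≫ res U f h = res U (f' ≫ f) (by rw [Category.assoc, h, h']) := by
  rw [← cancel_mono (p ⁻¹ᵁ U).ι]
  simp

/-- Restriction of the equation on `p⁻¹U` along a morphism. -/
lemma restrict_eq {Y Y' N : Scheme.{u}} (U : S.Opens) {p : Y ⟶ S} {p' : Y' ⟶ S} (f : Y' ⟶ Y)
    (hf : f ≫ p = p')
    {g g' : Y ⟶ N} (h : (p ⁻¹ᵁ U).ι ≫ g = (p ⁻¹ᵁ U).ι ≫ g') :
    (p' ⁻¹ᵁ U).ι ≫ f ≫ g = (p' ⁻¹ᵁ U).ι ≫ f ≫ g' := by
  rw [← res_ι_assoc U f hf, h, res_ι_assoc]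

lemma uniqU_of_cover {Y N : Scheme.{u}} (U : S.Opens) (p : Y ⟶ S) (q : N ⟶ S)
    (𝒰 : Y.OpenCover) (h1 : ∀ i, UniqU U (𝒰.f i ≫ p) q) : UniqU U p q := by
  intro g g' hg hg' e
  refine 𝒰.hom_ext _ _ fun i => ?_
  exact h1 i _ _ (by rw [Category.assoc, hg]) (by rw [Category.assoc, hg'])
    (restrict_eq U _ rfl e)

/-- The extension property is local on the source. -/
theorem extU_of_cover {Y N : Scheme.{u}} (U : S.Opens) (p : Y ⟶ S) (q : N ⟶ S)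
    (𝒰 : Y.OpenCover) (h1 : ∀ i, ExtU U (𝒰.f i ≫ p) q)
    (h2 : ∀ i k, UniqU U (pullback.fst (𝒰.f i) (𝒰.f k) ≫ 𝒰.f i ≫ p) q) : ExtU U p q := by
  have hu : UniqU U p q := uniqU_of_cover U p q 𝒰 (fun i => ((extU_iff _ _ _).1 (h1 i)).1)
  refine (extU_iff _ _ _).2 ⟨hu, fun h hh => ?_⟩
  have hex := fun i => ((extU_iff _ _ _).1 (h1 i)).2 (res U (𝒰.f i) rfl ≫ h) (by
    rw [Category.assoc, hh, res_ι_assoc])
  choose g hg1 hg2 using hex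
  have hcomp : ∀ i k, pullback.fst (𝒰.f i) (𝒰.f k) ≫ g i = pullback.snd _ _ ≫ g k := by
    intro i k
    apply h2 i k
    · rw [Category.assoc, hg1]
    · rw [Category.assoc, hg1, pullback.condition_assoc]
    · have e1 : ((pullback.fst (𝒰.f i) (𝒰.f k) ≫ 𝒰.f i ≫ p) ⁻¹ᵁ U).ι ≫
          pullback.fst (𝒰.f i) (𝒰.f k) ≫ g i =
          res U (pullback.fst (𝒰.f i) (𝒰.f k) ≫ 𝒰.f i) (Category.assoc _ _ _) ≫ h := by
        rw [← res_ι_assoc U (pullback.fst (𝒰.f i) (𝒰.f k)) rfl, hg2]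
        exact res_comp_assoc U _ _ _ _ h
      have e2 : ((pullback.fst (𝒰.f i) (𝒰.f k) ≫ 𝒰.f i ≫ p) ⁻¹ᵁ U).ι ≫
          pullback.snd (𝒰.f i) (𝒰.f k) ≫ g k =
          res U (pullback.snd (𝒰.f i) (𝒰.f k) ≫ 𝒰.f k)
            (by rw [Category.assoc, pullback.condition_assoc]) ≫ h := by
        have e3 : pullback.snd (𝒰.f i) (𝒰.f k) ≫ 𝒰.f k ≫ p =
          pullback.fst (𝒰.f i) (𝒰.f k) ≫ 𝒰.f i ≫ p := by rw [pullback.condition_assoc]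
        rw [← res_ι_assoc U (p := 𝒰.f k ≫ p) (pullback.snd (𝒰.f i) (𝒰.f k)) e3, hg2]
        exact res_comp_assoc U _ _ _ _ h
      rw [e1, e2]
      congr 2
      exact pullback.condition
  refine ⟨𝒰.glueMorphisms g hcomp, ?_, ?_⟩
  · refine 𝒰.hom_ext _ _ fun i => ?_
    rw [Scheme.Cover.ι_glueMorphisms_assoc, hg1]
  · -- the pulled back cover
    refine Scheme.Cover.hom_ext (𝒰.pullback₁ (p ⁻¹ᵁ U).ι) _ _ fun i => ?_
    change pullback.fst (p ⁻¹ᵁ U).ι (𝒰.f i) ≫ _ = pullback.fst (p ⁻¹ᵁ U).ι (𝒰.f i) ≫ _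
    have h3 : pullback.fst (p ⁻¹ᵁ U).ι (𝒰.f i) ≫ (p ⁻¹ᵁ U).ι ≫ 𝒰.glueMorphisms g hcomp =
        pullback.snd (p ⁻¹ᵁ U).ι (𝒰.f i) ≫ g i := by
      rw [pullback.condition_assoc, Scheme.Cover.ι_glueMorphisms]
    rw [h3]
    have h4 : Set.range (pullback.snd (p ⁻¹ᵁ U).ι (𝒰.f i)) ⊆
        Set.range ((𝒰.f i ≫ p) ⁻¹ᵁ U).ι := by
      rintro _ ⟨x, rfl⟩
      simp only [Scheme.Opens.range_ι]
      change p (𝒰.f i _) ∈ U
      rw [← Scheme.Hom.comp_apply (pullback.snd (p ⁻¹ᵁ U).ι (𝒰.f i)), ← pullback.condition,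
        Scheme.Hom.comp_apply]
      exact (pullback.fst (p ⁻¹ᵁ U).ι (𝒰.f i) x).2
    have h5 := IsOpenImmersion.lift_fac ((𝒰.f i ≫ p) ⁻¹ᵁ U).ι _ h4
    rw [← h5, Category.assoc, hg2, ← Category.assoc]
    congr 1
    rw [← cancel_mono (p ⁻¹ᵁ U).ι, Category.assoc, res_ι, reassoc_of% h5, pullback.condition]

/-- Base change: if `q'` is the base change of `q` along `b`, then extension problems against `q'`
are the same as extension problems against `q`. -/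
theorem extJ_iff_of_isPullback {V Y N N' B : Scheme.{u}} {j : V ⟶ Y} {p : Y ⟶ B} {b : B ⟶ S}
    {q' : N' ⟶ B} {n : N' ⟶ N} {q : N ⟶ S} (h : IsPullback n q' q b) :
    ExtJ j p q' ↔ ExtJ j (p ≫ b) q := by
  constructor
  · intro H φ hφ
    obtain ⟨g, ⟨hg1, hg2⟩, -⟩ := H (h.lift φ (j ≫ p) (by rw [hφ, Category.assoc]))
      (h.lift_snd _ _ _)
    refine ⟨g ≫ n, ⟨by rw [Category.assoc, h.w, reassoc_of% hg1], ?_⟩, ?_⟩
    · rw [reassoc_of% hg2, h.lift_fst]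
    · rintro g' ⟨h1, h2⟩
      have h3 : h.lift g' p h1 = g := by
        refine (H (h.lift φ (j ≫ p) (by rw [hφ, Category.assoc])) (h.lift_snd _ _ _)).unique
          ⟨h.lift_snd _ _ _, ?_⟩ ⟨hg1, hg2⟩
        apply h.hom_ext
        · rw [Category.assoc, h.lift_fst, h.lift_fst, h2]
        · rw [Category.assoc, h.lift_snd, h.lift_snd]
      rw [← h3, h.lift_fst]
  · intro H φ hφ
    obtain ⟨g, ⟨hg1, hg2⟩, hgu⟩ := H (φ ≫ n) (by rw [Category.assoc, h.w, reassoc_of% hφ])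
    refine ⟨h.lift g p hg1, ⟨h.lift_snd _ _ _, ?_⟩, ?_⟩
    · apply h.hom_ext
      · rw [Category.assoc, h.lift_fst, hg2]
      · rw [Category.assoc, h.lift_snd, hφ]
    · rintro g' ⟨h1, h2⟩
      apply h.hom_ext
      · rw [h.lift_fst]
        exact hgu (g' ≫ n) ⟨by rw [Category.assoc, h.w, reassoc_of% h1], by rw [reassoc_of% h2]⟩
      · rw [h.lift_snd, h1]

theorem extU_iff_of_isPullback {Y N N' B : Scheme.{u}} (U : S.Opens) {p : Y ⟶ B} {b : B ⟶ S}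
    {q' : N' ⟶ B} {n : N' ⟶ N} {q : N ⟶ S} (h : IsPullback n q' q b) :
    ExtU (b ⁻¹ᵁ U) p q' ↔ ExtU U (p ≫ b) q := extJ_iff_of_isPullback h

/-- Transport of the extension property along an isomorphism of the source. -/
theorem extU_iso_comp {Y Y' N : Scheme.{u}} (U : S.Opens) (e : Y' ⟶ Y) [IsIso e] (p : Y ⟶ S)
    (q : N ⟶ S) (H : ExtU U p q) : ExtU U (e ≫ p) q := by
  intro h hh
  obtain ⟨g, ⟨hg1, hg2⟩, hgu⟩ := H (res U (inv e) (IsIso.inv_hom_id_assoc _ _) ≫ h) (by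
    rw [Category.assoc, hh, res_ι_assoc, IsIso.inv_hom_id_assoc])
  refine ⟨e ≫ g, ⟨by rw [Category.assoc, hg1], ?_⟩, ?_⟩
  · rw [← res_ι_assoc U e rfl, hg2, ← Category.assoc, res_comp]
    have : res U (e ≫ inv e) (by simp) = 𝟙 ((e ≫ p) ⁻¹ᵁ U).toScheme := by
      rw [← cancel_mono ((e ≫ p) ⁻¹ᵁ U).ι, res_ι, IsIso.hom_inv_id, Category.comp_id,
        Category.id_comp]
    rw [this, Category.id_comp]
  · rintro g' ⟨h1, h2⟩
    rw [← hgu (inv e ≫ g') ⟨by rw [Category.assoc, h1, IsIso.inv_hom_id_assoc], by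
      rw [← h2, res_ι_assoc]⟩, IsIso.hom_inv_id_assoc]

/-- Uniqueness is trivial for an empty source. -/
lemma uniqU_of_isEmpty {Y N : Scheme.{u}} [IsEmpty Y] (U : S.Opens) (p : Y ⟶ S) (q : N ⟶ S) :
    UniqU U p q := fun g g' _ _ _ => (isInitialOfIsEmpty (X := Y)).hom_ext g g'

end K486.NMP
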