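import Groth.Agent.Neron.K486.CompSch2
import Groth.Agent.Neron.K486.CoFlat
import Groth.Agent.Neron.K486.Comp

/-!
# The degenerate case for models of the multiplicative group
-/

set_option autoImplicit false
universe u

open CategoryTheory AlgebraicGeometry Limits
open scoped Polynomial LaurentPolynomial

namespace K486.GmCase

open Groth.Agent.Sga3B Groth.Agent.Sga3B.Cell Groth.Agent.Sga3B.PinMod K486.ModelPts
  K486.CoPts K486.CoFlat

section ext

variable {R : Type u} [CommRing R] {A : Type u} [CommRing A] [Algebra R A] {E : Type u} [CommRing E] [Algebra R E]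

/-- extension of a point to a localization -/
noncomputable def extP (f : A) (g : A →ₐ[R] E) (hg : IsUnit (g f)) : Localization.Away f →ₐ[R] E :=
  { IsLocalization.Away.lift (S := Localization.Away f) f (g := (g : A →+* E)) hg with
    commutes' := fun r => by
      change IsLocalization.Away.lift (S := Localization.Away f) f (g := (g : A →+* E)) hg
        (algebraMap R (Localization.Away f) r) = _
      rw [IsScalarTower.algebraMap_apply R A (Localization.Away f), IsLocalization.Away.lift_eq]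
      exact g.commutes r }

@[simp] lemma extP_algebraMap (f : A) (g : A →ₐ[R] E) (hg : IsUnit (g f)) (a : A) :
    extP f g hg (algebraMap A (Localization.Away f) a) = g a := IsLocalization.Away.lift_eq f hg a

lemma algHom_ext_away {f : A} {g h : Localization.Away f →ₐ[R] E}
    (H : ∀ a : A, g (algebraMap A _ a) = h (algebraMap A _ a)) : g = h := by
  apply AlgHom.coe_ringHom_injective
  apply IsLocalization.ringHom_ext (Submonoid.powers f)
  ext a
  exact H a

lemma dvd_of_map_eq_zero {π : R} (f : A)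
    (hu : IsUnit (algebraMap (A ⧸ Ideal.span {algebraMap R A π})
      (Localization.Away (Ideal.Quotient.mk (Ideal.span {algebraMap R A π}) f))
      (Ideal.Quotient.mk (Ideal.span {algebraMap R A π}) f))) (c : Localization.Away f)
    (hc : IsLocalization.Away.lift (S := Localization.Away f) f
      (g := (algebraMap (A ⧸ Ideal.span {algebraMap R A π})
        (Localization.Away (Ideal.Quotient.mk (Ideal.span {algebraMap R A π}) f))).comp
        (Ideal.Quotient.mk (Ideal.span {algebraMap R A π}))) hu c = 0) :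
    algebraMap R (Localization.Away f) π ∣ c := by
  let I := Ideal.span {algebraMap R A π}
  let C := Localization.Away f
  let D := Localization.Away (Ideal.Quotient.mk I f)
  let q : C →+* D := IsLocalization.Away.lift (S := C) f
    (g := (algebraMap (A ⧸ I) D).comp (Ideal.Quotient.mk I)) hu
  have hq : ∀ a : A, q (algebraMap A C a) = algebraMap (A ⧸ I) D (Ideal.Quotient.mk I a) := fun a =>
    IsLocalization.Away.lift_eq f _ a
  have hfu : IsUnit (algebraMap A C f) := IsLocalization.Away.algebraMap_isUnit f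
  obtain ⟨n, a, h⟩ := IsLocalization.Away.surj f c
  have h1 : algebraMap (A ⧸ I) D (Ideal.Quotient.mk I a) = 0 := by
    have h2 : q (c * algebraMap A C f ^ n) = 0 := by
      rw [map_mul]
      have : q c = 0 := hc
      rw [this, zero_mul]
    rw [← hq, ← h]
    exact h2
  rw [IsLocalization.map_eq_zero_iff (Submonoid.powers (Ideal.Quotient.mk I f))] at h1
  obtain ⟨⟨_, m, rfl⟩, hm⟩ := h1
  have h2 : f ^ m * a ∈ I := by
    rw [← Ideal.Quotient.eq_zero_iff_mem, map_mul, map_pow]; exact hm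
  rw [Ideal.mem_span_singleton] at h2
  obtain ⟨a', ha'⟩ := h2
  have h3 : algebraMap R C π ∣ algebraMap A C f ^ m * (c * algebraMap A C f ^ n) := by
    rw [h, ← map_pow, ← map_mul, ha', map_mul, ← IsScalarTower.algebraMap_apply]
    exact dvd_mul_right _ _
  have h4 : algebraMap A C f ^ m * (c * algebraMap A C f ^ n) = algebraMap A C f ^ (m + n) * c := by ring
  rw [h4] at h3
  exact ((hfu.pow (m + n)).dvd_mul_left).1 h3

end ext

variable {R : Type u} [CommRing R] [IsDomain R] [IsDiscreteValuationRing R]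
  [IsAlgClosed (IsLocalRing.ResidueField R)] {K : Type u} [Field K] [Algebra R K] [IsFractionRing R K]
  {G : Over (Spec (CommRingCat.of R))} [GrpObj G] (c : Chart G (𝟙 (Spec (CommRingCat.of R))))
  (e : Red.bc (sK R K) G ≅ Red.Gm (Spec (CommRingCat.of K))) [IsMonHom e.hom]

/-- the residue field -/
local notation "κ" => IsLocalRing.ResidueField R

omit [IsAlgClosed κ] in
/-- the coordinate of a point, by extension to the localization -/
theorem ext_eq_coM {π : R} (hπ : Irreducible π) (f : c.A) (x : (Localization.Away f)ˣ) (N : ℕ) (x₀ : c.A)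
    (hx : algebraMap c.A (Localization.Away f) x₀ = algebraMap R (Localization.Away f) π ^ N * x)
    (hαx : (univM c e).hom x₀ = LaurentPolynomial.C (algebraMap R K π) ^ N * LaurentPolynomial.T 1)
    (g : Pt R c.A R) (hg : IsUnit (g.hom f)) :
    algebraMap R K (extP f g.hom hg x) = coM c e (Pt.map (Algebra.ofId R K) g) := by
  have hp0 : algebraMap R K π ≠ 0 := by
    rw [Ne, FaithfulSMul.algebraMap_eq_zero_iff]; exact hπ.ne_zero
  have h1 := congrArg (fun z => algebraMap R K (extP f g.hom hg z)) hx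
  simp only [extP_algebraMap, map_mul, map_pow, AlgHom.commutes] at h1
  have h2 : algebraMap R K (g.hom x₀) = GmAlg.aev (coM c e (Pt.map (Algebra.ofId R K) g)) ((univM c e).hom x₀) :=
    hom_apply_M c e (Pt.map (Algebra.ofId R K) g) x₀
  rw [hαx, map_mul, map_pow, GmAlg.aev_T, zpow_one] at h2
  have h3 : (GmAlg.aev (coM c e (Pt.map (Algebra.ofId R K) g)) : K[T;T⁻¹] →ₐ[K] K)
      (LaurentPolynomial.C (algebraMap R K π)) = algebraMap R K π := GmAlg.aev_C _ _
  rw [h3, h1] at h2
  exact mul_left_cancel₀ (pow_ne_zero N hp0) h2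

set_option maxHeartbeats 1000000 in
theorem not_dvd [IsAdicComplete (IsLocalRing.maximalIdeal R) R] [Algebra.FormallySmooth R c.A]
    [IsNoetherianRing c.A] [IsDomain c.A]
    {π : R} (hπ : Irreducible π) (f : c.A) (hf : ∃ a, f * f - f = algebraMap R c.A π * a)
    (hC : Prime (algebraMap R (Localization.Away f) π))
    (hD : IsDomain (Localization.Away (Ideal.Quotient.mk (Ideal.span {algebraMap R c.A π}) f)))
    (h1 : (1 : Pt R c.A κ).hom f ≠ 0)
    (x : (Localization.Away f)ˣ) (N : ℕ) (x₀ : c.A)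
    (hx : algebraMap c.A (Localization.Away f) x₀ = algebraMap R (Localization.Away f) π ^ N * x)
    (hαx : (univM c e).hom x₀ = LaurentPolynomial.C (algebraMap R K π) ^ N * LaurentPolynomial.T 1)
    (hx1 : (x : Localization.Away f) ≠ 1)
    (ρ : Pt R c.A κ[T;T⁻¹]) (hE : algebraMap R κ[T;T⁻¹] π = 0)
    (hρ : ∀ a b : κˣ, Pt.map ((GmAlg.aev (a * b) : κ[T;T⁻¹] →ₐ[κ] κ).restrictScalars R) ρ =
      Pt.map ((GmAlg.aev a : κ[T;T⁻¹] →ₐ[κ] κ).restrictScalars R) ρ *
        Pt.map ((GmAlg.aev b : κ[T;T⁻¹] →ₐ[κ] κ).restrictScalars R) ρ)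
    (himm : IsOpenImmersion (Spec.map (CommRingCat.ofHom (CompSch2.barE c ρ hE)))) :
    ¬ algebraMap R (Localization.Away f) π ∣ x - 1 := by
  intro hdvd
  have hf0 : f ≠ 0 := by
    rintro rfl
    exact h1 (map_zero _)
  have hdom : IsDomain (Localization.Away f) :=
    IsLocalization.isDomain_localization (powers_le_nonZeroDivisors_of_noZeroDivisors hf0)
  have hnoe : IsNoetherianRing (Localization.Away f) :=
    IsLocalization.isNoetherianRing (Submonoid.powers f) (Localization.Away f) inferInstance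
  obtain ⟨n, y, hy, hxy⟩ := WfDvdMonoid.max_power_factor' (sub_ne_zero.2 hx1) hC.not_isUnit
  have hn : n ≠ 0 := by
    rintro rfl
    rw [pow_zero, one_mul] at hxy
    exact hy (hxy ▸ hdvd)
  have hdomL : IsDomain κ[T;T⁻¹] := inferInstance
  have hρ1 : Pt.map ((GmAlg.aev (1 : κˣ) : κ[T;T⁻¹] →ₐ[κ] κ).restrictScalars R) ρ = 1 := by
    have := hρ 1 1
    rw [mul_one] at this
    exact left_eq_mul.1 this
  have hρf : ρ.hom f = 1 := by
    obtain ⟨a, ha⟩ := hf
    have h2 := congrArg ρ.hom ha
    rw [map_sub, map_mul, map_mul, AlgHom.commutes, hE, zero_mul] at h2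
    have h3 : ρ.hom f * (ρ.hom f - 1) = 0 := by rw [mul_sub, mul_one, h2]
    rcases mul_eq_zero.1 h3 with h4 | h4
    · exfalso
      apply h1
      rw [← hρ1, Pt.map_hom_apply, h4, map_zero]
    · exact sub_eq_zero.1 h4
  have hρu : IsUnit (ρ.hom f) := by rw [hρf]; exact isUnit_one
  let ρC : Localization.Away f →ₐ[R] κ[T;T⁻¹] := extP f ρ.hom hρu
  -- the points
  have hunit : ∀ (g : Pt R c.A R) (a : κˣ),
      Pt.map (Algebra.ofId R κ) g = Pt.map ((GmAlg.aev a : κ[T;T⁻¹] →ₐ[κ] κ).restrictScalars R) ρ →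
      IsUnit (g.hom f) := by
    intro g a h
    rw [← IsLocalRing.residue_ne_zero_iff_isUnit]
    have h2 : IsLocalRing.residue R (g.hom f) = (GmAlg.aev a : κ[T;T⁻¹] →ₐ[κ] κ) (ρ.hom f) :=
      congrArg (fun z : Pt R c.A κ => z.hom f) h
    rw [h2, hρf, map_one]
    exact one_ne_zero
  have hval : ∀ (g : Pt R c.A R) (a : κˣ)
      (h : Pt.map (Algebra.ofId R κ) g = Pt.map ((GmAlg.aev a : κ[T;T⁻¹] →ₐ[κ] κ).restrictScalars R) ρ),
      IsLocalRing.residue R (extP f g.hom (hunit g a h) y) = (GmAlg.aev a : κ[T;T⁻¹] →ₐ[κ] κ) (ρC y) := by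
    intro g a h
    have h2 : (Algebra.ofId R κ).comp (extP f g.hom (hunit g a h)) =
        ((GmAlg.aev a : κ[T;T⁻¹] →ₐ[κ] κ).restrictScalars R).comp ρC := by
      apply algHom_ext_away
      intro b
      rw [AlgHom.comp_apply, AlgHom.comp_apply, extP_algebraMap, extP_algebraMap]
      exact congrArg (fun z : Pt R c.A κ => z.hom b) h
    exact DFunLike.congr_fun h2 y
  have hmul : ∀ a b : κˣ, (GmAlg.aev (a * b) : κ[T;T⁻¹] →ₐ[κ] κ) (ρC y) =
      (GmAlg.aev a : κ[T;T⁻¹] →ₐ[κ] κ) (ρC y) + (GmAlg.aev b : κ[T;T⁻¹] →ₐ[κ] κ) (ρC y) := by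
    intro a b
    obtain ⟨ga, hga⟩ := Comp.exists_lift
      (Pt.map ((GmAlg.aev a : κ[T;T⁻¹] →ₐ[κ] κ).restrictScalars R) ρ).hom
    obtain ⟨gb, hgb⟩ := Comp.exists_lift
      (Pt.map ((GmAlg.aev b : κ[T;T⁻¹] →ₐ[κ] κ).restrictScalars R) ρ).hom
    have hga' : Pt.map (Algebra.ofId R κ) (Pt.mk ga : Pt R c.A R) = _ := hga
    have hgb' : Pt.map (Algebra.ofId R κ) (Pt.mk gb : Pt R c.A R) = _ := hgb
    have hgab : Pt.map (Algebra.ofId R κ) ((Pt.mk ga : Pt R c.A R) * Pt.mk gb) =
        Pt.map ((GmAlg.aev (a * b) : κ[T;T⁻¹] →ₐ[κ] κ).restrictScalars R) ρ := by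
      rw [Pt.map_mul, hρ]
      exact congrArg₂ (· * ·) hga' hgb'
    rw [← hval _ _ hga', ← hval _ _ hgb', ← hval _ _ hgab, ← map_add]
    have e1 := ext_eq_coM c e hπ f x N x₀ hx hαx (Pt.mk ga) (hunit _ _ hga')
    have e2 := ext_eq_coM c e hπ f x N x₀ hx hαx (Pt.mk gb) (hunit _ _ hgb')
    have e3 := ext_eq_coM c e hπ f x N x₀ hx hαx ((Pt.mk ga : Pt R c.A R) * Pt.mk gb) (hunit _ _ hgab)
    rw [Pt.map_mul, coM_mul, Units.val_mul, ← e1, ← e2, ← map_mul] at e3
    have e4 := IsFractionRing.injective R K e3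
    have hx' : (x : Localization.Away f) = 1 + algebraMap R (Localization.Away f) π ^ n * y := by
      rw [← hxy]; ring
    rw [hx'] at e4
    simp only [map_add, map_mul, map_pow, map_one, AlgHom.commutes, Algebra.algebraMap_self_apply] at e4
    set Ya := extP f (Pt.mk ga : Pt R c.A R).hom (hunit _ _ hga') y
    set Yb := extP f (Pt.mk gb : Pt R c.A R).hom (hunit _ _ hgb') y
    set Yab := extP f ((Pt.mk ga : Pt R c.A R) * Pt.mk gb).hom (hunit _ _ hgab) y
    have e5 : π ^ n * Yab = π ^ n * (Ya + Yb + π ^ n * (Ya * Yb)) := by linear_combination e4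
    have e6 := mul_left_cancel₀ (pow_ne_zero n hπ.ne_zero) e5
    have hπ0 : IsLocalRing.residue R π = 0 :=
      Comp.residue_eq_zero ((IsDiscreteValuationRing.irreducible_iff_uniformizer π).1 hπ)
    rw [e6, map_add (IsLocalRing.residue R) (Ya + Yb), map_mul, map_pow, hπ0, zero_pow hn, zero_mul, add_zero]
  have hP : ρC y = 0 := CompSch2.laurent_zero _ hmul
  -- the contradiction
  let I := Ideal.span {algebraMap R c.A π}
  let D := Localization.Away (Ideal.Quotient.mk I f)
  have hu : IsUnit (algebraMap (c.A ⧸ I) D (Ideal.Quotient.mk I f)) := IsLocalization.Away.algebraMap_isUnit _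
  let q : Localization.Away f →+* D := IsLocalization.Away.lift (S := Localization.Away f) f
    (g := (algebraMap (c.A ⧸ I) D).comp (Ideal.Quotient.mk I)) hu
  have hqy : q y ≠ 0 := fun h => hy (dvd_of_map_eq_zero f hu y h)
  have hbu : IsUnit (CompSch2.barE c ρ hE (Ideal.Quotient.mk I f)) := hρu
  let ρD : D →+* κ[T;T⁻¹] := IsLocalization.Away.lift (S := D) (Ideal.Quotient.mk I f)
    (g := CompSch2.barE c ρ hE) hbu
  have hρD : ∀ z, ρD (algebraMap (c.A ⧸ I) D z) = CompSch2.barE c ρ hE z := fun z =>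
    IsLocalization.Away.lift_eq _ hbu z
  have hρq : ρD.comp q = (ρC : Localization.Away f →+* κ[T;T⁻¹]) := by
    apply IsLocalization.ringHom_ext (Submonoid.powers f)
    refine RingHom.ext fun b => ?_
    change ρD (q (algebraMap c.A _ b)) = ρC (algebraMap c.A _ b)
    rw [extP_algebraMap]
    have : q (algebraMap c.A _ b) = algebraMap (c.A ⧸ I) D (Ideal.Quotient.mk I b) :=
      IsLocalization.Away.lift_eq f hu b
    rw [this, hρD]
    rfl
  have h5 : ρD (q y) = 0 := by
    have := DFunLike.congr_fun hρq y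
    exact this.trans hP
  have himm2 : IsOpenImmersion (Spec.map (CommRingCat.ofHom (algebraMap (c.A ⧸ I) D))) :=
    IsOpenImmersion.of_isLocalization (Ideal.Quotient.mk I f)
  have hcomp : Spec.map (CommRingCat.ofHom ρD) ≫ Spec.map (CommRingCat.ofHom (algebraMap (c.A ⧸ I) D)) =
      Spec.map (CommRingCat.ofHom (CompSch2.barE c ρ hE)) := by
    rw [← Spec.map_comp, ← CommRingCat.ofHom_comp]
    congr 2
    exact RingHom.ext hρD
  have himm3 : IsOpenImmersion (Spec.map (CommRingCat.ofHom ρD) ≫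
      Spec.map (CommRingCat.ofHom (algebraMap (c.A ⧸ I) D))) := by rw [hcomp]; exact himm
  have himm4 : IsOpenImmersion (Spec.map (CommRingCat.ofHom ρD)) :=
    IsOpenImmersion.of_comp (Spec.map (CommRingCat.ofHom ρD))
      (Spec.map (CommRingCat.ofHom (algebraMap (c.A ⧸ I) D)))
  have hfl : Flat (Spec.map (CommRingCat.ofHom ρD)) := inferInstance
  have hfl2 : ρD.Flat := (HasRingHomProperty.Spec_iff (P := @Flat)).1 hfl
  algebraize [ρD]
  have hreg := Module.Flat.isSMulRegular_of_isRegular (M := κ[T;T⁻¹]) (IsRegular.of_ne_zero hqy : IsRegular (q y))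
  have h6 : (q y) • (1 : κ[T;T⁻¹]) = (q y) • (0 : κ[T;T⁻¹]) := by
    rw [smul_zero, Algebra.smul_def, mul_one]
    exact h5
  exact one_ne_zero (hreg h6)

end K486.GmCase
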