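import Groth.Agent.Neron.K486.HomCrit
import Groth.Agent.Neron.K486.GmCase

/-!
# Affine smooth models of the multiplicative group
-/

set_option autoImplicit false
universe u

open CategoryTheory MonoidalCategory CartesianMonoidalCategory MonObj GrpObj AlgebraicGeometry Limits
open scoped TensorProduct Polynomial LaurentPolynomial

namespace K486.GmModel

open Groth.Agent.Sga3B Groth.Agent.Sga3B.Cell Groth.Agent.Sga3B.PinMod Groth.Agent.Sga3B.DSPts
  K486.ModelPts K486.CoPts K486.CoFlat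

section hom

variable {R : Type u} [CommRing R]
variable {G : Over (Spec (CommRingCat.of R))} [GrpObj G] (c : Chart G (𝟙 (Spec (CommRingCat.of R))))

/-- `Spec R[T;T⁻¹] → 𝔾_m` -/
noncomputable def t₀ (R : Type u) [CommRing R] :
    tB (𝟙 (Spec (CommRingCat.of R))) R[T;T⁻¹] ⟶ Red.Gm (Spec (CommRingCat.of R)) :=
  GmLine.gmPt _ (GmLine.tU R)

instance isIso_t₀_left : IsIso (t₀ R).left := by
  have h := GmLine.isPullback_gm (𝟙 (Spec (CommRingCat.of R)))
  exact h.isIso_fst_of_isIso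

instance isIso_t₀ : IsIso (t₀ R) := by
  have : IsIso ((Over.forget _).map (t₀ R)) := isIso_t₀_left
  exact isIso_of_reflects_iso (t₀ R) (Over.forget _)

/-- The morphism `𝔾_m → G` given by `φ : A → R[T;T⁻¹]`. -/
noncomputable def jmap (φ : c.A →ₐ[R] R[T;T⁻¹]) : Red.Gm (Spec (CommRingCat.of R)) ⟶ G :=
  inv (t₀ R) ≫ c.pts R[T;T⁻¹] (Pt.mk φ)

/-- the unit attached to a point of `𝔾_m` over `Spec B` -/
noncomputable def unPt {B : Type u} [CommRing B] [Algebra R B]
    (x : tB (𝟙 (Spec (CommRingCat.of R))) B ⟶ Red.Gm (Spec (CommRingCat.of R))) : Bˣ :=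
  Units.map ((Scheme.ΓSpecIso (CommRingCat.of B)).hom.hom : Γ(Spec (CommRingCat.of B), ⊤) →* B)
    (GmPts.unitOfPt x)

lemma unPt_mul {B : Type u} [CommRing B] [Algebra R B]
    (x y : tB (𝟙 (Spec (CommRingCat.of R))) B ⟶ Red.Gm (Spec (CommRingCat.of R))) :
    unPt (x * y) = unPt x * unPt y := by
  rw [unPt, GmPts.unitOfPt_mul, _root_.map_mul]; rfl

lemma gmPt_unPt {B : Type u} [CommRing B] [Algebra R B]
    (x : tB (𝟙 (Spec (CommRingCat.of R))) B ⟶ Red.Gm (Spec (CommRingCat.of R))) :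
    GmLine.gmPt _ (unPt x) = x := by
  apply GmPts.gmFn_injective
  change Red.gmFn _ = Red.gmFn _
  rw [GmLine.gmFn_gmPt]
  exact fnOf_unFn (𝟙 (Spec (CommRingCat.of R))) (Red.gmFn x)

lemma comp_jmap (φ : c.A →ₐ[R] R[T;T⁻¹]) {B : Type u} [CommRing B] [Algebra R B]
    (x : tB (𝟙 (Spec (CommRingCat.of R))) B ⟶ Red.Gm (Spec (CommRingCat.of R))) :
    x ≫ jmap c φ = c.pts B (Pt.mk ((GmAlg.aev (unPt x)).comp φ)) := by
  have h1 : x = tMap _ (GmAlg.aev (unPt x) : R[T;T⁻¹] →ₐ[R] B) ≫ t₀ R := by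
    rw [t₀, GmLine.tMap_gmPt]
    conv_lhs => rw [← gmPt_unPt x]
    congr 1
    ext
    refine Eq.trans ?_ (GmAlg.aev_T (R := R) (unPt x) 1).symm
    rw [zpow_one]
  conv_lhs => rw [h1]
  rw [jmap, Category.assoc, IsIso.hom_inv_id_assoc, c.pts_nat]
  rfl

instance isIso_p : IsIso c.p := c.isPullback.isIso_fst_of_isIso

lemma isIso_jmap (φ : c.A →ₐ[R] R[T;T⁻¹]) (h : Function.Bijective φ) : IsIso (jmap c φ) := by
  have h1 : (jmap c φ).left = (inv (t₀ R)).left ≫ Spec.map (CommRingCat.ofHom (φ : c.A →+* R[T;T⁻¹])) ≫ c.p := by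
    rw [jmap, Over.comp_left, c.pts_left]
    rfl
  have h2 : IsIso (inv (t₀ R)).left := inferInstanceAs (IsIso ((Over.forget _).map (inv (t₀ R))))
  have h4 : IsIso (CommRingCat.ofHom (φ : c.A →+* R[T;T⁻¹])) :=
    (ConcreteCategory.isIso_iff_bijective _).2 h
  have h3 : IsIso ((Over.forget _).map (jmap c φ)) := by
    change IsIso (jmap c φ).left
    rw [h1]
    infer_instance
  exact isIso_of_reflects_iso (jmap c φ) (Over.forget _)

lemma isMonHom_jmap (φ : c.A →ₐ[R] R[T;T⁻¹])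
    (h : ∀ {B : Type u} [CommRing B] [Algebra R B] [Module.Flat R B] (x y : Bˣ),
      (Pt.mk ((GmAlg.aev (x * y)).comp φ) : Pt R c.A B) =
      Pt.mk ((GmAlg.aev x).comp φ) * Pt.mk ((GmAlg.aev y).comp φ)) : IsMonHom (jmap c φ) := by
  apply HomCrit.isMonHom_of_flat
  intro B _ _ _ x y
  rw [comp_jmap, comp_jmap, comp_jmap, ← _root_.map_mul, unPt_mul, h]

end hom

section main

variable {R : Type u} [CommRing R] [IsDomain R] [IsDiscreteValuationRing R]
  [IsAlgClosed (IsLocalRing.ResidueField R)] {K : Type u} [Field K] [Algebra R K] [IsFractionRing R K]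
  {G : Over (Spec (CommRingCat.of R))} [GrpObj G] [Smooth G.hom] (c : Chart G (𝟙 (Spec (CommRingCat.of R))))

/-- the residue field -/
local notation "κ" => IsLocalRing.ResidueField R

include c in
/-- **Affine smooth models of the multiplicative group with special fibre of multiplicative identity component.** -/
theorem main [IsAdicComplete (IsLocalRing.maximalIdeal R) R]
    (e : Red.bc (sK R K) G ≅ Red.Gm (Spec (CommRingCat.of K))) [IsMonHom e.hom]
    (j₀ : Red.Gm (Spec (CommRingCat.of κ)) ⟶ Red.bc (sK R κ) G) [IsMonHom j₀] [IsOpenImmersion j₀.left] :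
    ConnectedSpace ↥(Red.bc (sK R κ) G).left ∧
      ∃ j : Red.Gm (Spec (CommRingCat.of R)) ⟶ G, IsMonHom j ∧ IsIso j := by
  obtain ⟨π, hπ⟩ := IsDiscreteValuationRing.exists_irreducible R
  have hsm : Algebra.Smooth R c.A := CompSch.algebra_smooth c
  have hnoe : IsNoetherianRing c.A := Algebra.FiniteType.isNoetherianRing R c.A
  have hmax : IsLocalRing.maximalIdeal R = Ideal.span {π} :=
    (IsDiscreteValuationRing.irreducible_iff_uniformizer π).1 hπ
  have h0 := Comp.residue_eq_zero hmax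
  have hreg : ∀ a : c.A, algebraMap R c.A π * a = 0 → a = 0 := by
    intro a ha
    have h1 := Module.Flat.isSMulRegular_of_isRegular (M := c.A) (IsRegular.of_ne_zero hπ.ne_zero : IsRegular π)
    apply h1
    change π • a = π • 0
    rw [Algebra.smul_def, ha, smul_zero]
  obtain ⟨f, hf, hC, hD, h1, hconn⟩ := CompSch2.exists_comp c hmax h0 hreg
  have hεf : IsUnit (counit c f) := by
    rw [← IsLocalRing.residue_ne_zero_iff_isUnit]
    have h2 := h1
    rw [algebraMap_counit] at h2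
    exact h2
  have hdomL : IsDomain K[T;T⁻¹] := inferInstance
  have hdomA : IsDomain c.A := (injective_univM c e).isDomain ((univM c e).hom : c.A →+* K[T;T⁻¹])
  obtain ⟨x, N, x₀, hx, hαx, hεx, hx1, hyp⟩ := GmAlg.exists_unit hπ (univM c e).hom (injective_univM c e)
    (fun b => exists_den_univM c e hπ b) f hf (counit c) hεf (eval_univM c e) hC
  -- the point given by `j₀`
  let ρ : Pt R c.A κ[T;T⁻¹] :=
    (u κ[T;T⁻¹] c (Iso.refl (Red.bc (sK R κ) G))).symm (t₀ κ ≫ j₀)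
  have hρu : u κ[T;T⁻¹] c (Iso.refl (Red.bc (sK R κ) G)) ρ = t₀ κ ≫ j₀ := MulEquiv.apply_symm_apply _ _
  have hρa : ∀ a : κˣ, u κ c (Iso.refl (Red.bc (sK R κ) G))
      (Pt.map ((GmAlg.aev a : κ[T;T⁻¹] →ₐ[κ] κ).restrictScalars R) ρ) = GmLine.gmPt _ a ≫ j₀ := by
    intro a
    rw [u_map, hρu, ← Category.assoc, t₀, GmLine.tMap_gmPt]
    congr 2
    ext
    refine (GmAlg.aev_T (R := κ) a 1).trans ?_
    rw [zpow_one]
  have hρ : ∀ a b : κˣ, Pt.map ((GmAlg.aev (a * b) : κ[T;T⁻¹] →ₐ[κ] κ).restrictScalars R) ρ =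
      Pt.map ((GmAlg.aev a : κ[T;T⁻¹] →ₐ[κ] κ).restrictScalars R) ρ *
        Pt.map ((GmAlg.aev b : κ[T;T⁻¹] →ₐ[κ] κ).restrictScalars R) ρ := by
    intro a b
    apply (u κ c (Iso.refl (Red.bc (sK R κ) G))).injective
    have e1 : (GmLine.gmPt (𝟙 (Spec (CommRingCat.of κ))) a * GmLine.gmPt (𝟙 (Spec (CommRingCat.of κ))) b) ≫ j₀ =
        (GmLine.gmPt (𝟙 (Spec (CommRingCat.of κ))) a ≫ j₀) * (GmLine.gmPt (𝟙 (Spec (CommRingCat.of κ))) b ≫ j₀) :=
      MonObj.mul_comp _ _ _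
    rw [_root_.map_mul, hρa, hρa, hρa, ← e1]
    congr 1
    rw [GmLine.gmPt, _root_.map_mul, GmPts.ptOfUnit_mul]
    rfl
  have hE : algebraMap R κ[T;T⁻¹] π = 0 := by
    rw [IsScalarTower.algebraMap_apply R κ κ[T;T⁻¹], h0, _root_.map_zero]
  have himm : IsOpenImmersion (Spec.map (CommRingCat.ofHom (CompSch2.barE c ρ hE))) := by
    have h2 := CompSch2.uE_eq c hmax hE ρ
    rw [hρu, Over.comp_left, ← Iso.comp_inv_eq] at h2
    rw [← h2]
    have h3 : IsIso (t₀ κ).left := isIso_t₀_left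
    infer_instance
  have hnd := GmCase.not_dvd c e hπ f hf hC hD h1 x N x₀ hx hαx hx1 ρ hE hρ himm
  obtain ⟨H, hrel⟩ := hyp hnd
  obtain ⟨φ, hφ⟩ := H.exists_map
  have hrel' := hrel φ hφ
  have hpt : ∀ r : Rˣ, coM c e (Pt.map (Algebra.ofId R K) (Pt.mk ((GmAlg.aev r).comp φ))) =
      Units.map ((Algebra.ofId R K : R →ₐ[R] K) : R →* K) r := fun r => coM_incl c e φ hrel' _ r
  have hinj : Function.Injective (Algebra.ofId R K : R →ₐ[R] K) := IsFractionRing.injective R K
  have hall : ∀ z : c.A →ₐ[R] κ, z f ≠ 0 := by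
    intro z
    obtain ⟨M, hM, hz⟩ := Comp.exists_pow' hmax f hf (Pt.mk z : Pt R c.A κ)
    obtain ⟨g, hg⟩ := Comp.exists_lift z
    have hgz : Pt.map (Algebra.ofId R κ) (Pt.mk g : Pt R c.A R) = Pt.mk z := hg
    have hzM : (Pt.mk z : Pt R c.A κ) ^ M = Pt.map (Algebra.ofId R κ) ((Pt.mk g : Pt R c.A R) ^ M) := by
      rw [← hgz]
      exact (_root_.map_pow (Pt.mapHom (Algebra.ofId R κ)) (Pt.mk g : Pt R c.A R) M).symm
    have hu : IsUnit (((Pt.mk g : Pt R c.A R) ^ M).hom f) := by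
      rw [← IsLocalRing.residue_ne_zero_iff_isUnit]
      have h2 : IsLocalRing.residue R (((Pt.mk g : Pt R c.A R) ^ M).hom f) = (1 : Pt R c.A κ).hom f := by
        rw [← hz, hzM]; rfl
      rw [h2]
      exact h1
    obtain ⟨h, hh⟩ := H.exists_point hφ _ hu
    -- `h : R[T;T⁻¹] → R`
    let r : Rˣ := Units.map (h : R[T;T⁻¹] →* R) (GmLine.tU R)
    have hr : h = GmAlg.aev r := GmAlg.aev_eq h r rfl
    have hco : coM c e (Pt.map (Algebra.ofId R K) (Pt.mk g)) ^ M =
        Units.map ((Algebra.ofId R K : R →ₐ[R] K) : R →* K) r := by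
      rw [← hpt r, ← hr]
      have e1 : (Pt.mk (h.comp φ) : Pt R c.A R) = (Pt.mk g : Pt R c.A R) ^ M := by
        rw [hh]; rfl
      rw [e1]
      have e2 : Pt.map (Algebra.ofId R K) ((Pt.mk g : Pt R c.A R) ^ M) =
          (Pt.map (Algebra.ofId R K) (Pt.mk g : Pt R c.A R)) ^ M :=
        _root_.map_pow (Pt.mapHom (Algebra.ofId R K)) (Pt.mk g : Pt R c.A R) M
      rw [e2]
      let cm : Pt R c.A K →* Kˣ := ⟨⟨coM c e, coM_one c e⟩, coM_mul c e⟩
      exact (_root_.map_pow cm _ M).symm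
    set t : Kˣ := coM c e (Pt.map (Algebra.ofId R K) (Pt.mk g)) with ht
    -- `t` is integral
    have hint : ∀ (t : Kˣ) (r : Rˣ), t ^ M = Units.map ((Algebra.ofId R K : R →ₐ[R] K) : R →* K) r →
        ∃ s : R, algebraMap R K s = t := by
      intro t r h
      apply IsIntegrallyClosed.algebraMap_eq_of_integral
      refine IsIntegral.of_pow hM ?_
      have h2 : (t : K) ^ M = algebraMap R K r := by
        have := congrArg Units.val h
        rw [Units.val_pow_eq_pow_val] at this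
        exact this
      rw [h2]
      exact isIntegral_algebraMap
    obtain ⟨s, hs⟩ := hint t r hco
    obtain ⟨s', hs'⟩ := hint t⁻¹ r⁻¹ (by rw [inv_pow, hco, _root_.map_inv])
    have hss : s * s' = 1 := by
      apply IsFractionRing.injective R K
      rw [_root_.map_mul, hs, hs', _root_.map_one, Units.mul_inv]
    let σ : Rˣ := ⟨s, s', hss, by rw [_root_.mul_comm, hss]⟩
    have hg2 : (Pt.mk g : Pt R c.A R) = Pt.mk ((GmAlg.aev σ).comp φ) := by
      apply Pt.map_injective hinj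
      apply coM_injective c e
      rw [hpt]
      ext
      exact hs.symm
    obtain ⟨b, hb⟩ := H.map_idem hφ
    have hgf : IsUnit (g f) := by
      have h2 : g f = (GmAlg.aev σ : R[T;T⁻¹] →ₐ[R] R) (φ f) := congrArg (fun p : Pt R c.A R => p.hom f) hg2
      rw [h2, hb, _root_.map_add, _root_.map_one, _root_.map_mul, AlgHom.commutes]
      have h4 : π * (GmAlg.aev σ : R[T;T⁻¹] →ₐ[R] R) b ∈ IsLocalRing.maximalIdeal R := by
        rw [hmax]; exact Ideal.mul_mem_right _ _ (Ideal.mem_span_singleton_self π)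
      by_contra hnu
      have h5 := (IsLocalRing.maximalIdeal R).sub_mem ((IsLocalRing.mem_maximalIdeal _).2 hnu) h4
      exact (IsLocalRing.mem_maximalIdeal _).1 h5 (by simp)
    rw [← IsLocalRing.residue_ne_zero_iff_isUnit] at hgf
    rw [← hg]
    exact hgf
  have hf1 := Comp.eq_one_add hmax f hf hall
  exact ⟨hconn hf1, jmap c φ, isMonHom_jmap c φ (fun x y => ptM_mul c e φ hrel' x y),
    isIso_jmap c φ (H.bijective hφ hf1)⟩

end main

end K486.GmModel
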