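import Groth.Agent.Neron.K486.ModelPts
import Groth.Agent.Sga3B.Pts
import Mathlib.AlgebraicGeometry.Morphisms.Flat

/-!
# A morphism out of a flat affine group is a homomorphism if it is so on flat affine points
-/

set_option autoImplicit false
universe u

open CategoryTheory MonoidalCategory CartesianMonoidalCategory MonObj GrpObj AlgebraicGeometry Limits

namespace K486.HomCrit

open Groth.Agent.Sga3B Groth.Agent.Sga3B.Cell Groth.Agent.Sga3B.PinMod

variable {R : Type u} [CommRing R]

/-- A flat affine scheme over `Spec R` is the spectrum of a flat algebra. -/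
theorem exists_iso (T : Over (Spec (CommRingCat.of R))) [IsAffineHom T.hom] [hfl : Flat T.hom] :
    ∃ (B : Type u) (_ : CommRing B) (_ : Algebra R B) (_ : Module.Flat R B),
      Nonempty (tB (𝟙 (Spec (CommRingCat.of R))) B ≅ T) := by
  have hT : IsAffine T.left := isAffine_of_isAffineHom T.hom
  let B : Type u := Γ(T.left, ⊤)
  let φ : CommRingCat.of R ⟶ Γ(T.left, ⊤) := (Scheme.ΓSpecIso (CommRingCat.of R)).inv ≫ T.hom.appTop
  let _ : Algebra R B := φ.hom.toAlgebra
  have h1 : Spec.map φ = T.left.isoSpec.inv ≫ T.hom := by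
    rw [← Scheme.isoSpec_inv_naturality, Scheme.isoSpec_Spec_inv, ← Spec.map_comp]
  have h2 : Flat (Spec.map φ) := by rw [h1]; infer_instance
  have h3 : Module.Flat R B := (HasRingHomProperty.Spec_iff (P := @Flat)).1 h2
  refine ⟨B, inferInstance, inferInstance, h3, ⟨Over.isoMk T.left.isoSpec.symm ?_⟩⟩
  refine Eq.trans ?_ (Category.comp_id _).symm
  exact h1.symm

theorem isMonHom_of_flat {G H : Over (Spec (CommRingCat.of R))} [GrpObj G] [GrpObj H] [IsAffineHom G.hom]
    [Flat G.hom] (j : G ⟶ H)
    (h : ∀ (B : Type u) [CommRing B] [Algebra R B] [Module.Flat R B]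
      (x y : tB (𝟙 (Spec (CommRingCat.of R))) B ⟶ G), (x * y) ≫ j = (x ≫ j) * (y ≫ j)) : IsMonHom j := by
  have h1 : IsAffineHom (G ⊗ G).hom := by
    change IsAffineHom (pullback.fst G.hom G.hom ≫ G.hom)
    have : IsAffineHom (pullback.fst G.hom G.hom) :=
      MorphismProperty.pullback_fst (P := @IsAffineHom) G.hom G.hom inferInstance
    infer_instance
  have h2 : Flat (G ⊗ G).hom := by
    change Flat (pullback.fst G.hom G.hom ≫ G.hom)
    infer_instance
  obtain ⟨B, _, _, _, ⟨i⟩⟩ := exists_iso (G ⊗ G)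
  apply Pts.isMonHom_of_universal
  rw [← cancel_epi i.hom, ← Category.assoc, MonObj.comp_mul, MonObj.comp_mul, h, Category.assoc, Category.assoc]

end K486.HomCrit
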