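import Groth.Agent.Neron.K486.Glue
import Groth.Agent.Ega43.LimitDescend

/-!
# The extension property passes to limits
-/

set_option autoImplicit false
set_option backward.isDefEq.respectTransparency false
universe u
open CategoryTheory CategoryTheory.Limits AlgebraicGeometry

namespace K486.NMP

open Groth.Agent.Ega43.LimitDescend

variable {S : Scheme.{u}}

lemma extU_iff_extJ_snd {Y N : Scheme.{u}} (U : S.Opens) (p : Y ⟶ S) (q : N ⟶ S) :
    ExtU U p q ↔ ExtJ (pullback.snd U.ι p) p q := by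
  have : pullback.snd U.ι p = ((pullbackSymmetry U.ι p).hom ≫
      (pullbackRestrictIsoRestrict p U).hom) ≫ (p ⁻¹ᵁ U).ι := by
    rw [Category.assoc, pullbackRestrictIsoRestrict_hom_ι, pullbackSymmetry_hom_comp_fst]
  rw [this, extJ_iso_comp_iff]
  rfl

/-- The extension property passes to cofiltered limits of quasi-compact quasi-separated schemes
with affine transition maps. -/
theorem extU_of_isLimit {J : Type u} [SmallCategory J] [IsCofiltered J] (E : J ⥤ Scheme.{u})
    (c : Cone E) (hc : IsLimit c) [∀ {i j : J} (φ : i ⟶ j), IsAffineHom (E.map φ)]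
    [∀ j, CompactSpace (E.obj j)] [∀ j, QuasiSeparatedSpace (E.obj j)]
    (t : ∀ j, E.obj j ⟶ S) (ht : ∀ {i j : J} (φ : i ⟶ j), E.map φ ≫ t j = t i)
    (p : c.pt ⟶ S) (hp : ∀ j, c.π.app j ≫ t j = p)
    (U : S.Opens) [QuasiCompact U.ι] {N : Scheme.{u}} (q : N ⟶ S)
    [LocallyOfFinitePresentation q] (H : ∀ j, ExtU U (t j) q) : ExtU U p q := by
  rw [extU_iff_extJ_snd]
  have H' := fun j => (extU_iff_extJ_snd U (t j) q).1 (H j)
  have hX : IsPullback (pullback.fst U.ι p) (pullback.snd U.ι p) U.ι p :=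
    IsPullback.of_hasPullback _ _
  have ht' : ∀ {i j : J} (φ : i ⟶ j), (pbDiagram t ht U.ι).map φ ≫
      (pullback.fst U.ι (t j) ≫ U.ι) = pullback.fst U.ι (t i) ≫ U.ι := fun φ ↦ by
    rw [← Category.assoc]
    congr 1
    exact pbDiagram_map_fst t ht U.ι φ
  have hl := isLimitPbCone t ht U.ι c p hp _ _ hX hc
  have hmapsnd : ∀ {i j : J} (φ : i ⟶ j), (pbDiagram t ht U.ι).map φ ≫
      pullback.snd U.ι (t j) = pullback.snd U.ι (t i) ≫ E.map φ := fun φ => by simp
  have hπsnd : ∀ j, (pbCone t ht U.ι c p hp _ _ hX).π.app j ≫ pullback.snd U.ι (t j) =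
      pullback.snd U.ι p ≫ c.π.app j := fun j => by simp
  intro h hh
  -- existence
  have key : ∃ (j : J) (g : pullback U.ι (t j) ⟶ N),
      (pbCone t ht U.ι c p hp _ _ hX).π.app j ≫ g = h ∧
      g ≫ q = pullback.fst U.ι (t j) ≫ U.ι := by
    refine Scheme.exists_π_app_comp_eq_of_locallyOfFinitePresentation
      (pbDiagram t ht U.ι) (toConst (fun j ↦ pullback.fst U.ι (t j) ≫ U.ι) ht') q
      (pbCone t ht U.ι c p hp _ _ hX) hl h ?_
    apply NatTrans.ext
    funext j
    change (pbCone t ht U.ι c p hp _ _ hX).π.app j ≫ pullback.fst U.ι (t j) ≫ U.ι = h ≫ q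
    rw [hh, ← Category.assoc, pbCone_π_fst, pullback.condition]
  obtain ⟨j, g, hg1, hg2⟩ := key
  obtain ⟨g', ⟨hg'1, hg'2⟩, -⟩ := H' j g (by rw [hg2, pullback.condition])
  refine ⟨c.π.app j ≫ g', ⟨by rw [Category.assoc, hg'1, hp], ?_⟩, ?_⟩
  · rw [← reassoc_of% hπsnd, hg'2, hg1]
  -- uniqueness
  · rintro g₂ ⟨h1, h2⟩
    obtain ⟨i, g₂', hg₂'1, hg₂'2⟩ := Scheme.exists_π_app_comp_eq_of_locallyOfFinitePresentation
      E (toConst t ht) q c hc g₂ (by
        apply NatTrans.ext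
        funext k
        change c.π.app k ≫ t k = g₂ ≫ q
        rw [hp, h1])
    change g₂' ≫ q = t i at hg₂'2
    -- a common stage
    have e1 : (pbCone t ht U.ι c p hp _ _ hX).π.app i ≫ pullback.snd U.ι (t i) ≫ g₂' =
        (pbCone t ht U.ι c p hp _ _ hX).π.app j ≫ pullback.snd U.ι (t j) ≫ g' := by
      rw [hg'2, hg1, reassoc_of% hπsnd, hg₂'1, h2]
    obtain ⟨k, a, b, hab⟩ := Scheme.exists_hom_hom_comp_eq_comp_of_locallyOfFiniteType
      (pbDiagram t ht U.ι) (toConst (fun j ↦ pullback.fst U.ι (t j) ≫ U.ι) ht') q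
      (pbCone t ht U.ι c p hp _ _ hX) hl (i := i) (pullback.snd U.ι (t i) ≫ g₂') (by
        change pullback.fst U.ι (t i) ≫ U.ι = _
        rw [Category.assoc, hg₂'2, pullback.condition]) (j := j)
      (pullback.snd U.ι (t j) ≫ g') (by
        change pullback.fst U.ι (t j) ≫ U.ι = _
        rw [Category.assoc, hg'1, pullback.condition]) e1
    rw [reassoc_of% hmapsnd, reassoc_of% hmapsnd] at hab
    have e2 : E.map a ≫ g₂' = E.map b ≫ g' := by
      refine (H' k (pullback.snd U.ι (t k) ≫ E.map b ≫ g') ?_).unique ⟨?_, hab⟩ ⟨?_, rfl⟩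
      · rw [Category.assoc, Category.assoc, hg'1, ht]
      · rw [Category.assoc, hg₂'2, ht]
      · rw [Category.assoc, hg'1, ht]
    rw [← hg₂'1, ← c.w a, Category.assoc, e2, ← Category.assoc, c.w b]

end K486.NMP
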