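import Groth.Agent.Neron.K486.LimExt
import Groth.Agent.CalgA.LimFP2
import Groth.Agent.Sga3B.LocLim789
import Groth.Agent.Sga3.H515.LimSmooth

/-!
# The extension property passes to localizations
-/

set_option autoImplicit false
set_option backward.isDefEq.respectTransparency false
universe u
open CategoryTheory CategoryTheory.Limits AlgebraicGeometry

namespace K486.NMP

open Groth.Agent.Ega43.LimitDescend Groth.Agent.CalgA.LimFP Groth.Agent.Sga3B.LocLim789

variable {S : Scheme.{u}}

/-- If the extension property holds for all smooth `S`-schemes, it holds for all schemes which are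
smooth over a limit of smooth `S`-schemes. -/
theorem extU_of_smooth_over_limit {I : Type u} [SmallCategory I] [IsCofiltered I]
    (D : I ⥤ Scheme.{u}) (c : Cone D) (hc : IsLimit c)
    [∀ {i j : I} (φ : i ⟶ j), IsAffineHom (D.map φ)]
    [∀ j, CompactSpace (D.obj j)] [∀ j, QuasiSeparatedSpace (D.obj j)]
    (b : ∀ j, D.obj j ⟶ S) (hb : ∀ {i j : I} (φ : i ⟶ j), D.map φ ≫ b j = b i)
    [∀ j, Smooth (b j)]
    (b' : c.pt ⟶ S) (hb' : ∀ j, c.π.app j ≫ b j = b')
    {Y : Scheme.{u}} (f : Y ⟶ c.pt) [Smooth f] [QuasiCompact f] [QuasiSeparated f]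
    (U : S.Opens) [QuasiCompact U.ι] {N : Scheme.{u}} (q : N ⟶ S)
    [LocallyOfFinitePresentation q]
    (H : ∀ (X : Scheme.{u}) (t : X ⟶ S), Smooth t → ExtU U t q) : ExtU U (f ≫ b') q := by
  obtain ⟨j, ⟨M⟩⟩ := Mdl.exists_model hc f
  have := M.lfp
  have := M.qc
  have := M.qs
  obtain ⟨k, hk⟩ := Groth.Agent.Sga3.H515.LimSmooth.descendsLim_smooth
    (Over.forget j ⋙ D) (overCone c j) (isLimitOverCone c hc j) (fun k => D.map k.hom)
    (fun φ => overT_w D j φ) M.f (c.π.app j) (fun k => by simp) M.p f M.h ‹_›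
  let M' : Mdl f k.left := M.bc k.hom
  have hsm : Smooth M'.f := hk
  have := M'.qc
  have := M'.qs
  let E : Over k.left ⥤ Scheme.{u} := bcDiagram D M'.f
  have e1 : ∀ {i l : Over k.left} (φ : i ⟶ l), IsAffineHom (E.map φ) := fun φ =>
    isAffineHom_bcDiagram_map φ
  have e2 : ∀ l, CompactSpace (E.obj l) := fun l => compactSpace_bcDiagram_obj l
  have e3 : ∀ l, QuasiSeparatedSpace (E.obj l) := fun l => quasiSeparatedSpace_bcDiagram_obj l
  refine extU_of_isLimit (J := Over k.left) E (bcCone M'.h) (isLimitBcCone hc M'.h)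
    (fun l => pullback.snd M'.f (D.map l.hom) ≫ b l.left) ?_ (f ≫ b') ?_ U q ?_
  · intro i l φ
    have : E.map φ ≫ pullback.snd M'.f (D.map l.hom) =
      pullback.snd M'.f (D.map i.hom) ≫ D.map φ.left := (isPullback_bcDiagram_map D M'.f φ).w
    rw [reassoc_of% this, hb]
  · intro l
    have : (bcCone M'.h).π.app l ≫ pullback.snd M'.f (D.map l.hom) = f ≫ c.π.app l.left :=
      pullback.lift_snd _ _ _
    rw [reassoc_of% this, hb']
  · intro l
    apply H
    infer_instance

/-- If the extension property holds for all smooth `S`-schemes, it holds for all schemes which are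
smooth and quasi-compact over a localization of an affine scheme smooth over `S`. -/
theorem extU_of_smooth_over_localization {A : Type u} [CommRing A] (M : Submonoid A)
    (K : Type u) [CommRing K] [Algebra A K] [IsLocalization M K]
    (b : Spec (CommRingCat.of A) ⟶ S) [Smooth b]
    {Y : Scheme.{u}} (f : Y ⟶ Spec (CommRingCat.of K)) [Smooth f] [QuasiCompact f]
    [QuasiSeparated f]
    (U : S.Opens) [QuasiCompact U.ι] {N : Scheme.{u}} (q : N ⟶ S)
    [LocallyOfFinitePresentation q]
    (H : ∀ (X : Scheme.{u}) (t : X ⟶ S), Smooth t → ExtU U t q) :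
    ExtU U (f ≫ Spec.map (CommRingCat.ofHom (algebraMap A K)) ≫ b) q := by
  have h1 : ∀ {i j : (Idx M)ᵒᵖ} (φ : i ⟶ j), IsAffineHom ((schDiagram M).map φ) := fun φ => by
    dsimp [schDiagram]; infer_instance
  have h2 : ∀ j, CompactSpace ((schDiagram M).obj j) := fun j => by
    dsimp [schDiagram]; infer_instance
  have h3 : ∀ j, QuasiSeparatedSpace ((schDiagram M).obj j) := fun j => by
    dsimp [schDiagram]; infer_instance
  have hsm : ∀ j : (Idx M)ᵒᵖ, Smooth (Spec.map (CommRingCat.ofHom
      (algebraMap A (Stage j.unop))) ≫ b) := by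
    intro j
    have : IsOpenImmersion (Spec.map (CommRingCat.ofHom (algebraMap A (Stage j.unop)))) :=
      IsOpenImmersion.of_isLocalization (den j.unop)
    infer_instance
  refine extU_of_smooth_over_limit (schDiagram M) (schCone (M := M) K) (isLimitSchCone (M := M) K)
    (fun j => Spec.map (CommRingCat.ofHom (algebraMap A (Stage j.unop))) ≫ b) ?_
    (Spec.map (CommRingCat.ofHom (algebraMap A K)) ≫ b) ?_ f U q H
  · intro i j φ
    rw [← Category.assoc]
    congr 1
    change Spec.map (CommRingCat.ofHom (trans φ.unop.le)) ≫ _ = _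
    rw [← Spec.map_comp, ← CommRingCat.ofHom_comp]
    congr 2
    ext r
    exact trans_algebraMap φ.unop.le r
  · intro j
    rw [← Category.assoc]
    congr 1
    change Spec.map (CommRingCat.ofHom (toRes K j.unop)) ≫ _ = _
    rw [← Spec.map_comp, ← CommRingCat.ofHom_comp]
    congr 2
    ext r
    exact toRes_algebraMap K _ r

/-- The extension property may be checked on affine opens of the source. -/
theorem extU_of_affine {Y N : Scheme.{u}} (U : S.Opens) (p : Y ⟶ S) (q : N ⟶ S)
    (H : ∀ (W : Scheme.{u}) (i : W ⟶ Y), IsAffine W → IsOpenImmersion i → ExtU U (i ≫ p) q) :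
    ExtU U p q := by
  refine extU_of_cover U p q Y.affineCover (fun i => H _ _ inferInstance inferInstance) ?_
  intro i k
  refine uniqU_of_cover U _ q (pullback (Y.affineCover.f i) (Y.affineCover.f k)).affineCover ?_
  intro l
  have := H _ ((pullback (Y.affineCover.f i) (Y.affineCover.f k)).affineCover.f l ≫
    pullback.fst (Y.affineCover.f i) (Y.affineCover.f k) ≫ Y.affineCover.f i)
    inferInstance inferInstance
  rw [Category.assoc, Category.assoc] at this
  exact ((extU_iff _ _ _).1 this).1

end K486.NMP
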