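import Groth.Prelude.Def_Neron

/-!
# Reformulations of the extension property along a base change
-/

set_option autoImplicit false
universe u
open CategoryTheory CategoryTheory.Limits AlgebraicGeometry

namespace K486.NMP

variable {S : Scheme.{u}}

/-- Every morphism `h : V ⟶ N` over `S` extends uniquely along `j : V ⟶ Y` to a morphism over `S`. -/
def ExtJ {V Y N : Scheme.{u}} (j : V ⟶ Y) (p : Y ⟶ S) (q : N ⟶ S) : Prop :=
  ∀ h : V ⟶ N, h ≫ q = j ≫ p → ∃! g : Y ⟶ N, g ≫ q = p ∧ j ≫ g = h

lemma extJ_iso_comp_iff {V V' Y N : Scheme.{u}} (e : V' ⟶ V) [IsIso e] (j : V ⟶ Y)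
    (p : Y ⟶ S) (q : N ⟶ S) : ExtJ (e ≫ j) p q ↔ ExtJ j p q := by
  constructor
  · intro H h hh
    obtain ⟨g, ⟨hg1, hg2⟩, hg⟩ := H (e ≫ h) (by rw [Category.assoc, hh, Category.assoc])
    refine ⟨g, ⟨hg1, ?_⟩, ?_⟩
    · rw [← cancel_epi e, ← hg2, Category.assoc]
    · rintro g' ⟨h1, h2⟩
      exact hg g' ⟨h1, by rw [Category.assoc, h2]⟩
  · intro H h hh
    obtain ⟨g, ⟨hg1, hg2⟩, hg⟩ := H (inv e ≫ h) (by rw [Category.assoc, hh]; simp)
    refine ⟨g, ⟨hg1, ?_⟩, ?_⟩
    · rw [Category.assoc, hg2]; simp
    · rintro g' ⟨h1, h2⟩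
      exact hg g' ⟨h1, by rw [← h2]; simp⟩

lemma pullback_map_left_fst {T : Scheme.{u}} (i : T ⟶ S) {Y N : Over S} (g : Y ⟶ N) :
    ((Over.pullback i).map g).left ≫ pullback.fst N.hom i =
      pullback.fst Y.hom i ≫ g.left :=
  pullback.lift_fst _ _ _

/-- The key reformulation: base change of morphisms is bijective iff the extension property holds. -/
theorem bijective_iff {T : Scheme.{u}} (i : T ⟶ S) (Y N : Over S) :
    Function.Bijective (fun g : Y ⟶ N => (Over.pullback i).map g) ↔
      ExtJ (pullback.fst Y.hom i) Y.hom N.hom := by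
  constructor
  · intro H h hh
    let φ : (Over.pullback i).obj Y ⟶ (Over.pullback i).obj N :=
      Over.homMk (pullback.lift h (pullback.snd Y.hom i) (by rw [hh, pullback.condition]))
        (pullback.lift_snd _ _ _)
    have hφ : φ.left ≫ pullback.fst N.hom i = h := pullback.lift_fst _ _ _
    have hφ' : φ.left ≫ pullback.snd N.hom i = pullback.snd Y.hom i := pullback.lift_snd _ _ _
    obtain ⟨g, hg⟩ := H.2 φ
    have hg : (Over.pullback i).map g = φ := hg
    refine ⟨g.left, ⟨Over.w g, ?_⟩, ?_⟩
    · rw [← pullback_map_left_fst, hg, hφ]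
    · rintro g' ⟨h1, h2⟩
      have : Over.homMk g' h1 = g := by
        apply H.1
        change (Over.pullback i).map _ = (Over.pullback i).map g
        rw [hg]
        apply Over.OverMorphism.ext
        apply pullback.hom_ext
        · rw [pullback_map_left_fst, hφ]; exact h2
        · rw [hφ']
          exact Over.w ((Over.pullback i).map (Over.homMk g' h1))
      rw [← this]; rfl
  · intro H
    constructor
    · intro g g' hgg
      have hgg : (Over.pullback i).map g = (Over.pullback i).map g' := hgg
      have hh := H (pullback.fst Y.hom i ≫ g.left) (by rw [Category.assoc, Over.w])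
      apply Over.OverMorphism.ext
      apply hh.unique
      · exact ⟨Over.w g, rfl⟩
      · refine ⟨Over.w g', ?_⟩
        rw [← pullback_map_left_fst, ← pullback_map_left_fst, hgg]
    · intro φ
      have hw : φ.left ≫ pullback.snd N.hom i = pullback.snd Y.hom i := Over.w φ
      obtain ⟨g, ⟨hg1, hg2⟩, -⟩ := H (φ.left ≫ pullback.fst N.hom i) (by
        rw [Category.assoc, pullback.condition, reassoc_of% hw, pullback.condition])
      refine ⟨Over.homMk g hg1, ?_⟩
      apply Over.OverMorphism.ext
      apply pullback.hom_ext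
      · change ((Over.pullback i).map _).left ≫ _ = _
        rw [pullback_map_left_fst]; exact hg2
      · rw [hw]
        exact Over.w ((Over.pullback i).map (Over.homMk g hg1))

/-- Version for an open subscheme of the base. -/
theorem bijective_iff_opens (U : S.Opens) (Y N : Over S) :
    Function.Bijective (fun g : Y ⟶ N => (Over.pullback U.ι).map g) ↔
      ExtJ (Y.hom ⁻¹ᵁ U).ι Y.hom N.hom := by
  rw [bijective_iff, ← extJ_iso_comp_iff (pullbackRestrictIsoRestrict Y.hom U).hom,
    pullbackRestrictIsoRestrict_hom_ι]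

end K486.NMP
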