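import Groth.Agent.Neron.K486.LimExt

/-!
# Extensions of a given morphism: gluing, and descent to a stage of a limit
-/

set_option autoImplicit false
set_option backward.isDefEq.respectTransparency false
universe u
open CategoryTheory CategoryTheory.Limits AlgebraicGeometry

namespace K486.NMP

open Groth.Agent.Ega43.LimitDescend

variable {S : Scheme.{u}}

/-- Gluing extensions of a given morphism. -/
theorem exists_of_cover {Y N : Scheme.{u}} (U : S.Opens) (p : Y ⟶ S) (q : N ⟶ S)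
    (𝒰 : Y.OpenCover)
    (h2 : ∀ i k, UniqU U (pullback.fst (𝒰.f i) (𝒰.f k) ≫ 𝒰.f i ≫ p) q)
    (h : (p ⁻¹ᵁ U).toScheme ⟶ N)
    (g : ∀ i, 𝒰.X i ⟶ N) (hg1 : ∀ i, g i ≫ q = 𝒰.f i ≫ p)
    (hg2 : ∀ i, ((𝒰.f i ≫ p) ⁻¹ᵁ U).ι ≫ g i = res U (𝒰.f i) rfl ≫ h) :
    ∃ g : Y ⟶ N, g ≫ q = p ∧ (p ⁻¹ᵁ U).ι ≫ g = h := by
  have hcomp : ∀ i k, pullback.fst (𝒰.f i) (𝒰.f k) ≫ g i = pullback.snd _ _ ≫ g k := by
    intro i k
    apply h2 i k
    · rw [Category.assoc, hg1]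
    · rw [Category.assoc, hg1, pullback.condition_assoc]
    · have e1 : ((pullback.fst (𝒰.f i) (𝒰.f k) ≫ 𝒰.f i ≫ p) ⁻¹ᵁ U).ι ≫
          pullback.fst (𝒰.f i) (𝒰.f k) ≫ g i =
          res U (pullback.fst (𝒰.f i) (𝒰.f k) ≫ 𝒰.f i) (Category.assoc _ _ _) ≫ h := by
        rw [← res_ι_assoc U (pullback.fst (𝒰.f i) (𝒰.f k)) rfl, hg2]
        exact res_comp_assoc U _ _ _ _ h
      have e2 : ((pullback.fst (𝒰.f i) (𝒰.f k) ≫ 𝒰.f i ≫ p) ⁻¹ᵁ U).ι ≫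
          pullback.snd (𝒰.f i) (𝒰.f k) ≫ g k =
          res U (pullback.snd (𝒰.f i) (𝒰.f k) ≫ 𝒰.f k)
            (by rw [Category.assoc, pullback.condition_assoc]) ≫ h := by
        have e3 : pullback.snd (𝒰.f i) (𝒰.f k) ≫ 𝒰.f k ≫ p =
          pullback.fst (𝒰.f i) (𝒰.f k) ≫ 𝒰.f i ≫ p := by rw [pullback.condition_assoc]
        rw [← res_ι_assoc U (p := 𝒰.f k ≫ p) (pullback.snd (𝒰.f i) (𝒰.f k)) e3, hg2]
        exact res_comp_assoc U _ _ _ _ h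
      rw [e1, e2]
      congr 2
      exact pullback.condition
  refine ⟨𝒰.glueMorphisms g hcomp, ?_, ?_⟩
  · refine 𝒰.hom_ext _ _ fun i => ?_
    rw [Scheme.Cover.ι_glueMorphisms_assoc, hg1]
  · refine Scheme.Cover.hom_ext (𝒰.pullback₁ (p ⁻¹ᵁ U).ι) _ _ fun i => ?_
    change pullback.fst (p ⁻¹ᵁ U).ι (𝒰.f i) ≫ _ = pullback.fst (p ⁻¹ᵁ U).ι (𝒰.f i) ≫ _
    have h3 : pullback.fst (p ⁻¹ᵁ U).ι (𝒰.f i) ≫ (p ⁻¹ᵁ U).ι ≫ 𝒰.glueMorphisms g hcomp =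
        pullback.snd (p ⁻¹ᵁ U).ι (𝒰.f i) ≫ g i := by
      rw [pullback.condition_assoc, Scheme.Cover.ι_glueMorphisms]
    rw [h3]
    have h4 : Set.range (pullback.snd (p ⁻¹ᵁ U).ι (𝒰.f i)) ⊆
        Set.range ((𝒰.f i ≫ p) ⁻¹ᵁ U).ι := by
      rintro _ ⟨x, rfl⟩
      simp only [Scheme.Opens.range_ι]
      change p (𝒰.f i _) ∈ U
      rw [← Scheme.Hom.comp_apply (pullback.snd (p ⁻¹ᵁ U).ι (𝒰.f i)), ← pullback.condition,
        Scheme.Hom.comp_apply]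
      exact (pullback.fst (p ⁻¹ᵁ U).ι (𝒰.f i) x).2
    have h5 := IsOpenImmersion.lift_fac ((𝒰.f i ≫ p) ⁻¹ᵁ U).ι _ h4
    rw [← h5, Category.assoc, hg2, ← Category.assoc]
    congr 1
    rw [← cancel_mono (p ⁻¹ᵁ U).ι, Category.assoc, res_ι, reassoc_of% h5, pullback.condition]

/-- the identification of the base change of `U.ι` with the preimage of `U` -/
noncomputable def pbIso {Y : Scheme.{u}} (U : S.Opens) (p : Y ⟶ S) :
    pullback U.ι p ⟶ (p ⁻¹ᵁ U).toScheme :=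
  (pullbackSymmetry U.ι p).hom ≫ (pullbackRestrictIsoRestrict p U).hom

instance {Y : Scheme.{u}} (U : S.Opens) (p : Y ⟶ S) : IsIso (pbIso U p) := by
  unfold pbIso; infer_instance

@[reassoc]
lemma pbIso_ι {Y : Scheme.{u}} (U : S.Opens) (p : Y ⟶ S) :
    pbIso U p ≫ (p ⁻¹ᵁ U).ι = pullback.snd U.ι p := by
  rw [pbIso, Category.assoc, pullbackRestrictIsoRestrict_hom_ι, pullbackSymmetry_hom_comp_fst]

/-- An extension over the limit comes from an extension at some stage. -/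
theorem exists_stage {J : Type u} [SmallCategory J] [IsCofiltered J] (E : J ⥤ Scheme.{u})
    (c : Cone E) (hc : IsLimit c) [∀ {i j : J} (φ : i ⟶ j), IsAffineHom (E.map φ)]
    [∀ j, CompactSpace (E.obj j)] [∀ j, QuasiSeparatedSpace (E.obj j)] {Y : Scheme.{u}}
    (b : ∀ j, E.obj j ⟶ Y) (hb : ∀ {i j : J} (φ : i ⟶ j), E.map φ ≫ b j = b i)
    (b' : c.pt ⟶ Y) (hb' : ∀ j, c.π.app j ≫ b j = b') (p : Y ⟶ S)
    (U : S.Opens) [QuasiCompact U.ι] {N : Scheme.{u}} (q : N ⟶ S)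
    [LocallyOfFinitePresentation q] (h : (p ⁻¹ᵁ U).toScheme ⟶ N)
    (hh : h ≫ q = (p ⁻¹ᵁ U).ι ≫ p)
    (g : c.pt ⟶ N) (hg : g ≫ q = b' ≫ p)
    (hg' : ((b' ≫ p) ⁻¹ᵁ U).ι ≫ g = res U b' rfl ≫ h) :
    ∃ (j : J) (gj : E.obj j ⟶ N), gj ≫ q = b j ≫ p ∧
      ((b j ≫ p) ⁻¹ᵁ U).ι ≫ gj = res U (b j) rfl ≫ h := by
  let t : ∀ j, E.obj j ⟶ S := fun j => b j ≫ p
  have ht : ∀ {i j : J} (φ : i ⟶ j), E.map φ ≫ t j = t i := fun φ => by
    simp only [t]; rw [reassoc_of% hb]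
  have hp : ∀ j, c.π.app j ≫ t j = b' ≫ p := fun j => by
    simp only [t]; rw [reassoc_of% hb']
  have hX : IsPullback (pullback.fst U.ι (b' ≫ p)) (pullback.snd U.ι (b' ≫ p)) U.ι (b' ≫ p) :=
    IsPullback.of_hasPullback _ _
  have ht' : ∀ {i j : J} (φ : i ⟶ j), (pbDiagram t ht U.ι).map φ ≫
      (pullback.fst U.ι (t j) ≫ U.ι) = pullback.fst U.ι (t i) ≫ U.ι := fun φ ↦ by
    rw [← Category.assoc]
    congr 1
    exact pbDiagram_map_fst t ht U.ι φ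
  have hl := isLimitPbCone t ht U.ι c (b' ≫ p) hp _ _ hX hc
  have hmapsnd : ∀ {i j : J} (φ : i ⟶ j), (pbDiagram t ht U.ι).map φ ≫
      pullback.snd U.ι (t j) = pullback.snd U.ι (t i) ≫ E.map φ := fun φ => by simp
  have hπsnd : ∀ j, (pbCone t ht U.ι c (b' ≫ p) hp _ _ hX).π.app j ≫ pullback.snd U.ι (t j) =
      pullback.snd U.ι (b' ≫ p) ≫ c.π.app j := fun j => by simp
  let a : ∀ j, pullback U.ι (t j) ⟶ N := fun j => pbIso U (t j) ≫ res U (b j) rfl ≫ h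
  have haq : ∀ j, a j ≫ q = pullback.snd U.ι (t j) ≫ t j := fun j => by
    simp only [a, Category.assoc, hh]
    rw [res_ι_assoc, pbIso_ι_assoc]
  have hamap : ∀ {i j : J} (φ : i ⟶ j), (pbDiagram t ht U.ι).map φ ≫ a j = a i := by
    intro i j φ
    have : (pbDiagram t ht U.ι).map φ ≫ pbIso U (t j) ≫ res U (b j) rfl =
        pbIso U (t i) ≫ res U (b i) rfl := by
      rw [← cancel_mono (p ⁻¹ᵁ U).ι]
      simp only [Category.assoc]
      rw [res_ι, res_ι, pbIso_ι_assoc, pbIso_ι_assoc, reassoc_of% hmapsnd, hb]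
    simp only [a]
    rw [reassoc_of% this]
  have haπ : ∀ j, (pbCone t ht U.ι c (b' ≫ p) hp _ _ hX).π.app j ≫ a j =
      pullback.snd U.ι (b' ≫ p) ≫ g := by
    intro j
    have h1 : (pbCone t ht U.ι c (b' ≫ p) hp _ _ hX).π.app j ≫ pbIso U (t j) ≫
        res U (b j) rfl = pbIso U (b' ≫ p) ≫ res U b' rfl := by
      rw [← cancel_mono (p ⁻¹ᵁ U).ι]
      simp only [Category.assoc]
      rw [res_ι, res_ι, pbIso_ι_assoc, pbIso_ι_assoc, reassoc_of% hπsnd, hb']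
    simp only [a]
    rw [reassoc_of% h1, ← hg', pbIso_ι_assoc]
  obtain ⟨i, gi, hgi1, hgi2⟩ := Scheme.exists_π_app_comp_eq_of_locallyOfFinitePresentation
    E (toConst t ht) q c hc g (by
      apply NatTrans.ext
      funext k
      change c.π.app k ≫ t k = g ≫ q
      rw [hp, hg])
  change gi ≫ q = t i at hgi2
  obtain ⟨k, φ, hk⟩ := Scheme.exists_hom_comp_eq_comp_of_locallyOfFiniteType
    (pbDiagram t ht U.ι) (toConst (fun j ↦ pullback.fst U.ι (t j) ≫ U.ι) ht') q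
    (pbCone t ht U.ι c (b' ≫ p) hp _ _ hX) hl (i := i) (pullback.snd U.ι (t i) ≫ gi) (a i) (by
      change pullback.fst U.ι (t i) ≫ U.ι = _
      rw [Category.assoc, hgi2, pullback.condition]) (by
      change pullback.fst U.ι (t i) ≫ U.ι = _
      rw [haq, pullback.condition]) (by
      rw [haπ, reassoc_of% hπsnd, hgi1])
  rw [hamap, reassoc_of% hmapsnd] at hk
  refine ⟨k, E.map φ ≫ gi, by rw [Category.assoc, hgi2, ht], ?_⟩
  rw [← cancel_epi (pbIso U (t k)), pbIso_ι_assoc, hk]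

end K486.NMP
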