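import Groth.Prelude.Def_SGA7IX
import Groth.Agent.S4056
import Groth.Agent.S4070
import Groth.Agent.Sga7.H750.NeronMain
import Groth.Agent.Sga7.H333.NeronSemi
import Groth.Agent.Sga7.H729.Dict
import Groth.Agent.Localalg.GrpSchPts

/-!
# Extension of divisible torsion sequences over strictly henselian discrete valuation rings
-/

set_option autoImplicit false
universe u

open CategoryTheory CategoryTheory.Limits AlgebraicGeometry MonObj
open MonoidalCategory CartesianMonoidalCategory
open Groth.Agent.Sga7.H729.Dict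

namespace K486.TateExt

/-- Group theory: an `ℓ`-divisible torsion sequence lies in every subgroup of finite index. -/
theorem mem_of_finite {M α : Type*} [Group M] (c : M → α) (hfin : (Set.range c).Finite) (U : Set M)
    (h : ∀ x y, c x = c y ↔ x * y⁻¹ ∈ U) (ℓ : ℕ) (hℓ : ℓ.Prime) (X : ℕ → M)
    (h1 : ∀ j, X j ^ (ℓ ^ j) = 1) (h2 : ∀ j, X (j + 1) ^ ℓ = X j) (j : ℕ) : X j ∈ U := by
  have hone : (1 : M) ∈ U := by simpa using (h 1 1).1 rfl
  have hdiv : ∀ x y, x ∈ U → y ∈ U → x * y⁻¹ ∈ U := fun x y hx hy => by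
    have hx' : c x = c 1 := (h x 1).2 (by simpa using hx)
    have hy' : c y = c 1 := (h y 1).2 (by simpa using hy)
    exact (h x y).1 (hx'.trans hy'.symm)
  have hinv : ∀ y, y ∈ U → y⁻¹ ∈ U := fun y hy => by simpa using hdiv 1 y hone hy
  let H : Subgroup M :=
    { carrier := U
      one_mem' := hone
      mul_mem' := fun {x y} hx hy => by simpa using hdiv x y⁻¹ hx (hinv y hy)
      inv_mem' := fun {y} hy => hinv y hy }
  have hpow : ∀ m i, X (m + i) ^ (ℓ ^ i) = X m := by
    intro m i
    induction i with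
    | zero => simp
    | succ i ih => rw [pow_succ, Nat.mul_comm, pow_mul, ← add_assoc, h2, ih]
  have hni : ¬ Function.Injective (fun i : ℕ => c (X (j + i))) := by
    intro hinj
    have := Set.infinite_range_of_injective hinj
    exact this (hfin.subset (by rintro _ ⟨i, rfl⟩; exact ⟨_, rfl⟩))
  have key : ∀ a b : ℕ, a < b → c (X (j + a)) = c (X (j + b)) → X j ∈ H := by
    intro a b hab hc
    obtain ⟨d, rfl⟩ := Nat.exists_eq_add_of_lt hab
    have h3 : X (j + a) * (X (j + (a + d + 1)))⁻¹ ∈ U := (h _ _).1 hc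
    have h4 : X (j + (a + d + 1)) ^ (ℓ ^ (d + 1)) = X (j + a) := by
      rw [show j + (a + d + 1) = (j + a) + (d + 1) by ring]
      exact hpow _ _
    have hq : 1 ≤ ℓ ^ (d + 1) := Nat.one_le_pow _ _ hℓ.pos
    have h5 : X (j + (a + d + 1)) ^ (ℓ ^ (d + 1) - 1) ∈ H := by
      change _ ∈ U
      rw [← h4] at h3
      convert h3 using 1
      rw [eq_mul_inv_iff_mul_eq, ← pow_succ]
      congr 1
      omega
    have h6 : X (j + (a + d + 1)) ^ (ℓ ^ (j + (a + d + 1))) ∈ H := by
      rw [h1]; exact H.one_mem
    have hcop : Nat.Coprime (ℓ ^ (d + 1) - 1) (ℓ ^ (j + (a + d + 1))) := by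
      apply Nat.Coprime.pow_right
      rw [Nat.coprime_comm, Nat.Prime.coprime_iff_not_dvd hℓ]
      intro hd
      have hd' : ℓ ∣ ℓ ^ (d + 1) := dvd_pow_self _ (by omega)
      have h7 := Nat.dvd_sub hd' hd
      have h8 : ℓ ^ (d + 1) - (ℓ ^ (d + 1) - 1) = 1 := by omega
      rw [h8] at h7
      exact hℓ.one_lt.ne' (Nat.dvd_one.1 h7)
    have h7 : X (j + (a + d + 1)) ∈ H := by
      have h8 := Nat.gcd_eq_gcd_ab (ℓ ^ (d + 1) - 1) (ℓ ^ (j + (a + d + 1)))
      rw [hcop.gcd_eq_one] at h8
      have h9 : X (j + (a + d + 1)) = X (j + (a + d + 1)) ^ ((1 : ℕ) : ℤ) := by simp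
      rw [h9, h8, zpow_add, zpow_mul, zpow_mul, zpow_natCast, zpow_natCast]
      exact H.mul_mem (H.zpow_mem h5 _) (H.zpow_mem h6 _)
    rw [← hpow j (a + d + 1)]
    exact H.pow_mem h7 _
  simp only [Function.Injective, not_forall] at hni
  obtain ⟨a, b, hab, hne⟩ := hni
  rcases lt_or_gt_of_ne hne with h3 | h3
  · exact key a b h3 hab
  · exact key b a h3 hab.symm

section Sub

variable {V : Type u} [CommRing V] [IsLocalRing V]

/-- The unit component of the special fibre lies in every open subgroup. -/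
theorem connectedComponentIn_subset (G N : Over (Spec (CommRingCat.of V))) [GrpObj G] [GrpObj N]
    (u : G ⟶ N) [IsMonHom u] [IsOpenImmersion u.left] :
    connectedComponentIn (SGA7.specialFibreSet V N) (η[N].left.base (IsLocalRing.closedPoint V)) ⊆
      Set.range u.left := by
  let f : Spec (CommRingCat.of (IsLocalRing.ResidueField V)) ⟶ Spec (CommRingCat.of V) :=
    Spec.map (CommRingCat.ofHom (IsLocalRing.residue V))
  have hf : IsClosedImmersion f := IsClosedImmersion.spec_of_surjective _ IsLocalRing.residue_surjective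
  have hlh : IsLocalHom (CommRingCat.Hom.hom (CommRingCat.ofHom (IsLocalRing.residue V))) :=
    inferInstanceAs (IsLocalHom (IsLocalRing.residue V))
  have hcl : IsClosedImmersion (pullback.fst N.hom f) := inferInstance
  have hrange : Set.range (pullback.fst N.hom f) = SGA7.specialFibreSet V N := by
    rw [Scheme.Pullback.range_fst]
    congr 1
    ext z
    constructor
    · rintro ⟨y, rfl⟩
      have hy : y = IsLocalRing.closedPoint (IsLocalRing.ResidueField V) := Subsingleton.elim _ _
      rw [hy]
      exact IsLocalRing.comap_closedPoint _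
    · rintro rfl
      exact ⟨IsLocalRing.closedPoint (IsLocalRing.ResidueField V), IsLocalRing.comap_closedPoint _⟩
  have hpb : IsPullback ((Over.pullback f).map u).left (pullback.fst G.hom f) (pullback.fst N.hom f) u.left :=
    Groth.Agent.Sga7.H737.FlatMonoBC.isPullback_map f u
  have hop : IsOpenImmersion ((Over.pullback f).map u).left :=
    MorphismProperty.of_isPullback hpb.flip inferInstance
  have hclosed : IsClosed (Set.range ((Over.pullback f).map u).left) :=
    (Groth.Agent.Localalg.GrpSchPts.isSubgroupSet_range (Red.bc f N)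
      ((Over.pullback f).map u)).isClosed_of_isOpen
      ((Over.pullback f).map u).left.isOpenEmbedding.isOpen_range
  have hmem : ∀ y : (pullback N.hom f : Scheme.{u}), pullback.fst N.hom f y ∈ Set.range u.left ↔
      y ∈ Set.range ((Over.pullback f).map u).left := by
    intro y
    constructor
    · rintro ⟨g, hg⟩
      obtain ⟨w, hw, -⟩ := Scheme.exists_preimage_of_isPullback hpb y g hg.symm
      exact ⟨w, hw⟩
    · rintro ⟨w, rfl⟩
      refine ⟨pullback.fst G.hom f w, ?_⟩
      have h1 := hpb.w
      rw [← Scheme.Hom.comp_apply, ← h1, Scheme.Hom.comp_apply]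
  have hη : η[N].left.base (IsLocalRing.closedPoint V) ∈ SGA7.specialFibreSet V N :=
    Groth.Agent.Sga7.H750.SecComp.section_mem_specialFibreSet N η[N]
  rw [connectedComponentIn_eq_image hη]
  have hclopen : IsClopen ((Subtype.val : SGA7.specialFibreSet V N → N.left) ⁻¹' (Set.range u.left)) := by
    constructor
    · have hZ : IsClosed (pullback.fst N.hom f '' (Set.range ((Over.pullback f).map u).left)) :=
        (pullback.fst N.hom f).isClosedEmbedding.isClosedMap _ hclosed
      convert hZ.preimage (continuous_subtype_val (p := fun z => z ∈ SGA7.specialFibreSet V N)) using 1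
      ext ⟨z, hz⟩
      simp only [Set.mem_preimage]
      rw [← hrange] at hz
      obtain ⟨y, rfl⟩ := hz
      rw [hmem]
      constructor
      · intro hy
        exact ⟨y, hy, rfl⟩
      · rintro ⟨y', hy', he⟩
        rwa [← (pullback.fst N.hom f).isClosedEmbedding.injective he]
    · exact u.left.isOpenEmbedding.isOpen_range.preimage continuous_subtype_val
  rintro _ ⟨z, hz, rfl⟩
  refine hclopen.connectedComponent_subset ?_ hz
  change η[N].left.base (IsLocalRing.closedPoint V) ∈ Set.range u.left
  have h1 : η[G] ≫ u = η[N] := IsMonHom.one_hom u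
  exact ⟨η[G].left.base (IsLocalRing.closedPoint V), congrArg (fun q => q.left (IsLocalRing.closedPoint V)) h1⟩

/-- A section whose closed point lies in the range of an open immersion factors. -/
theorem exists_factor (G N : Over (Spec (CommRingCat.of V))) (u : G ⟶ N) [IsOpenImmersion u.left]
    (s : 𝟙_ (Over (Spec (CommRingCat.of V))) ⟶ N)
    (hs : s.left.base (IsLocalRing.closedPoint V) ∈ Set.range u.left) :
    ∃ t : 𝟙_ (Over (Spec (CommRingCat.of V))) ⟶ G, t ≫ u = s := by
  have hr : Set.range s.left ⊆ Set.range u.left := by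
    rintro _ ⟨y, rfl⟩
    have h1 : (show PrimeSpectrum V from y) ⤳ IsLocalRing.closedPoint V :=
      IsLocalRing.specializes_closedPoint _
    exact (h1.map s.left.continuous).mem_open u.left.isOpenEmbedding.isOpen_range hs
  refine ⟨Over.homMk (IsOpenImmersion.lift u.left s.left hr) ?_, ?_⟩
  · rw [← Over.w u, IsOpenImmersion.lift_fac_assoc]
    exact Over.w s
  · ext1
    exact IsOpenImmersion.lift_fac _ _ _

end Sub

/-- `ℓ`-divisible torsion sequences of rational points extend to sections. -/
theorem core (V F : Type u) [CommRing V] [IsDomain V] [IsDiscreteValuationRing V] [HenselianLocalRing V]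
    [IsSepClosed (IsLocalRing.ResidueField V)] [Field F] [Algebra V F] [IsFractionRing V F]
    (G : Over (Spec (CommRingCat.of V))) [GrpObj G] [Smooth G.hom] [IsSeparated G.hom]
    [QuasiCompact G.hom] (hG : SGA7.FibresUnipotentRankZero G)
    [hp : IsProper ((SGA7.genFib V F).obj G).hom] [hgi : GeometricallyIntegral ((SGA7.genFib V F).obj G).hom]
    (ℓ : ℕ) (hℓ : ℓ.Prime) (x : ℕ → (𝟙_ (Over (Spec (CommRingCat.of F))) ⟶ (SGA7.genFib V F).obj G))
    (htors : ∀ j, x j ^ (ℓ ^ j) = 1) (hcompat : ∀ j, x (j + 1) ^ ℓ = x j) (j : ℕ) :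
    ∃ s : 𝟙_ (Over (Spec (CommRingCat.of V))) ⟶ G, s ^ (ℓ ^ j) = 1 ∧ secK V F G s = x j := by
  obtain ⟨N, _, e, he, hN⟩ := Groth.Agent.Sga7.H750.NeronMain.neAll V F ((SGA7.genFib V F).obj G)
  have he' : IsMonHom e.inv := inferInstance
  obtain ⟨u, hu, hue⟩ := Groth.Agent.Sga7.H333.NeronSemi.exists_hom_of_isNeron V F G N hN e.inv
  have hiso : IsIso ((SGA7.genFib V F).map u) := by rw [hue]; infer_instance
  have hel : IsIso e.hom.left := (Over.forget _).map_isIso e.hom
  have hp' : IsProper ((SGA7.genFib V F).obj N).hom := by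
    rw [← Over.w e.hom]
    infer_instance
  have hgi' : GeometricallyIntegral ((SGA7.genFib V F).obj N).hom := by
    rw [← Over.w e.hom]
    exact (MorphismProperty.cancel_left_of_respectsIso @GeometricallyIntegral _ _).2 hgi
  have hop : IsOpenImmersion u.left := Groth.Agent.S4056.result V F N hN G hG u
  obtain ⟨h1, h2, h3⟩ := Groth.Agent.S4070.result V F N hN
  have hbij := secK_bijective V F N hN
  have hpc : ∀ (y : 𝟙_ (Over (Spec (CommRingCat.of F))) ⟶ (SGA7.genFib V F).obj G) (n : ℕ),
      (y ≫ e.inv) ^ n = (y ^ n) ≫ e.inv := fun y n => (MonObj.pow_comp y n e.inv).symm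
  choose X hX using fun i => hbij.2 (x i ≫ e.inv)
  have hX1 : ∀ i, X i ^ (ℓ ^ i) = 1 := fun i => by
    apply hbij.1
    rw [map_pow, hX, hpc, htors, map_one, MonObj.one_comp]
  have hX2 : ∀ i, X (i + 1) ^ ℓ = X i := fun i => by
    apply hbij.1
    rw [map_pow, hX, hpc, hcompat, hX]
  have hmem : X j ∈ SGA7.secUnitComp V N :=
    mem_of_finite (SGA7.secComp V N) h1 _ h3 ℓ hℓ X hX1 hX2 j
  obtain ⟨s, hs⟩ := exists_factor G N u (X j) (connectedComponentIn_subset G N u hmem)
  have hmono : Mono u := by
    have : Mono u.left := inferInstance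
    exact (Over.forget _).mono_of_mono_map this
  refine ⟨s, ?_, ?_⟩
  · rw [← cancel_mono u, MonObj.pow_comp, hs, hX1, MonObj.one_comp]
  · rw [← cancel_mono ((SGA7.genFib V F).map u)]
    have h4 := secK_eq V F N (X j)
    rw [hX, ← hs, Functor.map_comp, ← Category.assoc, ← secK_eq] at h4
    rw [← h4, hue]

end K486.TateExt
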