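import Groth.Agent.Neron.K486.TateExt
import Groth.Agent.Sga7.H738.S4057Comm
import Groth.Agent.Sga7.H751.PowEtale

/-!
# Divisible torsion sequences of points with values in the fraction field of a dominating discrete
valuation ring come from sections

* `res`: functoriality of the points with values in `R`-algebras;
* `of_dvr`: `R` strictly henselian local domain dominated by a strictly henselian discrete valuation
  ring `V` with fraction field `F`.
-/

set_option autoImplicit false
universe u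

open CategoryTheory CategoryTheory.Limits AlgebraicGeometry MonObj
open MonoidalCategory CartesianMonoidalCategory
open Groth.Agent.Sga7.H729.Dict Groth.Agent.Sga67.TorsionLift

namespace K486.TatePts

section Res

variable {R : Type u} [CommRing R] (N : Over (Spec (CommRingCat.of R))) [GrpObj N]
  {L L' L'' : Type u} [CommRing L] [CommRing L'] [CommRing L''] [Algebra R L] [Algebra R L'] [Algebra R L'']

/-- Functoriality of points with values in `R`-algebras. -/
noncomputable def res (f : L →ₐ[R] L') : (sp R L ⟶ N) →* (sp R L' ⟶ N) := compHom (spMap f) N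

lemma res_apply (f : L →ₐ[R] L') (x : sp R L ⟶ N) : res N f x = spMap f ≫ x := rfl

lemma res_comp (f : L →ₐ[R] L') (g : L' →ₐ[R] L'') (x : sp R L ⟶ N) :
    res N (g.comp f) x = res N g (res N f x) := by
  rw [res_apply, res_apply, res_apply, ← Category.assoc, spMap_comp]

lemma res_toUnit (f : L →ₐ[R] L') (s : 𝟙_ (Over (Spec (CommRingCat.of R))) ⟶ N) :
    res N f (toUnit _ ≫ s) = toUnit _ ≫ s := by
  rw [res_apply, ← Category.assoc]
  congr 1
  exact toUnit_unique _ _

lemma res_left (f : L →ₐ[R] L') (x : sp R L ⟶ N) :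
    (res N f x).left = Spec.map (CommRingCat.ofHom (f : L →+* L')) ≫ x.left := rfl

end Res

lemma epi_specMap (L L' : Type u) [Field L] [Field L'] (f : L →+* L') :
    Epi (Spec.map (CommRingCat.ofHom f)) := by
  have h3 : Flat (Spec.map (CommRingCat.ofHom f)) := by
    rw [HasRingHomProperty.Spec_iff (P := @Flat)]
    let _ : Algebra L L' := f.toAlgebra
    exact RingHom.flat_algebraMap_iff.2 inferInstance
  have h4 : Surjective (Spec.map (CommRingCat.ofHom f)) :=
    ⟨fun x => ⟨IsLocalRing.closedPoint L', Subsingleton.elim (α := PrimeSpectrum L) _ _⟩⟩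
  exact Flat.epi_of_flat_of_surjective _

lemma res_injective {R : Type u} [CommRing R] (N : Over (Spec (CommRingCat.of R))) [GrpObj N]
    {L L' : Type u} [Field L] [Field L'] [Algebra R L] [Algebra R L'] (f : L →ₐ[R] L') :
    Function.Injective (res N f) := by
  intro a b hab
  have := epi_specMap L L' (f : L →+* L')
  ext1
  rw [← cancel_epi (Spec.map (CommRingCat.ofHom (f : L →+* L')))]
  exact congrArg (fun q => q.left) hab

lemma natCast_residueField_ne_zero {R : Type u} [CommRing R] [IsLocalRing R] {n : ℕ}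
    (hn : (n : IsLocalRing.ResidueField R) ≠ 0) (p : Spec (CommRingCat.of R)) :
    (n : (Spec (CommRingCat.of R)).residueField p) ≠ 0 := by
  intro h0
  have hu : IsUnit (n : R) := by
    by_contra hcon
    apply hn
    rw [← map_natCast (IsLocalRing.residue R)]
    exact (IsLocalRing.residue_eq_zero_iff _).2 hcon
  let ρ : R →+* (Spec (CommRingCat.of R)).residueField p :=
    (((Spec (CommRingCat.of R)).evaluation ⊤ p trivial).hom).comp
      (Scheme.ΓSpecIso (CommRingCat.of R)).inv.hom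
  have h3 := hu.map ρ
  rw [map_natCast, h0] at h3
  exact not_isUnit_zero h3

/-- **Main extension theorem.** -/
theorem of_dvr (R V F : Type u) [CommRing R] [IsDomain R] [HenselianLocalRing R]
    [IsSepClosed (IsLocalRing.ResidueField R)]
    [CommRing V] [IsDomain V] [IsDiscreteValuationRing V] [HenselianLocalRing V]
    [IsSepClosed (IsLocalRing.ResidueField V)] [Field F] [Algebra V F] [IsFractionRing V F]
    [Algebra R V] [IsLocalHom (algebraMap R V)] [Algebra R F] [IsScalarTower R V F]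
    (𝒜 : Over (Spec (CommRingCat.of R))) [GrpObj 𝒜] [IsCommMonObj 𝒜]
    [Smooth 𝒜.hom] [IsSeparated 𝒜.hom] [QuasiCompact 𝒜.hom]
    (hsab : SGA7.FibresUnipotentRankZero 𝒜)
    (hp : IsProper (pullback.snd 𝒜.hom (Spec.map (CommRingCat.ofHom (algebraMap R F)))))
    (hgi : GeometricallyIntegral (pullback.snd 𝒜.hom (Spec.map (CommRingCat.ofHom (algebraMap R F)))))
    (ℓ : ℕ) (hℓ : ℓ.Prime) (hℓp : (ℓ : IsLocalRing.ResidueField R) ≠ 0)
    (y : ℕ → (sp R F ⟶ 𝒜)) (htors : ∀ j : ℕ, y j ^ (ℓ ^ j) = 1)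
    (hcompat : ∀ j : ℕ, y (j + 1) ^ ℓ = y j) (j : ℕ) :
    ∃ s : 𝟙_ (Over (Spec (CommRingCat.of R))) ⟶ 𝒜, s ^ (ℓ ^ j) = 1 ∧ toUnit (sp R F) ≫ s = y j := by
  let fV : Spec (CommRingCat.of V) ⟶ Spec (CommRingCat.of R) := Spec.map (CommRingCat.ofHom (algebraMap R V))
  let fF : Spec (CommRingCat.of F) ⟶ Spec (CommRingCat.of V) := Spec.map (CommRingCat.ofHom (algebraMap V F))
  have hw : Spec.map (CommRingCat.ofHom (algebraMap R F)) = fF ≫ fV := by
    change _ = Spec.map _ ≫ Spec.map _
    rw [← Spec.map_comp, ← CommRingCat.ofHom_comp, ← IsScalarTower.algebraMap_eq]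
  let G : Over (Spec (CommRingCat.of V)) := Red.bc fV 𝒜
  have hG : SGA7.FibresUnipotentRankZero G :=
    Groth.Agent.Sga7.H738.RankZeroBc.fibresUnipotentRankZero_bc Groth.Agent.Sga7.H738.S4057Comm.l2 fV 𝒜 hsab
  have i1 : Smooth G.hom := inferInstanceAs (Smooth (pullback.snd 𝒜.hom fV))
  have i2 : IsSeparated G.hom := inferInstanceAs (IsSeparated (pullback.snd 𝒜.hom fV))
  have i3 : QuasiCompact G.hom := inferInstanceAs (QuasiCompact (pullback.snd 𝒜.hom fV))
  -- the generic fibre
  have hsq : IsPullback (pullback.fst G.hom fF ≫ pullback.fst 𝒜.hom fV) (pullback.snd G.hom fF)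
      𝒜.hom (fF ≫ fV) :=
    (IsPullback.of_hasPullback G.hom fF).paste_horiz (IsPullback.of_hasPullback 𝒜.hom fV)
  have hsq2 := IsPullback.of_hasPullback 𝒜.hom (Spec.map (CommRingCat.ofHom (algebraMap R F)))
  rw [← hw] at hsq
  have hlift : pullback.snd G.hom fF = (hsq.isoIsPullback _ _ hsq2).hom ≫
      pullback.snd 𝒜.hom (Spec.map (CommRingCat.ofHom (algebraMap R F))) :=
    (hsq.isoIsPullback_hom_snd _ _ hsq2).symm
  have hp' : IsProper ((SGA7.genFib V F).obj G).hom := by
    change IsProper (pullback.snd G.hom fF)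
    rw [hlift]
    infer_instance
  have hgi' : GeometricallyIntegral ((SGA7.genFib V F).obj G).hom := by
    change GeometricallyIntegral (pullback.snd G.hom fF)
    rw [hlift]
    exact (MorphismProperty.cancel_left_of_respectsIso @GeometricallyIntegral _ _).2 hgi
  -- the points
  let TF := (Over.map fV).obj ((Over.map fF).obj (𝟙_ (Over (Spec (CommRingCat.of F)))))
  let t : TF ⟶ sp R F := Over.homMk (𝟙 _) (by
    change 𝟙 _ ≫ Spec.map (CommRingCat.ofHom (algebraMap R F)) = (𝟙 _ ≫ fF) ≫ fV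
    rw [Category.id_comp, Category.id_comp, hw])
  let z : ℕ → (𝟙_ (Over (Spec (CommRingCat.of F))) ⟶ (SGA7.genFib V F).obj G) := fun i =>
    (bcPts fF G (𝟙_ _)).symm ((bcPts fV 𝒜 _).symm (compHom t 𝒜 (y i)))
  have hz1 : ∀ i, z i ^ (ℓ ^ i) = 1 := fun i => by
    rw [← map_pow, ← map_pow, ← map_pow, htors, map_one, map_one, map_one]
  have hz2 : ∀ i, z (i + 1) ^ ℓ = z i := fun i => by
    rw [← map_pow, ← map_pow, ← map_pow, hcompat]
  obtain ⟨s, hs1, hs2⟩ := K486.TateExt.core V F G hG ℓ hℓ z hz1 hz2 j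
  -- the torsion section over `R`
  have het : Etale (𝟙 𝒜 ^ (ℓ ^ j)).left := by
    apply Groth.Agent.Sga7.H751.PowEtale.etale_pow
    intro p
    rw [Nat.cast_pow]
    exact pow_ne_zero _ (natCast_residueField_ne_zero hℓp p)
  let w : sp R V ⟶ 𝒜 :=
    compHom (Over.homMk (𝟙 _) (by
      change 𝟙 _ ≫ 𝟙 _ ≫ fV = fV
      simp) : sp R V ⟶ (Over.map fV).obj (𝟙_ (Over (Spec (CommRingCat.of V))))) 𝒜
      (bcPts fV 𝒜 (𝟙_ _) s)
  have hw1 : w ^ (ℓ ^ j) = 1 := by
    rw [← map_pow, ← map_pow, hs1, map_one, map_one]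
  have hR : EtCoh.IsStrictlyHenselianLocalRing R := ⟨inferInstance, inferInstance⟩
  obtain ⟨a, ha1, ha2⟩ := Groth.Agent.Sga7.H729.TorsionSec.exists_sec_of_pow_eq_one
    (G := 𝒜) (n := ℓ ^ j) hR (T := V) w hw1
  refine ⟨a, ha1, ?_⟩
  have h5 : fV ≫ a.left = s.left ≫ pullback.fst 𝒜.hom fV := by
    have h6 := congrArg (fun q => q.left) ha2
    have h7 : (toUnit (sp R V)) = Over.homMk fV (Category.comp_id _) :=
      toUnit_unique _ _
    rw [h7] at h6
    have h8 : fV ≫ a.left = 𝟙 _ ≫ (bcPts fV 𝒜 (𝟙_ _) s).left := h6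
    rw [h8, Category.id_comp, bcPts_left]
  have h6 : (y j).left = fF ≫ s.left ≫ pullback.fst 𝒜.hom fV := by
    have h7 : bcPts fF G (𝟙_ _) (z j) = toUnit _ ≫ s := by
      rw [← hs2]
      exact MulEquiv.apply_symm_apply _ _
    have h8 : bcPts fF G (𝟙_ _) (z j) = (bcPts fV 𝒜 _).symm (compHom t 𝒜 (y j)) :=
      MulEquiv.apply_symm_apply _ _
    have h9 : compHom t 𝒜 (y j) = bcPts fV 𝒜 _ (toUnit _ ≫ s) := by
      rw [← h7, h8]
      exact (MulEquiv.apply_symm_apply _ _).symm
    have h10 := congrArg (fun q => q.left) h9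
    have h11 : 𝟙 _ ≫ (y j).left = (bcPts fV 𝒜
      ((Over.map fF).obj (𝟙_ (Over (Spec (CommRingCat.of F))))) (toUnit _ ≫ s)).left := h10
    rw [Category.id_comp, bcPts_left] at h11
    rw [h11]
    have h12 : toUnit ((Over.map fF).obj (𝟙_ (Over (Spec (CommRingCat.of F))))) =
        Over.homMk fF (by simp) := toUnit_unique _ _
    rw [h12]
    exact Category.assoc _ _ _
  ext1
  have h13 : toUnit (sp R F) = Over.homMk (Spec.map (CommRingCat.ofHom (algebraMap R F)))
      (Category.comp_id _) := toUnit_unique _ _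
  rw [h13, Over.comp_left]
  change Spec.map (CommRingCat.ofHom (algebraMap R F)) ≫ a.left = _
  rw [h6, ← h5, hw, Category.assoc]

end K486.TatePts
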