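import Groth.Agent.Neron.K486.TateExt
import Groth.Agent.Neron.K486.DomDvr
import Groth.Agent.Sga7.H738.S4057Comm
import Groth.Agent.Sga7.H751.PowEtale

/-!
# Extension of divisible torsion sequences over strictly henselian Noetherian local domains
-/

set_option autoImplicit false
universe u

open CategoryTheory CategoryTheory.Limits AlgebraicGeometry MonObj
open MonoidalCategory CartesianMonoidalCategory
open Groth.Agent.Sga7.H729.Dict

namespace K486.TateReg

/-- The case of a domination `R → V` by a strictly henselian discrete valuation ring. -/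
theorem of_dvr (R K V F : Type u) [CommRing R] [IsDomain R] [HenselianLocalRing R]
    [IsSepClosed (IsLocalRing.ResidueField R)] [Field K] [Algebra R K]
    [CommRing V] [IsDomain V] [IsDiscreteValuationRing V] [HenselianLocalRing V]
    [IsSepClosed (IsLocalRing.ResidueField V)] [Field F] [Algebra V F] [IsFractionRing V F]
    [Algebra R V] [IsLocalHom (algebraMap R V)] [Algebra K F]
    (hcomm : (algebraMap K F).comp (algebraMap R K) = (algebraMap V F).comp (algebraMap R V))
    (𝒜 : Over (Spec (CommRingCat.of R))) [GrpObj 𝒜] [IsCommMonObj 𝒜]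
    [Smooth 𝒜.hom] [IsSeparated 𝒜.hom] [QuasiCompact 𝒜.hom]
    (hsab : SGA7.FibresUnipotentRankZero 𝒜)
    [hp : IsProper ((SGA7.genFib R K).obj 𝒜).hom] [hgi : GeometricallyIntegral ((SGA7.genFib R K).obj 𝒜).hom]
    (ℓ : ℕ) (hℓ : ℓ.Prime) (hℓp : (ℓ : IsLocalRing.ResidueField R) ≠ 0)
    (x : ℕ → SGA7.Pts K (Red.bc (Spec.map (CommRingCat.ofHom (algebraMap R K))) 𝒜))
    (htors : ∀ j : ℕ, x j ^ (ℓ ^ j) = 1) (hcompat : ∀ j : ℕ, x (j + 1) ^ ℓ = x j) (j : ℕ) :
    ∃ s : 𝟙_ (Over (Spec (CommRingCat.of R))) ⟶ 𝒜, s ^ (ℓ ^ j) = 1 ∧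
      Spec.map (CommRingCat.ofHom (algebraMap R K)) ≫ s.left =
        (x j).left ≫ pullback.fst 𝒜.hom (Spec.map (CommRingCat.ofHom (algebraMap R K))) := by
  let fK : Spec (CommRingCat.of K) ⟶ Spec (CommRingCat.of R) := Spec.map (CommRingCat.ofHom (algebraMap R K))
  let fV : Spec (CommRingCat.of V) ⟶ Spec (CommRingCat.of R) := Spec.map (CommRingCat.ofHom (algebraMap R V))
  let fF : Spec (CommRingCat.of F) ⟶ Spec (CommRingCat.of V) := Spec.map (CommRingCat.ofHom (algebraMap V F))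
  let g : Spec (CommRingCat.of F) ⟶ Spec (CommRingCat.of K) := Spec.map (CommRingCat.ofHom (algebraMap K F))
  have hw : g ≫ fK = fF ≫ fV := by
    change Spec.map _ ≫ Spec.map _ = Spec.map _ ≫ Spec.map _
    rw [← Spec.map_comp, ← Spec.map_comp, ← CommRingCat.ofHom_comp, ← CommRingCat.ofHom_comp, hcomm]
  let G : Over (Spec (CommRingCat.of V)) := Red.bc fV 𝒜
  have hG : SGA7.FibresUnipotentRankZero G :=
    Groth.Agent.Sga7.H738.RankZeroBc.fibresUnipotentRankZero_bc Groth.Agent.Sga7.H738.S4057Comm.l2 fV 𝒜 hsab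
  have i1 : Smooth G.hom := inferInstanceAs (Smooth (pullback.snd 𝒜.hom fV))
  have i2 : IsSeparated G.hom := inferInstanceAs (IsSeparated (pullback.snd 𝒜.hom fV))
  have i3 : QuasiCompact G.hom := inferInstanceAs (QuasiCompact (pullback.snd 𝒜.hom fV))
  -- the generic fibre
  have hsq : IsPullback (pullback.fst G.hom fF ≫ pullback.fst 𝒜.hom fV) (pullback.snd G.hom fF)
      𝒜.hom (fF ≫ fV) :=
    (IsPullback.of_hasPullback G.hom fF).paste_horiz (IsPullback.of_hasPullback 𝒜.hom fV)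
  have hsq2 : IsPullback (pullback.fst (pullback.snd 𝒜.hom fK) g ≫ pullback.fst 𝒜.hom fK)
      (pullback.snd (pullback.snd 𝒜.hom fK) g) 𝒜.hom (g ≫ fK) :=
    (IsPullback.of_hasPullback (pullback.snd 𝒜.hom fK) g).paste_horiz (IsPullback.of_hasPullback 𝒜.hom fK)
  rw [hw] at hsq2
  have hlift : pullback.snd G.hom fF = (hsq.isoIsPullback _ _ hsq2).hom ≫
      pullback.snd (pullback.snd 𝒜.hom fK) g := (hsq.isoIsPullback_hom_snd _ _ hsq2).symm
  have hp1 : IsProper (pullback.snd 𝒜.hom fK) := hp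
  have hg1 : GeometricallyIntegral (pullback.snd 𝒜.hom fK) := hgi
  have hp' : IsProper ((SGA7.genFib V F).obj G).hom := by
    change IsProper (pullback.snd G.hom fF)
    rw [hlift]
    infer_instance
  have hgi' : GeometricallyIntegral ((SGA7.genFib V F).obj G).hom := by
    change GeometricallyIntegral (pullback.snd G.hom fF)
    rw [hlift]
    exact (MorphismProperty.cancel_left_of_respectsIso @GeometricallyIntegral _ _).2 inferInstance
  -- the points
  let TF := (Over.map fV).obj ((Over.map fF).obj (𝟙_ (Over (Spec (CommRingCat.of F)))))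
  let TK := (Over.map fK).obj (SGA7.pt (K := K) K)
  let t : TF ⟶ TK := Over.homMk g (by
    change g ≫ Spec.map (CommRingCat.ofHom (algebraMap K K)) ≫ fK = (𝟙 _ ≫ fF) ≫ fV
    have h0 : Spec.map (CommRingCat.ofHom (algebraMap K K)) = 𝟙 (Spec (CommRingCat.of K)) := Spec.map_id _
    rw [h0, Category.id_comp, Category.id_comp, hw])
  let y : ℕ → (𝟙_ (Over (Spec (CommRingCat.of F))) ⟶ (SGA7.genFib V F).obj G) := fun i =>
    (bcPts fF G (𝟙_ _)).symm ((bcPts fV 𝒜 _).symm (compHom t 𝒜 (bcPts fK 𝒜 _ (x i))))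
  have hy1 : ∀ i, y i ^ (ℓ ^ i) = 1 := fun i => by
    rw [← map_pow, ← map_pow, ← map_pow, ← map_pow, htors, map_one, map_one, map_one, map_one]
  have hy2 : ∀ i, y (i + 1) ^ ℓ = y i := fun i => by
    rw [← map_pow, ← map_pow, ← map_pow, ← map_pow, hcompat]
  obtain ⟨s, hs1, hs2⟩ := K486.TateExt.core V F G hG ℓ hℓ y hy1 hy2 j
  -- the torsion section over `R`
  have het : Etale (𝟙 𝒜 ^ (ℓ ^ j)).left := by
    apply Groth.Agent.Sga7.H751.PowEtale.etale_pow
    intro p
    rw [Nat.cast_pow]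
    apply pow_ne_zero
    intro h0
    have hu : IsUnit (ℓ : R) := by
      by_contra hcon
      apply hℓp
      rw [← map_natCast (IsLocalRing.residue R)]
      exact (IsLocalRing.residue_eq_zero_iff _).2 hcon
    let ρ : R →+* (Spec (CommRingCat.of R)).residueField p :=
      (Scheme.ΓSpecIso (CommRingCat.of R)).inv.hom |> fun a =>
        (((Spec (CommRingCat.of R)).evaluation ⊤ p trivial).hom).comp a
    have h3 := hu.map ρ
    rw [map_natCast, h0] at h3
    exact not_isUnit_zero h3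
  let z : Groth.Agent.Sga67.TorsionLift.sp R V ⟶ 𝒜 :=
    compHom (Over.homMk (𝟙 _) (by
      change 𝟙 _ ≫ 𝟙 _ ≫ fV = fV
      simp) : Groth.Agent.Sga67.TorsionLift.sp R V ⟶ (Over.map fV).obj (𝟙_ (Over (Spec (CommRingCat.of V))))) 𝒜
      (bcPts fV 𝒜 (𝟙_ _) s)
  have hz : z ^ (ℓ ^ j) = 1 := by
    rw [← map_pow, ← map_pow, hs1, map_one, map_one]
  have hR : EtCoh.IsStrictlyHenselianLocalRing R := ⟨inferInstance, inferInstance⟩
  obtain ⟨a, ha1, ha2⟩ := Groth.Agent.Sga7.H729.TorsionSec.exists_sec_of_pow_eq_one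
    (G := 𝒜) (n := ℓ ^ j) hR (T := V) z hz
  refine ⟨a, ha1, ?_⟩
  have hgepi : Epi g := by
    have h3 : Flat g := by
      change Flat (Spec.map _)
      rw [HasRingHomProperty.Spec_iff (P := @Flat)]
      exact RingHom.flat_algebraMap_iff.2 inferInstance
    have h4 : Surjective g :=
      ⟨fun x => ⟨IsLocalRing.closedPoint F, Subsingleton.elim (α := PrimeSpectrum K) _ _⟩⟩
    exact Flat.epi_of_flat_of_surjective _
  rw [← cancel_epi g]
  change g ≫ fK ≫ a.left = g ≫ (x j).left ≫ pullback.fst 𝒜.hom fK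
  have h5 : fV ≫ a.left = s.left ≫ pullback.fst 𝒜.hom fV := by
    have h6 := congrArg (fun q => q.left) ha2
    have h7 : (toUnit (Groth.Agent.Sga67.TorsionLift.sp R V)) = Over.homMk fV (Category.comp_id _) :=
      toUnit_unique _ _
    rw [h7] at h6
    have h8 : fV ≫ a.left = 𝟙 _ ≫ (bcPts fV 𝒜 (𝟙_ _) s).left := h6
    rw [h8, Category.id_comp, bcPts_left]
  have h6 : g ≫ (x j).left ≫ pullback.fst 𝒜.hom fK = fF ≫ s.left ≫ pullback.fst 𝒜.hom fV := by
    have h7 : bcPts fF G (𝟙_ _) (y j) = toUnit _ ≫ s := by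
      rw [← hs2]
      exact MulEquiv.apply_symm_apply _ _
    have h8 : bcPts fF G (𝟙_ _) (y j) = (bcPts fV 𝒜 _).symm (compHom t 𝒜 (bcPts fK 𝒜 _ (x j))) :=
      MulEquiv.apply_symm_apply _ _
    have h9 : compHom t 𝒜 (bcPts fK 𝒜 _ (x j)) = bcPts fV 𝒜 _ (toUnit _ ≫ s) := by
      rw [← h7, h8]
      exact (MulEquiv.apply_symm_apply _ _).symm
    have h10 := congrArg (fun q => q.left) h9
    have h11 : g ≫ (bcPts fK 𝒜 (SGA7.pt K) (x j)).left = (bcPts fV 𝒜
      ((Over.map fF).obj (𝟙_ (Over (Spec (CommRingCat.of F))))) (toUnit _ ≫ s)).left := h10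
    rw [bcPts_left, bcPts_left] at h11
    rw [h11]
    have h12 : toUnit ((Over.map fF).obj (𝟙_ (Over (Spec (CommRingCat.of F))))) =
        Over.homMk fF (by simp) := toUnit_unique _ _
    rw [h12]
    exact Category.assoc _ _ _
  rw [h6, ← h5, ← Category.assoc, ← Category.assoc, hw]

/-- The same with the extension of fraction fields constructed from an injective local homomorphism. -/
theorem of_dvr' (R K V F : Type u) [CommRing R] [IsDomain R] [HenselianLocalRing R]
    [IsSepClosed (IsLocalRing.ResidueField R)] [Field K] [Algebra R K] [IsFractionRing R K]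
    [CommRing V] [IsDomain V] [IsDiscreteValuationRing V] [HenselianLocalRing V]
    [IsSepClosed (IsLocalRing.ResidueField V)] [Field F] [Algebra V F] [IsFractionRing V F]
    (φ : R →+* V) (hφ : IsLocalHom φ) (hφi : Function.Injective φ)
    (𝒜 : Over (Spec (CommRingCat.of R))) [GrpObj 𝒜] [IsCommMonObj 𝒜]
    [Smooth 𝒜.hom] [IsSeparated 𝒜.hom] [QuasiCompact 𝒜.hom]
    (hsab : SGA7.FibresUnipotentRankZero 𝒜)
    [hp : IsProper ((SGA7.genFib R K).obj 𝒜).hom] [hgi : GeometricallyIntegral ((SGA7.genFib R K).obj 𝒜).hom]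
    (ℓ : ℕ) (hℓ : ℓ.Prime) (hℓp : (ℓ : IsLocalRing.ResidueField R) ≠ 0)
    (x : ℕ → SGA7.Pts K (Red.bc (Spec.map (CommRingCat.ofHom (algebraMap R K))) 𝒜))
    (htors : ∀ j : ℕ, x j ^ (ℓ ^ j) = 1) (hcompat : ∀ j : ℕ, x (j + 1) ^ ℓ = x j) (j : ℕ) :
    ∃ s : 𝟙_ (Over (Spec (CommRingCat.of R))) ⟶ 𝒜, s ^ (ℓ ^ j) = 1 ∧
      Spec.map (CommRingCat.ofHom (algebraMap R K)) ≫ s.left =
        (x j).left ≫ pullback.fst 𝒜.hom (Spec.map (CommRingCat.ofHom (algebraMap R K))) := by
  let _ : Algebra R V := φ.toAlgebra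
  have hl : IsLocalHom (algebraMap R V) := hφ
  have hinj : Function.Injective ((algebraMap V F).comp φ) :=
    (IsFractionRing.injective V F).comp hφi
  let ψ : K →+* F := IsFractionRing.lift (A := R) (K := K) hinj
  let _ : Algebra K F := ψ.toAlgebra
  have hcomm : (algebraMap K F).comp (algebraMap R K) =
      (algebraMap V F).comp (algebraMap R V) := by
    ext a
    exact IsFractionRing.lift_algebraMap hinj a
  exact of_dvr R K V F hcomm 𝒜 hsab ℓ hℓ hℓp x htors hcompat j

/-- `ℓ`-divisible torsion sequences of rational points of the generic fibre extend to sections over a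
strictly henselian Noetherian local domain. -/
theorem exists_section (R K : Type u) [CommRing R] [IsDomain R] [IsNoetherianRing R] [HenselianLocalRing R]
    [IsSepClosed (IsLocalRing.ResidueField R)] [Field K] [Algebra R K] [IsFractionRing R K]
    (𝒜 : Over (Spec (CommRingCat.of R))) [GrpObj 𝒜] [IsCommMonObj 𝒜]
    [Smooth 𝒜.hom] [IsSeparated 𝒜.hom] [QuasiCompact 𝒜.hom]
    (hsab : SGA7.FibresUnipotentRankZero 𝒜)
    [IsProper ((SGA7.genFib R K).obj 𝒜).hom] [GeometricallyIntegral ((SGA7.genFib R K).obj 𝒜).hom]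
    (ℓ : ℕ) (hℓ : ℓ.Prime) (hℓp : (ℓ : IsLocalRing.ResidueField R) ≠ 0)
    (x : ℕ → SGA7.Pts K (Red.bc (Spec.map (CommRingCat.ofHom (algebraMap R K))) 𝒜))
    (htors : ∀ j : ℕ, x j ^ (ℓ ^ j) = 1) (hcompat : ∀ j : ℕ, x (j + 1) ^ ℓ = x j) (j : ℕ) :
    ∃ s : Spec (CommRingCat.of R) ⟶ 𝒜.left, s ≫ 𝒜.hom = 𝟙 (Spec (CommRingCat.of R)) ∧
      Spec.map (CommRingCat.ofHom (algebraMap R K)) ≫ s =
        (x j).left ≫ pullback.fst 𝒜.hom (Spec.map (CommRingCat.ofHom (algebraMap R K))) := by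
  by_cases hF : IsField R
  · have hbij : Function.Bijective (algebraMap R K) := by
      refine ⟨IsFractionRing.injective R K, fun z => ?_⟩
      obtain ⟨a, b, hb, rfl⟩ := IsFractionRing.div_surjective (A := R) z
      have hb0 : b ≠ 0 := nonZeroDivisors.ne_zero hb
      obtain ⟨c, hc⟩ := hF.mul_inv_cancel hb0
      refine ⟨a * c, ?_⟩
      have hb1 : algebraMap R K b ≠ 0 := fun h0 => hb0 (IsFractionRing.injective R K (by rw [h0, map_zero]))
      rw [eq_div_iff hb1, ← map_mul, _root_.mul_assoc, _root_.mul_comm c b, hc, _root_.mul_one]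
    have hiso : IsIso (Spec.map (CommRingCat.ofHom (algebraMap R K))) := by
      have : IsIso (CommRingCat.ofHom (algebraMap R K)) :=
        (ConcreteCategory.isIso_iff_bijective (CommRingCat.ofHom (algebraMap R K))).2 hbij
      infer_instance
    refine ⟨inv (Spec.map (CommRingCat.ofHom (algebraMap R K))) ≫ (x j).left ≫
      pullback.fst 𝒜.hom (Spec.map (CommRingCat.ofHom (algebraMap R K))), ?_, by simp⟩
    have h1 : (x j).left ≫ pullback.snd 𝒜.hom (Spec.map (CommRingCat.ofHom (algebraMap R K))) =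
        Spec.map (CommRingCat.ofHom (algebraMap K K)) := Over.w (x j)
    have h0 : Spec.map (CommRingCat.ofHom (algebraMap K K)) = 𝟙 (Spec (CommRingCat.of K)) := Spec.map_id _
    have h2 : (inv (Spec.map (CommRingCat.ofHom (algebraMap R K))) ≫ (x j).left ≫
        pullback.fst 𝒜.hom (Spec.map (CommRingCat.ofHom (algebraMap R K)))) ≫ 𝒜.hom =
        inv (Spec.map (CommRingCat.ofHom (algebraMap R K))) ≫ ((x j).left ≫
          pullback.snd 𝒜.hom (Spec.map (CommRingCat.ofHom (algebraMap R K)))) ≫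
            Spec.map (CommRingCat.ofHom (algebraMap R K)) := by
      simp only [Category.assoc, pullback.condition]
    rw [h2, h1, h0]
    exact (congrArg (fun q => inv (Spec.map (CommRingCat.ofHom (algebraMap R K))) ≫ q)
      (Category.id_comp _)).trans (IsIso.inv_hom_id _)
  · obtain ⟨V, _, _, _, _, _, φ, hφ, hφi⟩ := K486.DomDvr.exists_strict_dvr R hF
    obtain ⟨s, -, hs⟩ := of_dvr' R K V (FractionRing V) φ hφ hφi 𝒜 hsab ℓ hℓ hℓp x htors hcompat j
    exact ⟨s.left, Over.w s, hs⟩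

end K486.TateReg
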